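import Cfsg.Agent.Lib.Solvable.SchurZassenhaus
import Mathlib.GroupTheory.Frattini
import Mathlib.GroupTheory.Nilpotent

/-!
Coprime action in ambient form: `A` and `K` are subgroups of a finite group `G`,
`A` normalises `K`, the orders are coprime and `A` or `K` is solvable.
-/

set_option autoImplicit false
open scoped Pointwise commutatorElement
open Subgroup MulAction

namespace CfsgLib.Solvable

variable {G : Type*} [Group G]

theorem inf_normalizer_le_centralizer {A K : Subgroup G} (hAK : A ≤ normalizer (K : Set G))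
    (hdis : Disjoint A K) :
    K ⊓ normalizer (A : Set G) ≤ centralizer (A : Set G) := by
  rintro k ⟨hk, hkA⟩ a ha
  have h1 : k * a * k⁻¹ * a⁻¹ ∈ A := mul_mem (((mem_normalizer_iff.mp hkA) a).mp ha) (inv_mem ha)
  have h2 : k * a * k⁻¹ * a⁻¹ ∈ K := by
    have := le_normalizer_iff.mp hAK a ha _ (inv_mem hk)
    simpa [mul_assoc] using mul_mem hk this
  have h3 := disjoint_def.mp hdis h1 h2
  rw [mul_inv_eq_one, mul_inv_eq_iff_eq_mul] at h3
  exact h3.symm

variable [Finite G]

/-- The conjugacy trick: an element fixed by `A` modulo `D` can be corrected by an element of `D`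
into the normaliser of `A`. -/
theorem exists_mul_mem_normalizer {A D : Subgroup G} (hAD : A ≤ normalizer (D : Set G))
    (hcop : (Nat.card A).Coprime (Nat.card D))
    (hsolv : Group.IsSolvable A ∨ Group.IsSolvable D) {x : G}
    (hx : ∀ a ∈ A, x⁻¹ * (a * x * a⁻¹) ∈ D) :
    ∃ d ∈ D, x * d ∈ normalizer (A : Set G) := by
  have hle : MulAut.conj x⁻¹ • A ≤ D ⊔ A := by
    rw [conj_smul_le_iff]
    intro a ha
    have : x⁻¹ * a * x⁻¹⁻¹ = x⁻¹ * (a * x * a⁻¹) * a := by simp [mul_assoc]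
    rw [this]
    exact mul_mem (mem_sup_left (hx a ha)) (mem_sup_right ha)
  obtain ⟨d, hd, h⟩ := exists_conj_eq_of_coprime hAD hle (card_conj_smul _ _) hcop.symm hsolv.symm
  refine ⟨d, hd, conj_smul_eq_self_iff.mp ?_⟩
  rw [← conj_smul_conj_smul, h, conj_smul_conj_smul, mul_inv_cancel, map_one, one_smul]

/-- A coset `x D` fixed by `A` contains a fixed point. -/
theorem exists_fixed_mem_coset {A K D : Subgroup G} (hAK : A ≤ normalizer (K : Set G))
    (hDK : D ≤ K) (hAD : A ≤ normalizer (D : Set G))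
    (hcop : (Nat.card A).Coprime (Nat.card K))
    (hsolv : Group.IsSolvable A ∨ Group.IsSolvable D) {x : G} (hxK : x ∈ K)
    (hx : ∀ a ∈ A, x⁻¹ * (a * x * a⁻¹) ∈ D) :
    ∃ d ∈ D, x * d ∈ K ⊓ centralizer (A : Set G) := by
  obtain ⟨d, hd, h⟩ := exists_mul_mem_normalizer hAD
    (hcop.coprime_dvd_right (card_dvd_of_le hDK)) hsolv hx
  exact ⟨d, hd, mul_mem hxK (hDK hd), inf_normalizer_le_centralizer hAK
    (disjoint_of_coprime_natCard hcop) ⟨mul_mem hxK (hDK hd), h⟩⟩

omit [Finite G] in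
theorem solvable_or_of_le {A K D : Subgroup G} (hDK : D ≤ K)
    (hsolv : Group.IsSolvable A ∨ Group.IsSolvable K) :
    Group.IsSolvable A ∨ Group.IsSolvable D :=
  hsolv.imp_right fun h =>
    @Group.isSolvable_of_isSolvable_injective _ _ _ _ _ (inclusion_injective hDK) h

/-- Glauberman's lemma, existence: if `A ⊔ K` preserves `S` and `K` is transitive on it then `A`
has a fixed point in `S`. -/
theorem exists_fixed_point_of_transitive {A K : Subgroup G} (hAK : A ≤ normalizer (K : Set G))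
    (hcop : (Nat.card A).Coprime (Nat.card K))
    (hsolv : Group.IsSolvable A ∨ Group.IsSolvable K)
    {Ω : Type*} [MulAction G Ω] {S : Set Ω} (hne : S.Nonempty)
    (hA : ∀ a ∈ A, ∀ w ∈ S, a • w ∈ S) (hK : ∀ k ∈ K, ∀ w ∈ S, k • w ∈ S)
    (htrans : ∀ v ∈ S, ∀ w ∈ S, ∃ k ∈ K, k • v = w) :
    ∃ w ∈ S, ∀ a ∈ A, a • w = w := by
  obtain ⟨w, hw⟩ := hne
  set L := stabilizer G w ⊓ (K ⊔ A) with hL
  have hLK : L ≤ normalizer (K : Set G) := inf_le_right.trans (sup_le le_normalizer hAK)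
  have hKL : K ⊔ L = K ⊔ A := by
    refine le_antisymm (sup_le le_sup_left inf_le_right) ?_
    intro x hx
    obtain ⟨k₁, hk₁, a, ha, rfl⟩ := (mem_sup_of_le_normalizer hAK).mp hx
    obtain ⟨k, hk, hkw⟩ := htrans w hw ((k₁ * a) • w)
      (by rw [mul_smul]; exact hK _ hk₁ _ (hA a ha w hw))
    have : k⁻¹ * (k₁ * a) ∈ L := by
      refine mem_inf.mpr ⟨?_, mul_mem (mem_sup_left (inv_mem hk)) hx⟩
      rw [mem_stabilizer_iff, mul_smul, ← hkw, inv_smul_smul]
    simpa using mul_mem (mem_sup_left hk : k ∈ K ⊔ L) (mem_sup_right this)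
  have cL : Nat.card L = Nat.card (K ⊓ L : Subgroup G) * Nat.card A := by
    rw [← relIndex_bot_left A, ← (disjoint_of_coprime_natCard hcop.symm).eq_bot, inf_relIndex_right,
      ← relIndex_sup_of_le_normalizer hAK, ← hKL, relIndex_sup_of_le_normalizer hLK,
      card_inf_mul_relIndex]
  have hn : ((K ⊓ L).subgroupOf L).Normal := by
    rw [inf_subgroupOf_right]
    exact normal_subgroupOf_of_le_normalizer hLK
  have cD := Nat.card_congr (subgroupOfEquivOfLe (inf_le_right : K ⊓ L ≤ L)).toEquiv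
  have hidx : ((K ⊓ L).subgroupOf L).index = Nat.card A := by
    have h := card_mul_index ((K ⊓ L).subgroupOf L)
    rw [cD, cL] at h
    exact Nat.eq_of_mul_eq_mul_left Nat.card_pos h
  obtain ⟨C, hC⟩ := exists_right_complement'_of_coprime (N := (K ⊓ L).subgroupOf L)
    (by rw [cD, hidx]; exact (hcop.coprime_dvd_right (card_dvd_of_le inf_le_left)).symm)
  have cC : Nat.card (C.map L.subtype) = Nat.card A := by
    rw [card_subtype, ← hidx, hC.symm.index_eq_card]
  obtain ⟨k, hk, hkC⟩ := exists_conj_eq_of_coprime hAK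
    (B' := C.map L.subtype) ((map_subtype_le C).trans inf_le_right) cC hcop.symm hsolv.symm
  refine ⟨k⁻¹ • w, hK _ (inv_mem hk) w hw, fun a ha => ?_⟩
  have h1 : k * a * k⁻¹ ∈ C.map L.subtype := by
    rw [← hkC, mem_conj_smul]
    simpa [mul_assoc] using ha
  have h2 : (k * a * k⁻¹) • w = w := mem_stabilizer_iff.mp ((map_subtype_le C) h1).1
  calc a • k⁻¹ • w = k⁻¹ • ((k * a * k⁻¹) • w) := by simp [← mul_smul, mul_assoc]
    _ = k⁻¹ • w := by rw [h2]

/-- Glauberman's lemma, conjugacy: two fixed points of `A` are in one orbit of `C_K(A)`. -/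
theorem exists_centralizer_smul_eq_of_fixed {A K : Subgroup G}
    (hAK : A ≤ normalizer (K : Set G)) (hcop : (Nat.card A).Coprime (Nat.card K))
    (hsolv : Group.IsSolvable A ∨ Group.IsSolvable K)
    {Ω : Type*} [MulAction G Ω] {v w : Ω} (hv : ∀ a ∈ A, a • v = v) (hw : ∀ a ∈ A, a • w = w)
    {k : G} (hk : k ∈ K) (hkv : k • v = w) :
    ∃ c ∈ K ⊓ centralizer (A : Set G), c • v = w := by
  have hAD : A ≤ normalizer ((stabilizer G v ⊓ K : Subgroup G) : Set G) := by
    rw [le_normalizer_iff]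
    intro a ha x hx0
    obtain ⟨hx, hxK⟩ := mem_inf.mp hx0
    refine mem_inf.mpr ⟨?_, le_normalizer_iff.mp hAK a ha x hxK⟩
    rw [mem_stabilizer_iff] at hx ⊢
    rw [mul_smul, hv _ (inv_mem ha), mul_smul, hx, hv a ha]
  obtain ⟨d, hd, hc⟩ := exists_fixed_mem_coset hAK (D := stabilizer G v ⊓ K) inf_le_right hAD hcop
    (solvable_or_of_le inf_le_right hsolv) hk (x := k) fun a ha => by
      refine mem_inf.mpr ⟨?_, mul_mem (inv_mem hk) (le_normalizer_iff.mp hAK a ha k hk)⟩
      rw [mem_stabilizer_iff, mul_smul, mul_smul, hv _ (inv_mem ha), mul_smul,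
        hkv, hw a ha, ← hkv, inv_smul_smul]
  refine ⟨k * d, hc, ?_⟩
  rw [mul_smul, mem_stabilizer_iff.mp hd.1, hkv]

/-- Glauberman for families of subgroups of `G` under conjugation. -/
theorem exists_invariant_subgroup_of_transitive {A K : Subgroup G}
    (hAK : A ≤ normalizer (K : Set G)) (hcop : (Nat.card A).Coprime (Nat.card K))
    (hsolv : Group.IsSolvable A ∨ Group.IsSolvable K) {S : Set (Subgroup G)} (hne : S.Nonempty)
    (hA : ∀ a ∈ A, ∀ P ∈ S, MulAut.conj a • P ∈ S)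
    (hK : ∀ k ∈ K, ∀ P ∈ S, MulAut.conj k • P ∈ S)
    (htrans : ∀ P ∈ S, ∀ Q ∈ S, ∃ k ∈ K, MulAut.conj k • P = Q) :
    ∃ P ∈ S, A ≤ normalizer (P : Set G) := by
  let _ : MulAction G (Subgroup G) := MulAction.compHom _ (MulAut.conj : G →* MulAut G)
  obtain ⟨P, hP, h⟩ := exists_fixed_point_of_transitive hAK hcop hsolv hne hA hK htrans
  exact ⟨P, hP, fun a ha => conj_smul_eq_self_iff.mp (h a ha)⟩

theorem exists_centralizer_conj_eq_of_invariant {A K : Subgroup G}
    (hAK : A ≤ normalizer (K : Set G)) (hcop : (Nat.card A).Coprime (Nat.card K))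
    (hsolv : Group.IsSolvable A ∨ Group.IsSolvable K) {P Q : Subgroup G}
    (hP : A ≤ normalizer (P : Set G)) (hQ : A ≤ normalizer (Q : Set G))
    {k : G} (hk : k ∈ K) (hPQ : MulAut.conj k • P = Q) :
    ∃ c ∈ K ⊓ centralizer (A : Set G), MulAut.conj c • P = Q := by
  let _ : MulAction G (Subgroup G) := MulAction.compHom _ (MulAut.conj : G →* MulAut G)
  exact exists_centralizer_smul_eq_of_fixed hAK hcop hsolv
    (fun a ha => conj_smul_eq_self_iff.mpr (hP ha))
    (fun a ha => conj_smul_eq_self_iff.mpr (hQ ha)) hk hPQ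

/-- The images in `G` of the Sylow `p`-subgroups of `K`. -/
theorem conj_smul_map_sylow {K : Subgroup G} {p : ℕ} [Fact p.Prime] {g : G}
    (hg : g ∈ normalizer (K : Set G)) (P : Sylow p K) :
    ∃ Q : Sylow p K, (Q : Subgroup K).map K.subtype = MulAut.conj g • (P : Subgroup K).map K.subtype := by
  have hle : MulAut.conj g • (P : Subgroup K).map K.subtype ≤ K :=
    conj_smul_le_of_mem_normalizer hg (map_subtype_le _)
  refine ⟨Sylow.ofCard ((MulAut.conj g • (P : Subgroup K).map K.subtype).subgroupOf K) ?_, ?_⟩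
  · rw [Nat.card_congr (subgroupOfEquivOfLe hle).toEquiv, card_conj_smul, card_subtype,
      P.card_eq_multiplicity]
  · rw [Sylow.coe_ofCard, map_subgroupOf_eq_of_le hle]

theorem exists_invariant_sylow {A K : Subgroup G} (hAK : A ≤ normalizer (K : Set G))
    (hcop : (Nat.card A).Coprime (Nat.card K))
    (hsolv : Group.IsSolvable A ∨ Group.IsSolvable K) (p : ℕ) [Fact p.Prime] :
    ∃ P : Sylow p K, A ≤ normalizer ((P : Subgroup K).map K.subtype : Set G) := by
  obtain ⟨_, ⟨P, rfl⟩, h⟩ := exists_invariant_subgroup_of_transitive hAK hcop hsolv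
    (S := Set.range fun P : Sylow p K => (P : Subgroup K).map K.subtype) (Set.range_nonempty _)
    (by rintro a ha _ ⟨P, rfl⟩; exact conj_smul_map_sylow (hAK ha) P)
    (by rintro k hk _ ⟨P, rfl⟩; exact conj_smul_map_sylow (le_normalizer hk) P)
    (by
      rintro _ ⟨P, rfl⟩ _ ⟨Q, rfl⟩
      obtain ⟨k, hk⟩ := exists_smul_eq K P Q
      refine ⟨k, k.2, ?_⟩
      have h := congr_arg (fun R : Sylow p K => (R : Subgroup K).map K.subtype) hk
      change (MulAut.conj k • (P : Subgroup K)).map K.subtype = _ at h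
      rwa [map_conj_smul] at h)
  exact ⟨P, h⟩

theorem exists_invariant_sylow_conj {A K : Subgroup G} (hAK : A ≤ normalizer (K : Set G))
    (hcop : (Nat.card A).Coprime (Nat.card K))
    (hsolv : Group.IsSolvable A ∨ Group.IsSolvable K) {p : ℕ} [Fact p.Prime] (P Q : Sylow p K)
    (hP : A ≤ normalizer ((P : Subgroup K).map K.subtype : Set G))
    (hQ : A ≤ normalizer ((Q : Subgroup K).map K.subtype : Set G)) :
    ∃ c : K, (c : G) ∈ centralizer (A : Set G) ∧ MulAut.conj c • P = Q := by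
  obtain ⟨k, hk⟩ := exists_smul_eq K P Q
  have h := congr_arg (fun R : Sylow p K => (R : Subgroup K).map K.subtype) hk
  change (MulAut.conj k • (P : Subgroup K)).map K.subtype = _ at h
  rw [map_conj_smul] at h
  obtain ⟨c, ⟨hcK, hc⟩, hPQ⟩ :=
    exists_centralizer_conj_eq_of_invariant hAK hcop hsolv hP hQ k.2 h
  refine ⟨⟨c, hcK⟩, hc, Sylow.ext (map_injective K.subtype_injective ?_)⟩
  change (MulAut.conj (⟨c, hcK⟩ : K) • (P : Subgroup K)).map K.subtype = _
  rw [map_conj_smul]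
  exact hPQ

theorem exists_invariant_sylow_ge {A K : Subgroup G} (hAK : A ≤ normalizer (K : Set G))
    (hcop : (Nat.card A).Coprime (Nat.card K))
    (hsolv : Group.IsSolvable A ∨ Group.IsSolvable K) (p : ℕ) [Fact p.Prime] {U : Subgroup G}
    (hUK : U ≤ K) (hU : IsPGroup p U) (hUA : A ≤ normalizer (U : Set G)) :
    ∃ P : Sylow p K, U ≤ (P : Subgroup K).map K.subtype ∧
      A ≤ normalizer ((P : Subgroup K).map K.subtype : Set G) := by
  obtain ⟨V, hUV, hV⟩ := (Set.toFinite
    {V : Subgroup G | V ≤ K ∧ IsPGroup p V ∧ A ≤ normalizer (V : Set G)}).exists_le_maximal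
      ⟨hUK, hU, hUA⟩
  obtain ⟨hVK, hVp, hVA⟩ := hV.prop
  set M := K ⊓ normalizer (V : Set G) with hM
  have hAM : A ≤ normalizer (M : Set G) := fun a ha =>
    inf_normalizer_le_normalizer_inf ⟨hAK ha, le_normalizer (hVA ha)⟩
  obtain ⟨S, hS⟩ := exists_invariant_sylow hAM (hcop.coprime_dvd_right (card_dvd_of_le inf_le_left))
    (solvable_or_of_le inf_le_left hsolv) p
  have hVM : V ≤ M := le_inf hVK le_normalizer
  have : (V.subgroupOf M).Normal := normal_subgroupOf_of_le_normalizer inf_le_right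
  have hVS : V ≤ (S : Subgroup M).map M.subtype := by
    obtain ⟨T, hT⟩ := (hVp.of_equiv (subgroupOfEquivOfLe hVM).symm).exists_le_sylow
    obtain ⟨g, hg⟩ := exists_smul_eq M T S
    rw [← map_subgroupOf_eq_of_le hVM, ← hg]
    refine map_mono ?_
    rw [← Normal.conj_smul_eq_self g (V.subgroupOf M)]
    exact pointwise_smul_le_pointwise_smul_iff.mpr hT
  have hSV : (S : Subgroup M).map M.subtype = V := le_antisymm
    (hV.2 ⟨(map_subtype_le _).trans inf_le_left, S.2.map _, hS⟩ hVS) hVS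
  obtain ⟨P, hP⟩ := (hVp.of_equiv (subgroupOfEquivOfLe hVK).symm).exists_le_sylow
  have hVP : V ≤ (P : Subgroup K).map K.subtype := by
    rw [← map_subgroupOf_eq_of_le hVK]
    exact map_mono hP
  suffices h : (P : Subgroup K).map K.subtype = V from ⟨P, h ▸ hUV, h ▸ hVA⟩
  by_contra hne
  set R := (P : Subgroup K).map K.subtype with hR
  have hRp : IsPGroup p R := P.2.map _
  have : Group.IsNilpotent R := hRp.isNilpotent
  have hlt : V.subgroupOf R < ⊤ := by
    rw [lt_top_iff_ne_top, Ne, subgroupOf_eq_top]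
    exact fun h => hne (le_antisymm h hVP)
  obtain ⟨x, hx, hxV⟩ := SetLike.exists_of_lt
    (Group.normalizerCondition_of_isNilpotent (V.subgroupOf R) hlt)
  have hxn : (x : G) ∈ normalizer (V : Set G) := by
    rw [← map_subgroupOf_eq_of_le hVP]
    exact le_normalizer_map R.subtype ⟨x, hx, rfl⟩
  have hxM : (x : G) ∈ M := ⟨(map_subtype_le (P : Subgroup K)) x.2, hxn⟩
  -- `V` is Sylow in `M`, yet `⟨V, x⟩` is a larger p-subgroup of `M`
  have hle : V ⊔ zpowers (x : G) ≤ R := sup_le hVP (zpowers_le.mpr x.2)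
  have hleM : V ⊔ zpowers (x : G) ≤ M := sup_le hVM (zpowers_le.mpr hxM)
  have hS' : (S : Subgroup M) ≤ (V ⊔ zpowers (x : G)).subgroupOf M := fun y hy =>
    mem_sup_left (hSV ▸ mem_map_of_mem M.subtype hy)
  have h4 := S.3 ((hRp.to_le hle).of_equiv (subgroupOfEquivOfLe hleM).symm) hS'
  apply hxV
  rw [mem_subgroupOf, ← hSV, ← h4, map_subgroupOf_eq_of_le hleM]
  exact mem_sup_right (mem_zpowers _)

/-- Fixed points pass to quotients. -/
theorem exists_fixed_of_fixed_mod {A K N : Subgroup G} (hAK : A ≤ normalizer (K : Set G))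
    (hcop : (Nat.card A).Coprime (Nat.card K))
    (hsolv : Group.IsSolvable A ∨ Group.IsSolvable K) (hNK : N ≤ K)
    (hN : K ≤ normalizer (N : Set G)) (hNA : A ≤ normalizer (N : Set G)) {k : G} (hk : k ∈ K)
    (hfix : ∀ a ∈ A, a * k * a⁻¹ * k⁻¹ ∈ N) :
    ∃ c ∈ K ⊓ centralizer (A : Set G), k⁻¹ * c ∈ N := by
  obtain ⟨d, hd, h⟩ := exists_fixed_mem_coset hAK hNK hNA hcop (solvable_or_of_le hNK hsolv) hk
    fun a ha => by
      have := le_normalizer_iff.mp hN k⁻¹ (inv_mem hk) _ (hfix a ha)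
      simpa [mul_assoc] using this
  exact ⟨k * d, h, by simpa using hd⟩

omit [Finite G] in
theorem le_normalizer_commutator_left (H K : Subgroup G) :
    H ≤ normalizer ((⁅H, K⁆ : Subgroup G) : Set G) := by
  rw [Subgroup.commutator_def, le_normalizer_closure_iff]
  rintro x hx _ ⟨y, hy, b, hb, rfl⟩
  have : x * ⁅y, b⁆ * x⁻¹ = ⁅x * y, b⁆ * ⁅x, b⁆⁻¹ := by
    simp [commutatorElement_def, mul_assoc]
  rw [this]
  exact mul_mem (subset_closure ⟨x * y, mul_mem hx hy, b, hb, rfl⟩)
    (inv_mem (subset_closure ⟨x, hx, b, hb, rfl⟩))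

omit [Finite G] in
theorem le_normalizer_commutator_right (H K : Subgroup G) :
    K ≤ normalizer ((⁅H, K⁆ : Subgroup G) : Set G) := by
  rw [commutator_comm]
  exact le_normalizer_commutator_left K H

omit [Finite G] in
theorem commutator_le_of_normalizes {A K : Subgroup G} (hAK : A ≤ normalizer (K : Set G)) :
    ⁅K, A⁆ ≤ K := by
  rw [commutator_le]
  intro k hk a ha
  have := le_normalizer_iff.mp hAK a ha _ (inv_mem hk)
  simpa [commutatorElement_def, mul_assoc] using mul_mem hk this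

theorem commutator_sup_centralizer {A K : Subgroup G} (hAK : A ≤ normalizer (K : Set G))
    (hcop : (Nat.card A).Coprime (Nat.card K))
    (hsolv : Group.IsSolvable A ∨ Group.IsSolvable K) :
    ⁅K, A⁆ ⊔ (K ⊓ centralizer (A : Set G)) = K := by
  refine le_antisymm (sup_le (commutator_le_of_normalizes hAK) inf_le_left) fun k hk => ?_
  obtain ⟨c, hc, h⟩ := exists_fixed_of_fixed_mod hAK hcop hsolv (commutator_le_of_normalizes hAK)
    (le_normalizer_commutator_left K A) (le_normalizer_commutator_right K A) hk fun a ha => by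
      rw [← commutatorElement_def, commutator_comm]
      exact commutator_mem_commutator ha hk
  have : k = c * (k⁻¹ * c)⁻¹ := by simp
  rw [this]
  exact mul_mem (mem_sup_right hc) (inv_mem (mem_sup_left h))

theorem commutator_commutator_eq {A K : Subgroup G} (hAK : A ≤ normalizer (K : Set G))
    (hcop : (Nat.card A).Coprime (Nat.card K))
    (hsolv : Group.IsSolvable A ∨ Group.IsSolvable K) :
    ⁅⁅K, A⁆, A⁆ = ⁅K, A⁆ := by
  refine le_antisymm (commutator_mono (commutator_le_of_normalizes hAK) le_rfl) ?_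
  rw [commutator_le]
  intro k hk a ha
  rw [← commutator_sup_centralizer hAK hcop hsolv] at hk
  obtain ⟨n, hn, c, hc, rfl⟩ := (mem_sup_of_le_normalizer
    (inf_le_left.trans (le_normalizer_commutator_left K A))).mp hk
  have h1 : ⁅n * c, a⁆ = ⁅n, a⁆ := by
    have hca : c * a * c⁻¹ = a := by rw [mul_inv_eq_iff_eq_mul]; exact (hc.2 a ha).symm
    simp only [commutatorElement_def, mul_inv_rev]
    calc n * c * a * (c⁻¹ * n⁻¹) * a⁻¹ = n * (c * a * c⁻¹) * n⁻¹ * a⁻¹ := by
          simp only [mul_assoc]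
      _ = n * a * n⁻¹ * a⁻¹ := by rw [hca]
  rw [h1]
  exact commutator_mem_commutator hn ha

theorem centralizer_of_product {A K X Y : Subgroup G}
    (hcop : (Nat.card A).Coprime (Nat.card K))
    (hsolv : Group.IsSolvable A ∨ Group.IsSolvable K) (hX : X ≤ K)
    (hXA : A ≤ normalizer (X : Set G)) (hYA : A ≤ normalizer (Y : Set G))
    {x y : G} (hx : x ∈ X) (hy : y ∈ Y) (hk : x * y ∈ centralizer (A : Set G)) :
    ∃ x' ∈ X ⊓ centralizer (A : Set G), ∃ y' ∈ Y ⊓ centralizer (A : Set G), x * y = x' * y' := by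
  have key : ∀ a ∈ A, x⁻¹ * (a * x * a⁻¹) ∈ X ⊓ Y := by
    intro a ha
    refine mem_inf.mpr ⟨mul_mem (inv_mem hx) (le_normalizer_iff.mp hXA a ha x hx), ?_⟩
    have h : x⁻¹ * (a * x * a⁻¹) = y * (a * y⁻¹ * a⁻¹) := by
      have := hk a ha
      calc x⁻¹ * (a * x * a⁻¹) = x⁻¹ * (a * (x * y)) * (y⁻¹ * a⁻¹) := by simp [mul_assoc]
        _ = x⁻¹ * ((x * y) * a) * (y⁻¹ * a⁻¹) := by rw [this]
        _ = y * (a * y⁻¹ * a⁻¹) := by simp [mul_assoc]
    rw [h]
    exact mul_mem hy (le_normalizer_iff.mp hYA a ha _ (inv_mem hy))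
  obtain ⟨d, hd, hc⟩ := exists_fixed_mem_coset hXA (D := X ⊓ Y) inf_le_left
    (fun a ha => inf_normalizer_le_normalizer_inf ⟨hXA ha, hYA ha⟩)
    (hcop.coprime_dvd_right (card_dvd_of_le hX))
    (solvable_or_of_le (inf_le_left.trans hX) hsolv) hx key
  refine ⟨x * d, hc, d⁻¹ * y, mem_inf.mpr ⟨mul_mem (inv_mem (mem_inf.mp hd).2) hy, ?_⟩, by simp [mul_assoc]⟩
  have : d⁻¹ * y = (x * d)⁻¹ * (x * y) := by simp [mul_assoc]
  rw [this]
  exact mul_mem (inv_mem (mem_inf.mp hc).2) hk

/-- An action trivial on the Frattini quotient and coprime on the Frattini subgroup is trivial. -/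
theorem le_centralizer_of_trivial_on_frattini_quotient {A K : Subgroup G}
    (hcop : (Nat.card A).Coprime (Nat.card (frattini K)))
    (htriv : ∀ a ∈ A, ∀ k ∈ K, a * k * a⁻¹ * k⁻¹ ∈ (frattini K).map K.subtype) :
    A ≤ centralizer (K : Set G) := by
  set D := (frattini K).map K.subtype with hD
  have hDK : D ≤ K := map_subtype_le _
  have hAD : A ≤ normalizer (D : Set G) := by
    rw [le_normalizer_iff]
    intro a ha d hd
    have := mul_mem (htriv a ha d (hDK hd)) hd
    simpa [mul_assoc] using this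
  have hKD : K ≤ normalizer (D : Set G) := by
    have := le_normalizer_map K.subtype (H := frattini K)
    rwa [normalizer_eq_top, ← MonoidHom.range_eq_map, range_subtype] at this
  have cD : Nat.card D = Nat.card (frattini K) := card_subtype _ _
  have hsolD : Group.IsSolvable D := by
    have : Group.IsNilpotent (frattini K) := frattini_nilpotent
    exact Group.isSolvable_of_surjective
      (f := ((frattini K).equivMapOfInjective _ K.subtype_injective).toMonoidHom)
      ((frattini K).equivMapOfInjective _ K.subtype_injective).surjective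
  have key : (centralizer (A : Set G)).subgroupOf K ⊔ frattini K = ⊤ := by
    refine eq_top_iff.mpr fun k _ => ?_
    have hx : ∀ a ∈ A, (k : G)⁻¹ * (a * k * a⁻¹) ∈ D := fun a ha => by
      have := le_normalizer_iff.mp hKD (k : G)⁻¹ (inv_mem k.2) _ (htriv a ha k k.2)
      simpa [mul_assoc] using this
    obtain ⟨d, hd, hn⟩ := exists_mul_mem_normalizer hAD (cD ▸ hcop) (Or.inr hsolD) hx
    have hkd : (k : G) * d ∈ K := mul_mem k.2 (hDK hd)
    have hc : (k : G) * d ∈ centralizer (A : Set G) := by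
      intro a ha
      have h1 : a * (k * d) * a⁻¹ * (k * d)⁻¹ ∈ A := by
        have := ((mem_normalizer_iff.mp hn) a⁻¹).mp (inv_mem ha)
        simpa [mul_assoc] using mul_mem ha this
      have h2 : a * (k * d) * a⁻¹ * (k * d)⁻¹ ∈ D := htriv a ha _ hkd
      have h3 := disjoint_def.mp (disjoint_of_coprime_natCard (H := A) (K := D) (cD ▸ hcop)) h1 h2
      rwa [mul_inv_eq_one, mul_inv_eq_iff_eq_mul] at h3
    obtain ⟨d', hd', rfl⟩ := mem_map.mp hd
    have hk : k = ⟨_, hkd⟩ * d'⁻¹ := Subtype.ext (by simp)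
    rw [hk]
    exact mul_mem (mem_sup_left (mem_subgroupOf.mpr hc)) (mem_sup_right (inv_mem hd'))
  have htop := subgroupOf_eq_top.mp (frattini_nongenerating key)
  exact le_centralizer_iff.mpr htop

/-- A nontrivial normal subgroup of a finite p-group meets the centre nontrivially. -/
theorem exists_ne_one_mem_inf_center_of_normal {R : Type*} [Group R] [Finite R] {p : ℕ}
    [Fact p.Prime] (hR : IsPGroup p R) {N : Subgroup R} [N.Normal] (hN : N ≠ ⊥) :
    ∃ z ∈ N ⊓ center R, z ≠ 1 := by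
  have hcard : p ∣ Nat.card N := by
    obtain ⟨n, hn⟩ := (hR.to_subgroup N).exists_card_eq
    rw [hn]
    exact dvd_pow_self p fun h => hN (card_eq_one.mp (by rw [hn, h, pow_zero]))
  have hR' : IsPGroup p (ConjAct R) := hR.of_equiv ConjAct.toConjAct
  obtain ⟨z, hz, hne⟩ := hR'.exists_fixed_point_of_prime_dvd_card_of_fixed_point N hcard
    (a := 1) (fun g => smul_one g)
  refine ⟨z, mem_inf.mpr ⟨z.2, mem_center_iff.mpr fun g => ?_⟩, fun h => hne (Subtype.ext h.symm)⟩
  have h := congr_arg Subtype.val (hz (ConjAct.toConjAct g))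
  rw [ConjAct.Subgroup.val_conj_smul, ConjAct.toConjAct_smul, mul_inv_eq_iff_eq_mul] at h
  exact h

/-- Thompson's `P × Q` lemma. -/
theorem thompson_pxq {p : ℕ} [Fact p.Prime] {P Q U : Subgroup G} (hP : IsPGroup p P)
    (hQ : (Nat.card Q).Coprime p) (hU : IsPGroup p U)
    (hPQ : P ≤ centralizer (Q : Set G))
    (hPU : P ≤ normalizer (U : Set G)) (hQU : Q ≤ normalizer (U : Set G))
    (hC : U ⊓ centralizer (P : Set G) ≤ centralizer (Q : Set G)) :
    Q ≤ centralizer (U : Set G) := by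
  rw [le_centralizer_iff]
  by_contra hUQ
  set V := U ⊓ centralizer (Q : Set G) with hV
  have hPV : P ≤ normalizer (V : Set G) := fun x hx =>
    inf_normalizer_le_normalizer_inf ⟨hPU hx, le_normalizer (hPQ hx)⟩
  have : Group.IsNilpotent U := hU.isNilpotent
  have hlt : V.subgroupOf U < ⊤ := by
    rw [lt_top_iff_ne_top, Ne, subgroupOf_eq_top]
    exact fun h => hUQ (h.trans inf_le_right)
  obtain ⟨y, hy, hyV⟩ := SetLike.exists_of_lt
    (Group.normalizerCondition_of_isNilpotent (V.subgroupOf U) hlt)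
  have hyn : (y : G) ∈ normalizer (V : Set G) := by
    have hVU : V ≤ U := inf_le_left
    rw [← map_subgroupOf_eq_of_le hVU]
    exact le_normalizer_map U.subtype ⟨y, hy, rfl⟩
  set W := U ⊓ normalizer (V : Set G) with hW
  have hPW : P ≤ normalizer (W : Set G) := fun x hx =>
    inf_normalizer_le_normalizer_inf ⟨hPU hx, le_normalizer (hPV hx)⟩
  -- a point of `W/V`, different from the trivial one, fixed by `P`
  obtain ⟨w, hwW, hwV, hfix⟩ : ∃ w ∈ W, w ∉ V ∧ ∀ x ∈ P, x * w * x⁻¹ * w⁻¹ ∈ V := by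
    set R := W ⊔ P with hR
    have hVW : V ≤ W := le_inf inf_le_left le_normalizer
    have hRV : R ≤ normalizer (V : Set G) := sup_le inf_le_right hPV
    have hRW : R ≤ normalizer (W : Set G) := sup_le le_normalizer hPW
    have : (V.subgroupOf R).Normal := normal_subgroupOf_of_le_normalizer hRV
    have : (W.subgroupOf R).Normal := normal_subgroupOf_of_le_normalizer hRW
    have hRp : IsPGroup p R := IsPGroup.to_sup_of_normal_left' (hU.to_le inf_le_left) hP hPW
    set f := QuotientGroup.mk' (V.subgroupOf R) with hf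
    have hN : ((W.subgroupOf R).map f).Normal :=
      Normal.map inferInstance _ (QuotientGroup.mk'_surjective _)
    have : Group.IsNilpotent (R ⧸ V.subgroupOf R) :=
      (hRp.to_quotient (V.subgroupOf R)).isNilpotent
    have hne : (W.subgroupOf R).map f ≠ ⊥ := by
      rw [Ne, Subgroup.map_eq_bot_iff, hf, QuotientGroup.ker_mk']
      intro h
      have : (⟨y, mem_sup_left ⟨y.2, hyn⟩⟩ : R) ∈ V.subgroupOf R :=
        h (mem_subgroupOf.mpr (⟨y.2, hyn⟩ : (y : G) ∈ W))
      exact hyV (mem_subgroupOf.mpr (mem_subgroupOf.mp this))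
    obtain ⟨z, hz, hzne⟩ := exists_ne_one_mem_inf_center_of_normal
      ((hRp.to_quotient (V.subgroupOf R))) hne
    obtain ⟨w, hw, rfl⟩ := mem_map.mp hz.1
    refine ⟨w, mem_subgroupOf.mp hw, fun h => hzne ?_, fun x hx => ?_⟩
    · exact (QuotientGroup.eq_one_iff w).mpr (mem_subgroupOf.mpr h)
    · have h := (mem_center_iff.mp hz.2) (f ⟨x, mem_sup_right hx⟩)
      rw [← map_mul, ← map_mul, eq_comm, ← mul_inv_eq_one, ← map_inv, ← map_mul] at h
      have h' := mem_subgroupOf.mp ((QuotientGroup.eq_one_iff _).mp h)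
      have h'' := (mem_normalizer_iff.mp (hPV hx) _).mp h'
      have := inv_mem h'
      simpa [mul_assoc] using this
  apply hwV
  refine ⟨hwW.1, fun q hq => ?_⟩
  set c := w⁻¹ * (q * w * q⁻¹) with hc
  have hcU : c ∈ U := mul_mem (inv_mem hwW.1) (le_normalizer_iff.mp hQU q hq w hwW.1)
  -- conjugation by `w` and by `q w q⁻¹` agree on `V`
  have hcV : ∀ v ∈ V, v * c = c * v := by
    intro v hv
    have h1 : w * v * w⁻¹ ∈ V := (mem_normalizer_iff.mp hwW.2 v).mp hv
    have e1 : q * (w * v * w⁻¹) = (w * v * w⁻¹) * q := h1.2 q hq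
    have e2' : q⁻¹ * v = v * q⁻¹ := (mem_inf.mp hv).2 q⁻¹ (inv_mem hq)
    calc v * c = w⁻¹ * ((w * v * w⁻¹) * q) * w * q⁻¹ := by simp [hc, mul_assoc]
      _ = w⁻¹ * (q * (w * v * w⁻¹)) * w * q⁻¹ := by rw [e1]
      _ = w⁻¹ * q * w * (v * q⁻¹) := by simp [mul_assoc]
      _ = w⁻¹ * q * w * (q⁻¹ * v) := by rw [e2']
      _ = c * v := by simp [hc, mul_assoc]
  have hcP : c ∈ centralizer (P : Set G) := by
    intro x hx
    set v := x * w * x⁻¹ * w⁻¹ with hv
    have hvV : v ∈ V := hfix x hx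
    have e1 : q * v⁻¹ = v⁻¹ * q := (mem_inf.mp (inv_mem hvV)).2 q hq
    have hxq : q * x = x * q := hPQ hx q hq
    have hxq' : x * q⁻¹ = q⁻¹ * x := (hPQ hx q⁻¹ (inv_mem hq)).symm
    have hcv' : v * c * v⁻¹ = c := by rw [mul_inv_eq_iff_eq_mul]; exact hcV v hvV
    have hxw : x * w * x⁻¹ = v * w := by simp [hv]
    have h1 : x * c * x⁻¹ = (x * w * x⁻¹)⁻¹ * q * (x * w * x⁻¹) * q⁻¹ := by
      calc x * c * x⁻¹ = x * w⁻¹ * (q * w) * (q⁻¹ * x⁻¹) := by simp [hc, mul_assoc]
        _ = (x * w * x⁻¹)⁻¹ * (x * q) * w * (q⁻¹ * x⁻¹) := by simp [mul_assoc]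
        _ = (x * w * x⁻¹)⁻¹ * q * x * w * (q⁻¹ * x⁻¹) := by rw [← hxq]; simp [mul_assoc]
        _ = _ := by
          have : q⁻¹ * x⁻¹ = x⁻¹ * q⁻¹ := by rw [← mul_inv_rev, ← mul_inv_rev, hxq]
          rw [this]; simp [mul_assoc]
    have h2 : x * c * x⁻¹ = c := by
      rw [h1, hxw]
      calc (v * w)⁻¹ * q * (v * w) * q⁻¹ = w⁻¹ * (v⁻¹ * q) * v * w * q⁻¹ := by simp [mul_assoc]
        _ = w⁻¹ * (q * v⁻¹) * v * w * q⁻¹ := by rw [e1]
        _ = c := by simp [hc, mul_assoc]
    rwa [mul_inv_eq_iff_eq_mul] at h2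
  have hcQ : c ∈ centralizer (Q : Set G) := hC ⟨hcU, hcP⟩
  have hcq : Commute q c := hcQ q hq
  have hqw : q * w * q⁻¹ = w * c := by simp [hc]
  have hiter : ∀ i : ℕ, q ^ i * w * (q ^ i)⁻¹ = w * c ^ i := by
    intro i
    induction i with
    | zero => simp
    | succ i ih =>
      calc q ^ (i + 1) * w * (q ^ (i + 1))⁻¹ = q * (q ^ i * w * (q ^ i)⁻¹) * q⁻¹ := by
            simp [pow_succ', mul_assoc]
        _ = q * w * q⁻¹ * (q * c ^ i * q⁻¹) := by rw [ih]; simp [mul_assoc]
        _ = w * c ^ (i + 1) := by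
          rw [hqw, (hcq.pow_right i).eq, mul_inv_cancel_right, mul_assoc, ← pow_succ']
  have hc1 : c = 1 := by
    have h := hiter (Nat.card Q)
    have hq1 : q ^ Nat.card Q = 1 := by
      have := pow_card_eq_one' (x := (⟨q, hq⟩ : Q))
      exact congr_arg Subtype.val this
    rw [hq1, inv_one, one_mul, mul_one, left_eq_mul] at h
    obtain ⟨k, hk⟩ := hU ⟨c, hcU⟩
    have hk' : c ^ p ^ k = 1 := congr_arg Subtype.val hk
    have : orderOf c = 1 := Nat.eq_one_of_dvd_coprimes (Nat.Coprime.pow_right k hQ)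
      (orderOf_dvd_of_pow_eq_one h) (orderOf_dvd_of_pow_eq_one hk')
    exact orderOf_eq_one_iff.mp this
  rw [hc1, mul_one, mul_inv_eq_iff_eq_mul] at hqw
  exact hqw

end CfsgLib.Solvable
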