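import Cfsg.Agent.Lib.Solvable.SchurZassenhaus
import Cfsg.Prelude.Def_OddOrderLocal

/-!
Hall's theorems for finite solvable groups, for a set of primes `π` (`Cfsg.IsPiHall`) and for
a coprime factorisation `m * n` of the order.
-/

set_option autoImplicit false
open scoped Pointwise
open Subgroup

namespace CfsgLib.Solvable

universe u

theorem exists_normal_pgroup_ne_bot {G : Type u} [Group G] [Finite G] [Group.IsSolvable G]
    [Nontrivial G] :
    ∃ (p : ℕ) (N : Subgroup G), p.Prime ∧ N.Normal ∧ IsPGroup p N ∧ N ≠ ⊥ := by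
  obtain ⟨A, -, hA⟩ := exists_minimal_le_of_wellFoundedLT
    (fun K : Subgroup G => K.Normal ∧ K ≠ ⊥) ⊤ ⟨inferInstance, top_ne_bot⟩
  obtain ⟨hAn, hA1⟩ := hA.prop
  have hcomm : ⁅A, A⁆ = ⊥ := by
    by_contra h
    exact (Group.IsSolvable.commutator_lt_of_ne_bot hA1).ne
      (le_antisymm (Subgroup.commutator_le_self A) (hA.2 ⟨inferInstance, h⟩ (Subgroup.commutator_le_self A)))
  have : IsMulCommutative A :=
    le_centralizer_iff_isMulCommutative.mp (commutator_eq_bot_iff_le_centralizer.mp hcomm)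
  have hne : Nat.card A ≠ 1 := fun h => hA1 (card_eq_one.mp h)
  obtain ⟨p, hp, hpA⟩ := Nat.exists_prime_and_dvd hne
  have : Fact p.Prime := ⟨hp⟩
  obtain ⟨P⟩ : Nonempty (Sylow p A) := inferInstance
  have hPn : (P : Subgroup A).Normal := inferInstance
  have hPc : (P : Subgroup A).Characteristic := Sylow.characteristic_of_normal P hPn
  refine ⟨p, (P : Subgroup A).map A.subtype, hp, inferInstance, P.2.map _, fun h => ?_⟩
  exact P.ne_bot_of_dvd_card hpA (map_injective A.subtype_injective (h.trans (Subgroup.map_bot _).symm))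

variable {G : Type u} [Group G]

theorem card_comap_mk' [Finite G] (N : Subgroup G) [N.Normal] (H : Subgroup (G ⧸ N)) :
    Nat.card (H.comap (QuotientGroup.mk' N)) = Nat.card N * Nat.card H := by
  refine Nat.eq_of_mul_eq_mul_right
    (Nat.pos_of_ne_zero (index_ne_zero_of_finite (H := H.comap (QuotientGroup.mk' N)))) ?_
  rw [card_mul_index, index_comap_of_surjective _ (QuotientGroup.mk'_surjective N), mul_assoc,
    card_mul_index, ← card_mul_index N, index_eq_card]

theorem isPGroup_prime_eq {p : ℕ} [Fact p.Prime] [Finite G] {N : Subgroup G} (hN : IsPGroup p N)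
    {q : ℕ} (hq : q.Prime) (h : q ∣ Nat.card N) : q = p := by
  obtain ⟨k, hk⟩ := hN.exists_card_eq
  rw [hk] at h
  exact (Nat.prime_dvd_prime_iff_eq hq Fact.out).mp (hq.dvd_of_dvd_pow h)

/-- **Hall's theorem**: a finite solvable group has a Hall `π`-subgroup containing a conjugate of
every `π`-subgroup. -/
theorem exists_isPiHall_dominant (π : Set ℕ) : ∀ (n : ℕ) (G : Type u) [Group G] [Finite G]
    [Group.IsSolvable G], Nat.card G = n → ∃ H : Subgroup G, Cfsg.IsPiHall π H ∧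
      ∀ K : Subgroup G, (∀ p : ℕ, p.Prime → p ∣ Nat.card K → p ∈ π) →
        ∃ g : G, MulAut.conj g • K ≤ H := by
  intro n
  induction n using Nat.strong_induction_on with
  | _ n ih =>
  intro G _ _ _ hn
  rcases subsingleton_or_nontrivial G with hG | hG
  · refine ⟨⊥, ⟨fun p hp h => ?_, fun p hp _ h => ?_⟩, fun K _ => ⟨1, ?_⟩⟩
    · rw [card_bot, Nat.dvd_one] at h
      exact absurd h hp.ne_one
    · rw [index_bot, Nat.card_unique, Nat.dvd_one] at h
      exact absurd h hp.ne_one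
    · exact fun x _ => mem_bot.mpr (Subsingleton.elim x 1)
  obtain ⟨p, N, hp, hNn, hNp, hN1⟩ := exists_normal_pgroup_ne_bot (G := G)
  have : Fact p.Prime := ⟨hp⟩
  have hlt : Nat.card (G ⧸ N) < n := by
    rw [← hn, ← index_eq_card, ← card_mul_index N]
    exact lt_mul_of_one_lt_left (Nat.pos_of_ne_zero index_ne_zero_of_finite)
      (N.one_lt_card_iff_ne_bot.mpr hN1)
  obtain ⟨Hb, ⟨hHb1, hHb2⟩, hdom⟩ := ih _ hlt (G ⧸ N) rfl
  set f := QuotientGroup.mk' N with hf
  have hsurj : Function.Surjective f := QuotientGroup.mk'_surjective N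
  have key : ∀ K : Subgroup G, (∀ q : ℕ, q.Prime → q ∣ Nat.card K → q ∈ π) →
      ∃ g : G, MulAut.conj g • K ≤ Hb.comap f := by
    intro K hK
    obtain ⟨g, hg⟩ := hdom (K.map f) fun q hq h => hK q hq (h.trans (card_map_dvd _ f))
    obtain ⟨g, rfl⟩ := hsurj g
    rw [← map_conj_smul, map_le_iff_le_comap] at hg
    exact ⟨g, hg⟩
  have cL := card_comap_mk' N Hb
  have iL : (Hb.comap f).index = Hb.index := index_comap_of_surjective _ hsurj
  by_cases hpi : p ∈ π
  · refine ⟨Hb.comap f, ⟨fun q hq h => ?_, fun q hq hqπ h => hHb2 q hq hqπ (iL ▸ h)⟩, key⟩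
    rw [cL] at h
    rcases hq.dvd_mul.mp h with h | h
    · exact (isPGroup_prime_eq hNp hq h).symm ▸ hpi
    · exact hHb1 q hq h
  have hcop : ∀ k : ℕ, (∀ q : ℕ, q.Prime → q ∣ k → q ∈ π) → (Nat.card N).Coprime k := fun k hk =>
    Nat.coprime_of_dvd fun q hq h1 h2 => hpi (isPGroup_prime_eq hNp hq h1 ▸ hk q hq h2)
  set L := Hb.comap f with hL
  have hNL : N ≤ L := by
    rw [hL, ← map_le_iff_le_comap, (Subgroup.map_eq_bot_iff N).mpr (QuotientGroup.ker_mk' N).ge]
    exact bot_le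
  have cNL := Nat.card_congr (subgroupOfEquivOfLe hNL).toEquiv
  have hidx : (N.subgroupOf L).index = Nat.card Hb := by
    have h := card_mul_index (N.subgroupOf L)
    rw [cNL, cL] at h
    exact Nat.eq_of_mul_eq_mul_left Nat.card_pos h
  obtain ⟨C, hC⟩ := exists_right_complement'_of_coprime (N := N.subgroupOf L)
    (by rw [cNL, hidx]; exact hcop _ hHb1)
  set H := C.map L.subtype with hH
  have cH : Nat.card H = Nat.card Hb := by
    rw [hH, Subgroup.card_subtype, ← hidx, hC.symm.index_eq_card]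
  have hHN : N ⊔ H = L := by
    rw [hH, ← map_subgroupOf_eq_of_le hNL, ← Subgroup.map_sup, hC.sup_eq_top,
      ← MonoidHom.range_eq_map, range_subtype]
  refine ⟨H, ⟨fun q hq h => hHb1 q hq (cH ▸ h), fun q hq hqπ h => ?_⟩, fun K hK => ?_⟩
  · have hHi : H.index = Nat.card N * Hb.index := by
      refine Nat.eq_of_mul_eq_mul_left (Nat.card_pos (α := H)) ?_
      rw [card_mul_index, ← card_mul_index L, cL, iL, cH]
      ring
    rw [hHi] at h
    rcases hq.dvd_mul.mp h with h | h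
    · exact hpi (isPGroup_prime_eq hNp hq h ▸ hqπ)
    · exact hHb2 q hq hqπ h
  · obtain ⟨g, hg⟩ := key K hK
    rw [← hHN] at hg
    have hsolN : Group.IsSolvable N := inferInstance
    obtain ⟨a, -, ha⟩ := exists_conj_le_of_coprime (N := N) le_normalizer_of_normal hg
      (cH ▸ hcop _ hHb1) (by rw [card_conj_smul]; exact hcop _ hK) (Or.inl hsolN)
    exact ⟨a * g, by rwa [← conj_smul_conj_smul]⟩

variable [Finite G] [Group.IsSolvable G]

theorem exists_isPiHall (π : Set ℕ) : ∃ H : Subgroup G, Cfsg.IsPiHall π H := by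
  obtain ⟨H, h, -⟩ := exists_isPiHall_dominant π _ G rfl
  exact ⟨H, h⟩

omit [Finite G] [Group.IsSolvable G] in
theorem coprime_card_index_of_isPiHall {π : Set ℕ} {H : Subgroup G} (hH : Cfsg.IsPiHall π H) :
    (Nat.card H).Coprime H.index :=
  Nat.coprime_of_dvd fun q hq h1 h2 => hH.2 q hq (hH.1 q hq h1) h2

omit [Finite G] [Group.IsSolvable G] in
theorem card_eq_of_isPiHall {π : Set ℕ} {H K : Subgroup G} (hH : Cfsg.IsPiHall π H)
    (hK : Cfsg.IsPiHall π K) : Nat.card H = Nat.card K := by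
  have : ∀ H K : Subgroup G, Cfsg.IsPiHall π H → Cfsg.IsPiHall π K →
      Nat.card H ∣ Nat.card K := fun H K hH hK =>
    (Nat.coprime_of_dvd fun q hq h1 h2 => hK.2 q hq (hH.1 q hq h1) h2).dvd_of_dvd_mul_right
      (Dvd.intro _ ((card_mul_index H).trans (card_mul_index K).symm))
  exact Nat.dvd_antisymm (this H K hH hK) (this K H hK hH)

theorem isPiHall_conj {π : Set ℕ} {H K : Subgroup G} (hH : Cfsg.IsPiHall π H)
    (hK : Cfsg.IsPiHall π K) : ∃ g : G, MulAut.conj g • H = K := by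
  obtain ⟨D, hD, hdom⟩ := exists_isPiHall_dominant π _ G rfl
  obtain ⟨g, hg⟩ := hdom H hH.1
  obtain ⟨k, hk⟩ := hdom K hK.1
  have hg' := eq_of_le_of_card_ge hg (by rw [card_conj_smul, card_eq_of_isPiHall hD hH])
  have hk' := eq_of_le_of_card_ge hk (by rw [card_conj_smul, card_eq_of_isPiHall hD hK])
  refine ⟨k⁻¹ * g, ?_⟩
  rw [← conj_smul_conj_smul, hg', ← hk', conj_smul_conj_smul, inv_mul_cancel, map_one, one_smul]

omit [Finite G] [Group.IsSolvable G] in
theorem isPiHall_conj_smul {π : Set ℕ} {H : Subgroup G} (hH : Cfsg.IsPiHall π H) (g : G) :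
    Cfsg.IsPiHall π (MulAut.conj g • H) := by
  refine ⟨fun q hq h => hH.1 q hq (card_conj_smul g H ▸ h), fun q hq hqπ h => hH.2 q hq hqπ ?_⟩
  rwa [conj_smul_eq_map, index_map_of_bijective (MulAut.conj g).bijective] at h

theorem exists_isPiHall_ge {π : Set ℕ} {K : Subgroup G}
    (hK : ∀ p : ℕ, p.Prime → p ∣ Nat.card K → p ∈ π) :
    ∃ H : Subgroup G, Cfsg.IsPiHall π H ∧ K ≤ H := by
  obtain ⟨D, hD, hdom⟩ := exists_isPiHall_dominant π _ G rfl
  obtain ⟨g, hg⟩ := hdom K hK
  refine ⟨MulAut.conj g⁻¹ • D, isPiHall_conj_smul hD _, ?_⟩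
  rw [map_inv]
  exact pointwise_smul_subset_iff.mp hg

theorem exists_conj_le_isPiHall {π : Set ℕ} {H K : Subgroup G} (hH : Cfsg.IsPiHall π H)
    (hK : ∀ p : ℕ, p.Prime → p ∣ Nat.card K → p ∈ π) : ∃ g : G, MulAut.conj g • K ≤ H := by
  obtain ⟨D, hD, hKD⟩ := exists_isPiHall_ge hK
  obtain ⟨g, hg⟩ := isPiHall_conj hD hH
  exact ⟨g, hg ▸ pointwise_smul_le_pointwise_smul_iff.mpr hKD⟩

omit [Finite G] [Group.IsSolvable G] in
theorem card_isPiHall_dvd {m n : ℕ} (hG : Nat.card G = m * n) (hmn : m.Coprime n)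
    {H : Subgroup G} (hH : Cfsg.IsPiHall {q | q ∣ m} H) : Nat.card H = m := by
  have h1 : (Nat.card H).Coprime n := Nat.coprime_of_dvd fun q hq h1 h2 =>
    hq.ne_one (Nat.eq_one_of_dvd_coprimes hmn (hH.1 q hq h1) h2)
  have h2 : m.Coprime H.index := Nat.coprime_of_dvd fun q hq h1 h2 => hH.2 q hq h1 h2
  exact Nat.dvd_antisymm
    (h1.dvd_of_dvd_mul_right (Dvd.intro _ ((card_mul_index H).trans hG)))
    (h2.dvd_of_dvd_mul_right (Dvd.intro _ (hG.symm.trans (card_mul_index H).symm)))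

omit [Group.IsSolvable G] in
theorem isPiHall_of_card {m n : ℕ} (hG : Nat.card G = m * n) (hmn : m.Coprime n)
    {H : Subgroup G} (hH : Nat.card H = m) : Cfsg.IsPiHall {q | q ∣ m} H := by
  refine ⟨fun q _ h => hH ▸ h, fun q hq h1 h2 => hq.ne_one (Nat.eq_one_of_dvd_coprimes hmn h1 ?_)⟩
  have h := card_mul_index H
  rw [hH, hG] at h
  rwa [← Nat.eq_of_mul_eq_mul_left (hH ▸ Nat.card_pos) h]

omit [Finite G] [Group.IsSolvable G] in
theorem pi_of_coprime {m n : ℕ} (hG : Nat.card G = m * n) {K : Subgroup G}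
    (hK : (Nat.card K).Coprime n) : ∀ p : ℕ, p.Prime → p ∣ Nat.card K → p ∈ {q | q ∣ m} :=
  fun _ _ h => h.trans (hK.dvd_of_dvd_mul_right (hG ▸ card_subgroup_dvd_card K))

end CfsgLib.Solvable
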