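import Cfsg.Agent.Lib.Solvable.CoprimeAction
import Mathlib.Algebra.BigOperators.Group.Finset.Basic
import Mathlib.GroupTheory.OrderOfElement

/-!
Coprime action on an abelian group: `V = C_V(A) × [V, A]`.
-/

set_option autoImplicit false
set_option linter.style.haveILetI false

open scoped Pointwise commutatorElement
open Subgroup

namespace CfsgLib.Solvable

variable {G : Type*} [Group G] [Finite G] {A V : Subgroup G} [IsMulCommutative V]

theorem centralizer_sup_commutator_eq (hAV : A ≤ normalizer (V : Set G))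
    (hcop : (Nat.card A).Coprime (Nat.card V)) :
    (V ⊓ centralizer (A : Set G)) ⊔ ⁅V, A⁆ = V := by
  rw [sup_comm]
  exact commutator_sup_centralizer hAV hcop
    (Or.inr (Group.isSolvable_of_comm fun a b => Subtype.ext (setLike_mul_comm a.2 b.2)))

theorem centralizer_inf_commutator_eq_bot (hAV : A ≤ normalizer (V : Set G))
    (hcop : (Nat.card A).Coprime (Nat.card V)) :
    (V ⊓ centralizer (A : Set G)) ⊓ ⁅V, A⁆ = ⊥ := by
  classical
  haveI : Fintype A := Fintype.ofFinite A
  letI : CommGroup V :=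
    { (inferInstance : Group V) with mul_comm := fun a b => Subtype.ext (setLike_mul_comm a.2 b.2) }
  let φ : A → (V →* V) := fun a =>
    { toFun := fun w => ⟨a * w * (a : G)⁻¹, (mem_normalizer_iff.1 (hAV a.2) w).1 w.2⟩
      map_one' := Subtype.ext (by simp)
      map_mul' := fun w w' => Subtype.ext (by simp [mul_assoc]) }
  -- the norm map
  let μ : V →* V :=
    { toFun := fun w => ∏ a, φ a w
      map_one' := by simp
      map_mul' := fun w w' => by simp [Finset.prod_mul_distrib] }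
  have hinv : ∀ (b : A) (w : V), μ (φ b w) = μ w := by
    intro b w
    show ∏ a, φ a (φ b w) = ∏ a, φ a w
    refine Fintype.prod_equiv (Equiv.mulRight b) _ _ fun a => ?_
    exact Subtype.ext (show (a : G) * ((b : G) * w * (b : G)⁻¹) * (a : G)⁻¹ =
      ((a * b : A) : G) * w * ((a * b : A) : G)⁻¹ by simp [mul_assoc])
  have hker : ⁅V, A⁆ ≤ μ.ker.map V.subtype := by
    rw [commutator_le]
    intro v hv a ha
    refine Subgroup.mem_map.2 ⟨⟨v, hv⟩ * φ ⟨a, ha⟩ (⟨v, hv⟩⁻¹), ?_, ?_⟩
    · rw [MonoidHom.mem_ker, map_mul, hinv, map_inv, mul_inv_cancel]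
    · show v * (a * v⁻¹ * a⁻¹) = ⁅v, a⁆
      simp [commutatorElement_def, mul_assoc]
  rw [eq_bot_iff]
  rintro x ⟨⟨hxV, hxC⟩, hx⟩
  obtain ⟨w, hw, rfl⟩ := Subgroup.mem_map.1 (hker hx)
  rw [Subgroup.mem_bot]
  have h1 : μ w = w ^ Nat.card A := by
    show ∏ a, φ a w = _
    rw [Nat.card_eq_fintype_card, ← Finset.card_univ, ← Finset.prod_const]
    refine Finset.prod_congr rfl fun a _ => Subtype.ext ?_
    show (a : G) * w * (a : G)⁻¹ = w
    rw [show (a : G) * w = (w : G) * a from hxC a a.2, mul_inv_cancel_right]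
  rw [MonoidHom.mem_ker, h1] at hw
  have h2 : orderOf w = 1 :=
    Nat.eq_one_of_dvd_coprimes hcop (orderOf_dvd_of_pow_eq_one hw) (orderOf_dvd_natCard w)
  rw [orderOf_eq_one_iff.1 h2]
  rfl

theorem le_centralizer_of_fix_prime_order (hAV : A ≤ normalizer (V : Set G))
    (hcop : (Nat.card A).Coprime (Nat.card V))
    (hΩ : ∀ v ∈ V, (orderOf v).Prime → ∀ a ∈ A, a * v = v * a) :
    A ≤ centralizer (V : Set G) := by
  have hW : ⁅V, A⁆ = ⊥ := by
    by_contra hne
    obtain ⟨x, hx, hx1⟩ := (Subgroup.bot_or_exists_ne_one _).resolve_left hne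
    obtain ⟨p, hp, hd⟩ := Nat.exists_prime_and_dvd (mt orderOf_eq_one_iff.1 hx1)
    set y := x ^ (orderOf x / p) with hy
    have hord : orderOf y = p := by
      rw [hy, orderOf_pow_of_dvd (Nat.pos_iff_ne_zero.1 (Nat.div_pos (Nat.le_of_dvd (orderOf_pos x) hd)
        hp.pos)) (Nat.div_dvd_of_dvd hd), Nat.div_div_self hd (orderOf_pos x).ne']
    have hyW : y ∈ ⁅V, A⁆ := pow_mem hx _
    have hyV : y ∈ V := commutator_le_of_normalizes hAV hyW
    have hmem : y ∈ (V ⊓ centralizer (A : Set G)) ⊓ ⁅V, A⁆ :=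
      ⟨⟨hyV, fun a ha => hΩ y hyV (hord ▸ hp) a ha⟩, hyW⟩
    rw [centralizer_inf_commutator_eq_bot hAV hcop, Subgroup.mem_bot] at hmem
    rw [hmem, orderOf_one] at hord
    exact hp.one_lt.ne hord
  rwa [commutator_eq_bot_iff_le_centralizer, le_centralizer_iff] at hW

end CfsgLib.Solvable
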