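import Cfsg.Agent.Lib.Solvable.CoprimeAction
import Mathlib.GroupTheory.Abelianization.Defs
import Mathlib.GroupTheory.SpecificGroups.Cyclic
import Mathlib.Data.ZMod.Basic
import Mathlib.Algebra.Field.ZMod
import Mathlib.Algebra.BigOperators.Group.Finset.Basic
import Mathlib.Data.Nat.ChineseRemainder

/-!
Generation by centralisers under coprime action of an abelian group.

* `le_of_lines_centralizer_le`: if `a, b` commute, normalise `M`, their `r`-th powers centralise `M`
  and `r ∤ |M|`, then `M` is generated by the centralisers of the `a * b ^ i` and of `b`.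
* `le_of_cyclic_quotient_centralizer_le`: an abelian group `A` acting coprimely on `K`:
  `K` is generated by the `C_K(B)` with `B ≤ A` and `A/B` cyclic.
-/

set_option autoImplicit false
open scoped Pointwise commutatorElement
open Subgroup MulAction Finset

namespace CfsgLib.Solvable

/-- Two commuting endomorphisms of exponent `r` of a finite commutative group of order prime to `r`:
a subgroup containing the fixed points of every line is everything. -/
theorem mem_of_lines_fixed {V : Type*} [CommGroup V] [Finite V] {r : ℕ} [Fact r.Prime]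
    (hr : ¬ r ∣ Nat.card V) (α β : Monoid.End V) (hα : α ^ r = 1) (hβ : β ^ r = 1)
    (hαβ : Commute α β) (W : Subgroup V)
    (hW : ∀ i : ℕ, ∀ v : V, (α * β ^ i) v = v → v ∈ W) (hWb : ∀ v : V, β v = v → v ∈ W)
    (v : V) : v ∈ W := by
  have : NeZero r := ⟨(Fact.out : r.Prime).ne_zero⟩
  set F : ZMod r → ZMod r → V := fun i j => (α ^ i.val * β ^ j.val) v with hF
  have hF' : ∀ m n : ℕ, F (m : ZMod r) (n : ZMod r) = (α ^ m * β ^ n) v := by
    intro m n
    rw [hF]
    simp only [ZMod.val_natCast]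
    rw [← pow_eq_pow_mod _ hα, ← pow_eq_pow_mod _ hβ]
  have hshift : ∀ (m n : ℕ) (i j : ZMod r), (α ^ m * β ^ n) (F i j) = F (m + i) (n + j) := by
    intro m n i j
    have h1 : F (m + i) (n + j) = (α ^ (m + i.val) * β ^ (n + j.val)) v := by
      rw [← hF']; simp
    rw [h1, pow_add, pow_add,
      show α ^ m * α ^ i.val * (β ^ n * β ^ j.val) = α ^ m * β ^ n * (α ^ i.val * β ^ j.val) by
        rw [mul_assoc, ← mul_assoc (α ^ i.val), (hαβ.pow_pow i.val n).eq, mul_assoc, mul_assoc]]
    rfl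
  set L : ZMod r → V := fun i => ∏ j, F j (i * j) with hL
  set N : V := ∏ k, F 0 k with hN
  have hLW : ∀ i, L i ∈ W := by
    intro i
    refine hW i.val _ ?_
    rw [hL, map_prod]
    refine Fintype.prod_equiv (Equiv.addLeft 1) _ _ fun j => ?_
    have h := hshift 1 i.val j (i * j)
    rw [pow_one] at h
    rw [h]
    simp only [Nat.cast_one, ZMod.natCast_val, ZMod.cast_id', id_eq, Equiv.coe_addLeft]
    rw [mul_add, mul_one]
  have hNW : N ∈ W := by
    refine hWb _ ?_
    rw [hN, map_prod]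
    refine Fintype.prod_equiv (Equiv.addLeft 1) _ _ fun j => ?_
    have h := hshift 0 1 0 j
    rw [pow_zero, one_mul, pow_one] at h
    rw [h]
    simp
  have hTW : ∏ j, ∏ k, F j k ∈ W := by
    refine hWb _ ?_
    rw [map_prod]
    refine Finset.prod_congr rfl fun i _ => ?_
    rw [map_prod]
    refine Fintype.prod_equiv (Equiv.addLeft 1) _ _ fun j => ?_
    have h := hshift 0 1 i j
    rw [pow_zero, one_mul, pow_one] at h
    rw [h]
    simp
  have hid : (∏ i, L i) * N = v ^ r * ∏ j, ∏ k, F j k := by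
    rw [hL, Finset.prod_comm,
      ← Finset.mul_prod_erase univ (fun j => ∏ i, F j (i * j)) (mem_univ (0 : ZMod r)),
      ← Finset.mul_prod_erase univ (fun j => ∏ k, F j k) (mem_univ (0 : ZMod r)), hN]
    have h0 : ∏ i : ZMod r, F 0 (i * 0) = v ^ r := by
      have : F 0 0 = v := by
        have := hF' 0 0
        rw [Nat.cast_zero, pow_zero, pow_zero, one_mul] at this
        exact this
      simp [mul_zero, this]
    have h1 : ∏ j ∈ univ.erase (0 : ZMod r), ∏ i, F j (i * j) =
        ∏ j ∈ univ.erase (0 : ZMod r), ∏ k, F j k := by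
      refine Finset.prod_congr rfl fun j hj => ?_
      exact Fintype.prod_equiv (Equiv.mulRight₀ j (Finset.ne_of_mem_erase hj)) _ _ fun i => rfl
    rw [h0, h1, mul_assoc]
    congr 1
    exact mul_comm _ _
  have hvr : v ^ r ∈ W := by
    rw [eq_mul_inv_of_mul_eq hid.symm]
    exact mul_mem (mul_mem (prod_mem fun i _ => hLW i) hNW) (inv_mem hTW)
  have hco : (Nat.card W).Coprime r :=
    (((Fact.out : r.Prime).coprime_iff_not_dvd).mpr
      fun h => hr (h.trans (card_subgroup_dvd_card W))).symm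
  obtain ⟨w, hw⟩ := (powCoprime hco).surjective ⟨v ^ r, hvr⟩
  have hcoV : (Nat.card V).Coprime r := (((Fact.out : r.Prime).coprime_iff_not_dvd).mpr hr).symm
  have : (w : V) = v := (powCoprime hcoV).injective (congr_arg Subtype.val hw)
  exact this ▸ w.2

variable {G : Type*} [Group G] [Finite G]

/-- Solvable case of generation by the centralisers of the lines of `⟨a, b⟩`. -/
theorem le_of_lines_centralizer_le_solvable {A : Subgroup G} {r : ℕ} [Fact r.Prime] {a b : G}
    (hA : IsPGroup r A) (ha : a ∈ A) (hb : b ∈ A) (hab : Commute a b) :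
    ∀ (n : ℕ) (M : Subgroup G), Nat.card M = n → Group.IsSolvable M →
      A ≤ normalizer (M : Set G) → ¬ r ∣ Nat.card M →
      a ^ r ∈ centralizer (M : Set G) → b ^ r ∈ centralizer (M : Set G) → ∀ W : Subgroup G,
      (∀ i : ℕ, M ⊓ centralizer {a * b ^ i} ≤ W) → M ⊓ centralizer {b} ≤ W → M ≤ W := by
  intro n
  induction n using Nat.strong_induction_on with
  | _ n ih =>
  intro M hn hsol hAM hr har hbr W hW hWb
  by_cases hM : M = ⊥
  · exact hM ▸ bot_le
  set D := (commutator M).map M.subtype with hD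
  have hDM : D ≤ M := map_subtype_le _
  have : Nontrivial M := (nontrivial_iff_ne_bot M).mpr hM
  have hDlt : Nat.card D < n := by
    rw [← hn, hD, Subgroup.card_subtype, ← card_top (G := M)]
    refine lt_of_le_of_ne (card_le_of_le le_top) fun h => ?_
    exact (Group.IsSolvable.commutator_lt_top_of_nontrivial M).ne
      (eq_of_le_of_card_ge le_top h.ge)
  have hDeq : D = ⁅M, M⁆ := map_subtype_commutator M
  have hAD : A ≤ normalizer (D : Set G) := by
    intro x hx
    rw [← conj_smul_eq_self_iff, hDeq, conj_smul_eq_map, map_commutator, ← conj_smul_eq_map,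
      conj_smul_eq_self_iff.mpr (hAM hx)]
  have hMD : M ≤ normalizer (D : Set G) := by
    intro x hx
    rw [← conj_smul_eq_self_iff, hDeq, conj_smul_eq_map, map_commutator, ← conj_smul_eq_map,
      conj_smul_eq_self_of_mem hx]
  have hDW : D ≤ W := ih _ hDlt D rfl
    (Group.isSolvable_of_isSolvable_injective (inclusion_injective hDM)) hAD
    (fun h => hr (h.trans (card_dvd_of_le hDM))) (centralizer_le hDM har) (centralizer_le hDM hbr) W
    (fun i => (inf_le_inf_right _ hDM).trans (hW i)) ((inf_le_inf_right _ hDM).trans hWb)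
  have hcop : ∀ g ∈ A, (Nat.card (zpowers g)).Coprime (Nat.card M) := by
    intro g hg
    obtain ⟨k, hk⟩ := hA ⟨g, hg⟩
    refine Nat.Coprime.coprime_dvd_left (k := r ^ k) ?_
      (Nat.Coprime.pow_left k ((Fact.out : r.Prime).coprime_iff_not_dvd.mpr hr))
    rw [Nat.card_zpowers]
    exact orderOf_dvd_of_pow_eq_one (congr_arg Subtype.val hk)
  -- the endomorphisms induced on the abelianisation
  let φ : A → (Abelianization M →* Abelianization M) := fun g => Abelianization.map
    (M.normalizerMonoidHom ⟨(g : G), hAM g.2⟩).toMonoidHom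
  have hφ : ∀ (g : A) (m : M), φ g (Abelianization.of m) =
      Abelianization.of ⟨g * m * (g : G)⁻¹, le_normalizer_iff.mp hAM g g.2 m m.2⟩ :=
    fun g m => rfl
  have hsurj : ∀ v : Abelianization M, ∃ m : M, Abelianization.of m = v :=
    fun v => QuotientGroup.mk'_surjective _ v
  have hφmul : ∀ g h : A, φ (g * h) = (φ g).comp (φ h) := by
    intro g h
    refine MonoidHom.ext fun v => ?_
    obtain ⟨m, rfl⟩ := hsurj v
    rw [MonoidHom.comp_apply]
    rw [hφ, hφ, hφ]
    congr 1
    simp [mul_assoc]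
  have hφone : φ 1 = MonoidHom.id _ := by
    refine MonoidHom.ext fun v => ?_
    obtain ⟨m, rfl⟩ := hsurj v
    rw [hφ, MonoidHom.id_apply]
    simp
  obtain ⟨ψ, hψ⟩ : ∃ ψ : A →* Monoid.End (Abelianization M), ∀ g v, ψ g v = φ g v :=
    ⟨⟨⟨fun g => φ g, hφone⟩, hφmul⟩, fun g v => rfl⟩
  have hψcent : ∀ g : A, (g : G) ∈ centralizer (M : Set G) → ψ g = 1 := by
    intro g hg
    refine MonoidHom.ext fun v => ?_
    obtain ⟨m, rfl⟩ := hsurj v
    change ψ g (Abelianization.of m) = Abelianization.of m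
    rw [hψ, hφ]
    congr 1
    refine Subtype.ext ?_
    change (g : G) * m * (g : G)⁻¹ = m
    rw [← hg m m.2]
    simp
  set W' := (W.subgroupOf M).map (Abelianization.of : M →* Abelianization M) with hW'
  have hfix : ∀ g : A, M ⊓ centralizer {(g : G)} ≤ W → ∀ v, ψ g v = v → v ∈ W' := by
    intro g hg v hv
    obtain ⟨m, rfl⟩ := hsurj v
    rw [hψ, hφ] at hv
    have h1 := QuotientGroup.eq.mp hv.symm
    have hmem : (m : G)⁻¹ * (g * m * (g : G)⁻¹) ∈ D := ⟨_, h1, rfl⟩
    have hx' : ∀ x ∈ zpowers (g : G), (m : G)⁻¹ * (x * m * x⁻¹) ∈ D := by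
      intro x hx
      obtain ⟨k, rfl⟩ : ∃ k : ℕ, (g : G) ^ k = x := mem_powers_iff_mem_zpowers.mpr hx
      clear hx
      induction k with
      | zero => simp
      | succ k ihk =>
        have e : (m : G)⁻¹ * ((g : G) ^ (k + 1) * m * ((g : G) ^ (k + 1))⁻¹) =
            ((m : G)⁻¹ * (g * m * (g : G)⁻¹)) *
              (g * ((m : G)⁻¹ * ((g : G) ^ k * m * ((g : G) ^ k)⁻¹)) * (g : G)⁻¹) := by
          simp [pow_succ', mul_assoc]
        rw [e]
        exact mul_mem hmem (le_normalizer_iff.mp hAD g g.2 _ ihk)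
    obtain ⟨d, hd, hc⟩ := exists_fixed_mem_coset (A := zpowers (g : G)) (K := M) (D := D)
      ((zpowers_le.mpr g.2).trans hAM) hDM ((zpowers_le.mpr g.2).trans hAD) (hcop g g.2)
      (Or.inl (Group.isSolvable_of_comm mul_comm')) m.2 hx'
    have hcg : (m : G) * d ∈ W := hg (mem_inf.mpr ⟨(mem_inf.mp hc).1, by
      rw [mem_centralizer_singleton_iff]
      exact ((mem_inf.mp hc).2 g (mem_zpowers _)).symm⟩)
    have : (m : G) ∈ W := by simpa using mul_mem hcg (inv_mem (hDW hd))
    exact mem_map_of_mem _ (mem_subgroupOf.mpr this)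
  have : Finite (Abelianization M) := inferInstanceAs (Finite (M ⧸ _root_.commutator M))
  have hall : ∀ v : Abelianization M, v ∈ W' := by
    refine mem_of_lines_fixed (r := r) ?_ (ψ ⟨a, ha⟩) (ψ ⟨b, hb⟩) ?_ ?_ ?_ W' ?_ ?_
    · exact fun h => hr (h.trans (card_dvd_of_surjective _ (QuotientGroup.mk'_surjective _)))
    · rw [← map_pow]; exact hψcent _ har
    · rw [← map_pow]; exact hψcent _ hbr
    · exact Commute.map (show Commute (⟨a, ha⟩ : A) ⟨b, hb⟩ from Subtype.ext hab.eq) ψ
    · intro i v hv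
      rw [← map_pow, ← map_mul] at hv
      exact hfix (⟨a, ha⟩ * ⟨b, hb⟩ ^ i) (by simpa using hW i) v hv
    · exact hfix ⟨b, hb⟩ hWb
  intro m hm
  obtain ⟨w, hw, hwm⟩ := mem_map.mp (hall (Abelianization.of ⟨m, hm⟩))
  have hd : (w : G)⁻¹ * m ∈ D := ⟨_, QuotientGroup.eq.mp hwm, rfl⟩
  simpa using mul_mem (mem_subgroupOf.mp hw) (hDW hd)

/-- If `a, b` commute and normalise `M`, their `r`-th powers centralise `M` and `r ∤ |M|`, then
`M` is generated by its centralisers of `a * b ^ i` and of `b`. -/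
theorem le_of_lines_centralizer_le {r : ℕ} [Fact r.Prime] {a b : G} (hab : Commute a b)
    {M W : Subgroup G} (ha : a ∈ normalizer (M : Set G)) (hb : b ∈ normalizer (M : Set G))
    (hr : ¬ r ∣ Nat.card M) (har : a ^ r ∈ centralizer (M : Set G))
    (hbr : b ^ r ∈ centralizer (M : Set G))
    (hW : ∀ i : ℕ, M ⊓ centralizer {a * b ^ i} ≤ W) (hWb : M ⊓ centralizer {b} ≤ W) : M ≤ W := by
  have hrp : r.Prime := Fact.out
  -- replace an element by a power that is an `r`-element acting in the same way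
  have key : ∀ x : G, x ^ r ∈ centralizer (M : Set G) →
      ∃ (k e : ℕ), (x ^ k) ^ (r ^ e) = 1 ∧ x⁻¹ * x ^ k ∈ centralizer (M : Set G) := by
    intro x hx
    obtain ⟨e, t, ht, heq⟩ := Nat.exists_eq_pow_mul_and_not_dvd (orderOf_pos x).ne' r hrp.ne_one
    obtain ⟨k, hk1, hk2⟩ := Nat.chineseRemainder (hrp.coprime_iff_not_dvd.mpr ht) 1 0
    refine ⟨k, e, ?_, ?_⟩
    · rw [← pow_mul, ← orderOf_dvd_iff_pow_eq_one, heq, mul_comm k]
      exact Nat.mul_dvd_mul_left _ (Nat.dvd_of_mod_eq_zero (by simpa [Nat.ModEq] using hk2))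
    · have hk0 : k ≠ 0 := by
        rintro rfl
        exact absurd (hk1.symm) (by simp [Nat.ModEq, Nat.mod_eq_of_lt hrp.one_lt])
      obtain ⟨q, hq⟩ : r ∣ k - 1 :=
        (Nat.modEq_iff_dvd' (Nat.one_le_iff_ne_zero.mpr hk0)).mp hk1.symm
      have : k = 1 + r * q := by omega
      rw [this, pow_add, pow_one, inv_mul_cancel_left, pow_mul]
      exact pow_mem hx q
  obtain ⟨ka, ea, hea, hca⟩ := key a har
  obtain ⟨kb, eb, heb, hcb⟩ := key b hbr
  set a' := a ^ ka with ha'
  set b' := b ^ kb with hb'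
  have hab' : Commute a' b' := hab.pow_pow ka kb
  set A := zpowers a' ⊔ zpowers b' with hA
  have hAr : IsPGroup r A := by
    have hpz : ∀ (x : G) (e : ℕ), x ^ r ^ e = 1 → IsPGroup r (zpowers x) := by
      intro x e hx y
      obtain ⟨k, hk⟩ := mem_zpowers_iff.mp y.2
      exact ⟨e, Subtype.ext (by
        rw [SubmonoidClass.coe_pow, OneMemClass.coe_one, ← hk, ← zpow_natCast, ← zpow_mul,
          mul_comm, zpow_mul, zpow_natCast, hx, one_zpow])⟩
    refine IsPGroup.to_sup_of_normal_left' (hpz a' ea hea) (hpz b' eb heb) ?_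
    refine zpowers_le.mpr ?_
    rw [← conj_smul_eq_self_iff, conj_smul_eq_map, MonoidHom.map_zpowers]
    change zpowers (b' * a' * b'⁻¹) = zpowers a'
    rw [← hab'.eq, mul_inv_cancel_right]
  have hAM : A ≤ normalizer (M : Set G) :=
    sup_le (zpowers_le.mpr (pow_mem ha _)) (zpowers_le.mpr (pow_mem hb _))
  have hcop : (Nat.card A).Coprime (Nat.card M) := by
    obtain ⟨k, hk⟩ := hAr.exists_card_eq
    rw [hk]
    exact Nat.Coprime.pow_left k (hrp.coprime_iff_not_dvd.mpr hr)
  have : Group.IsNilpotent A := hAr.isNilpotent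
  have har' : a' ^ r ∈ centralizer (M : Set G) := by
    rw [ha', ← pow_mul, mul_comm, pow_mul]; exact pow_mem har _
  have hbr' : b' ^ r ∈ centralizer (M : Set G) := by
    rw [hb', ← pow_mul, mul_comm, pow_mul]; exact pow_mem hbr _
  have hsame : ∀ x x' : G, x⁻¹ * x' ∈ centralizer (M : Set G) →
      M ⊓ centralizer {x'} ≤ M ⊓ centralizer {x} := by
    intro x x' h m hm
    obtain ⟨hm, hmx⟩ := mem_inf.mp hm
    refine mem_inf.mpr ⟨hm, ?_⟩
    rw [mem_centralizer_singleton_iff] at hmx ⊢
    have h1 := h m hm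
    calc m * x = m * x' * (x⁻¹ * x')⁻¹ := by simp [mul_assoc]
      _ = x' * m * (x⁻¹ * x')⁻¹ := by rw [hmx]
      _ = x' * (m * (x⁻¹ * x')⁻¹) := mul_assoc _ _ _
      _ = x' * ((x⁻¹ * x')⁻¹ * m) := by
        rw [(inv_mem h : (x⁻¹ * x')⁻¹ ∈ centralizer (M : Set G)) m hm]
      _ = x * m := by simp [mul_assoc]
  have hline : ∀ i : ℕ, M ⊓ centralizer {a' * b' ^ i} ≤ M ⊓ centralizer {a * b ^ i} := by
    intro i
    refine hsame _ _ ?_
    have hab2 : Commute (a⁻¹ * a') (b⁻¹) :=
      ((hab.pow_left ka).inv_right).mul_left (hab.inv_left.inv_right) |> fun h => by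
        exact ((hab.inv_left.inv_right).mul_left ((hab.pow_left ka).inv_right))
    have : (a * b ^ i)⁻¹ * (a' * b' ^ i) = (a⁻¹ * a') * (b⁻¹ * b') ^ i := by
      have hbb : Commute b⁻¹ b' := ((Commute.refl b).pow_right kb).inv_left
      rw [hbb.mul_pow, mul_inv_rev, ← inv_pow, mul_assoc ((b⁻¹) ^ i), ← mul_assoc a⁻¹,
        ← mul_assoc ((b⁻¹) ^ i), ← ((hab2.pow_right i).eq), mul_assoc]
    rw [this]
    exact mul_mem hca (pow_mem hcb i)
  have hprime : ∀ p : ℕ, p.Prime →
      ∃ H : Subgroup G, H ≤ M ⊓ W ∧ Nat.card H = p ^ (Nat.card M).factorization p := by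
    intro p hp
    have : Fact p.Prime := ⟨hp⟩
    obtain ⟨P, hP⟩ := exists_invariant_sylow hAM hcop (Or.inl inferInstance) p
    have hPM : (P : Subgroup M).map M.subtype ≤ M := map_subtype_le _
    refine ⟨_, le_inf hPM ?_, (Subgroup.card_subtype _ _).trans P.card_eq_multiplicity⟩
    have : Group.IsNilpotent ((P : Subgroup M).map M.subtype) := (P.2.map _).isNilpotent
    exact le_of_lines_centralizer_le_solvable hAr (mem_sup_left (mem_zpowers _))
      (mem_sup_right (mem_zpowers _)) hab' _ _ rfl inferInstance hP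
      (fun h => hr (h.trans (card_dvd_of_le hPM))) (centralizer_le hPM har')
      (centralizer_le hPM hbr') W
      (fun i => ((inf_le_inf_right _ hPM).trans (hline i)).trans (hW i))
      (((inf_le_inf_right _ hPM).trans (hsame b b' hcb)).trans hWb)
  have hdvd : Nat.card M ∣ Nat.card (M ⊓ W : Subgroup G) := by
    rw [← Nat.factorization_prime_le_iff_dvd Nat.card_pos.ne' Nat.card_pos.ne']
    intro p hp
    obtain ⟨H, hH, hcard⟩ := hprime p hp
    exact (hp.pow_dvd_iff_le_factorization Nat.card_pos.ne').mp (hcard ▸ card_dvd_of_le hH)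
  calc M = M ⊓ W := (eq_of_le_of_card_ge inf_le_left (Nat.le_of_dvd Nat.card_pos hdvd)).symm
    _ ≤ W := inf_le_right

/-- A finite abelian group with at most `p` solutions of `x ^ p = 1` for every prime is cyclic. -/
theorem isCyclic_of_card_pow_prime_le {Q : Type*} [CommGroup Q] [Finite Q]
    (h : ∀ p : ℕ, p.Prime → Nat.card (powMonoidHom p : Q →* Q).ker ≤ p) : IsCyclic Q := by
  classical
  have : Fintype Q := Fintype.ofFinite Q
  have key : ∀ n : ℕ, 0 < n → Nat.card (powMonoidHom n : Q →* Q).ker ≤ n := by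
    intro n
    induction n using induction_on_primes with
    | zero => intro h0; exact absurd h0 (lt_irrefl 0)
    | one => intro; simp
    | prime_mul p m hp ih =>
      intro h0
      have hm : 0 < m := Nat.pos_of_mul_pos_left h0
      set K := (powMonoidHom (p * m) : Q →* Q).ker with hK
      set f := (powMonoidHom p : Q →* Q).comp K.subtype with hf
      rw [← card_mul_index f.ker, index_ker]
      refine Nat.mul_le_mul ?_ ((card_le_of_le ?_).trans (ih hm))
      · refine (h p hp).trans' ?_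
        rw [← Subgroup.card_subtype K f.ker]
        refine card_le_of_le ?_
        rintro _ ⟨x, hx, rfl⟩
        exact hx
      · rintro _ ⟨x, rfl⟩
        have hx : (x : Q) ^ (p * m) = 1 := x.2
        change ((x : Q) ^ p) ^ m = 1
        rw [← pow_mul]; exact hx
  refine isCyclic_of_card_pow_eq_one_le fun n hn => ?_
  refine (le_of_eq ?_).trans (key n hn)
  rw [← Fintype.card_subtype, ← Nat.card_eq_fintype_card]
  rfl

/-- An abelian `A` acting coprimely on `K`: `K` is generated by the centralisers of the subgroups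
of `A` with cyclic quotient. -/
theorem le_of_cyclic_quotient_centralizer_le {A K W : Subgroup G} [IsMulCommutative A]
    (hAK : A ≤ normalizer (K : Set G)) (hcop : (Nat.card A).Coprime (Nat.card K))
    (hW : ∀ B ≤ A, (∃ a ∈ A, A ≤ B ⊔ zpowers a) → K ⊓ centralizer (B : Set G) ≤ W) :
    K ≤ W := by
  have comm : ∀ x ∈ A, ∀ y ∈ A, Commute x y := fun x hx y hy =>
    congr_arg Subtype.val (mul_comm' (⟨x, hx⟩ : A) ⟨y, hy⟩)
  suffices h : ∀ (n : ℕ) (B : Subgroup G), Nat.card A - Nat.card B = n → B ≤ A →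
      K ⊓ centralizer (B : Set G) ≤ W by
    have := h _ ⊥ rfl bot_le
    rwa [inf_of_le_left (le_centralizer_iff.mp bot_le)] at this
  intro n
  induction n using Nat.strong_induction_on with
  | _ n ih =>
  intro B hn hB
  by_cases hcyc : ∃ a ∈ A, A ≤ B ⊔ zpowers a
  · exact hW B hB hcyc
  -- find a section of type r × r
  have hnormal : (B.subgroupOf A).Normal := inferInstance
  let instQ : CommGroup (A ⧸ B.subgroupOf A) :=
    { (inferInstance : Group (A ⧸ B.subgroupOf A)) with
      mul_comm := fun x y => by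
        obtain ⟨x, rfl⟩ := QuotientGroup.mk'_surjective _ x
        obtain ⟨y, rfl⟩ := QuotientGroup.mk'_surjective _ y
        rw [← map_mul, ← map_mul, mul_comm'] }
  obtain ⟨r, hr, hlt⟩ : ∃ r : ℕ, r.Prime ∧
      r < Nat.card (powMonoidHom r : (A ⧸ B.subgroupOf A) →* _).ker := by
    by_contra hno
    push Not at hno
    obtain ⟨g, hg⟩ := (isCyclic_of_card_pow_prime_le hno).exists_generator
    obtain ⟨a, rfl⟩ := QuotientGroup.mk'_surjective _ g
    refine hcyc ⟨a, a.2, fun x hx => ?_⟩
    obtain ⟨k, hk⟩ := mem_zpowers_iff.mp (hg (QuotientGroup.mk' _ ⟨x, hx⟩))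
    rw [← map_zpow] at hk
    have := QuotientGroup.eq.mp hk
    rw [mem_subgroupOf] at this
    rw [show x = (a : G) ^ k * (((a ^ k)⁻¹ * ⟨x, hx⟩ : A) : G) by simp]
    exact mul_mem (mem_sup_right (zpow_mem (mem_zpowers _) k)) (mem_sup_left this)
  have : Fact r.Prime := ⟨hr⟩
  set R := (powMonoidHom r : (A ⧸ B.subgroupOf A) →* _).ker
  have hR1 : Nontrivial R := (Finite.one_lt_card_iff_nontrivial).mp (hr.one_lt.trans hlt)
  obtain ⟨⟨qb, hqb⟩, hqb1⟩ := exists_ne (1 : R)
  have hord : orderOf qb = r :=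
    orderOf_eq_prime hqb fun h => hqb1 (Subtype.ext h)
  obtain ⟨qa, hqa, hqa'⟩ : ∃ qa ∈ R, qa ∉ zpowers qb := by
    by_contra hno
    push Not at hno
    have := card_le_of_le (H := R) (K := zpowers qb) hno
    rw [Nat.card_zpowers, hord] at this
    omega
  obtain ⟨b, rfl⟩ := QuotientGroup.mk'_surjective _ qb
  obtain ⟨a, rfl⟩ := QuotientGroup.mk'_surjective _ qa
  have hmemB : ∀ c : A, QuotientGroup.mk' (B.subgroupOf A) c = 1 → (c : G) ∈ B :=
    fun c hc => mem_subgroupOf.mp ((QuotientGroup.eq_one_iff c).mp hc)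
  have hline : ∀ c : A, (c : G) ∉ B →
      K ⊓ centralizer (B : Set G) ⊓ centralizer {(c : G)} ≤ W := by
    intro c hc
    have hlt' : B < B ⊔ zpowers (c : G) :=
      lt_of_le_of_ne le_sup_left fun h => hc (h ▸ mem_sup_right (mem_zpowers _))
    have hle : B ⊔ zpowers (c : G) ≤ A := sup_le hB (zpowers_le.mpr c.2)
    have hcard : Nat.card B < Nat.card (B ⊔ zpowers (c : G) : Subgroup G) :=
      lt_of_le_of_ne (card_le_of_le hlt'.le) fun h => hlt'.ne (eq_of_le_of_card_ge hlt'.le h.ge)
    refine le_trans ?_ (ih _ (by have := card_le_of_le hle; omega) _ rfl hle)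
    intro x hx
    obtain ⟨hx1, hx2⟩ := mem_inf.mp hx
    obtain ⟨hxK, hxB⟩ := mem_inf.mp hx1
    refine mem_inf.mpr ⟨hxK, fun y hy => ?_⟩
    have hle2 : B ⊔ zpowers (c : G) ≤ centralizer {x} := by
      refine sup_le (fun z hz => ?_) (zpowers_le.mpr ?_)
      · rw [mem_centralizer_singleton_iff]; exact hxB z hz
      · rw [mem_centralizer_singleton_iff]; exact (mem_centralizer_singleton_iff.mp hx2).symm
    exact mem_centralizer_singleton_iff.mp (hle2 hy)
  have hnorm : ∀ x ∈ A, x ∈ normalizer ((K ⊓ centralizer (B : Set G) : Subgroup G) : Set G) := by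
    intro x hx
    refine inf_normalizer_le_normalizer_inf ⟨hAK hx, le_normalizer ?_⟩
    exact fun z hz => (comm z (hB hz) x hx)
  have hpow : ∀ c : A, QuotientGroup.mk' (B.subgroupOf A) c ∈ R →
      (c : G) ^ r ∈ centralizer ((K ⊓ centralizer (B : Set G) : Subgroup G) : Set G) := by
    intro c hc x hx
    have hcr : ((c ^ r : A) : G) ∈ B := hmemB _ (by rw [map_pow]; exact hc)
    rw [SubmonoidClass.coe_pow] at hcr
    exact ((mem_inf.mp hx).2 _ hcr).symm
  refine le_of_lines_centralizer_le (r := r) (comm a a.2 b b.2) (hnorm a a.2) (hnorm b b.2)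
    ?_ (hpow a hqa) (hpow b hqb) ?_ ?_
  · intro h
    have hrA : r ∣ Nat.card A :=
      hord ▸ ((orderOf_map_dvd _ b).trans (orderOf_dvd_natCard b))
    exact hr.ne_one (Nat.eq_one_of_dvd_coprimes hcop hrA (h.trans (card_dvd_of_le inf_le_left)))
  · intro i
    refine hline (a * b ^ i) fun h => hqa' ?_
    have := (QuotientGroup.eq_one_iff (a * b ^ i)).mpr (mem_subgroupOf.mpr h)
    change QuotientGroup.mk' _ (a * b ^ i) = 1 at this
    rw [map_mul, map_pow, mul_eq_one_iff_eq_inv] at this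
    rw [this]
    exact inv_mem (pow_mem (mem_zpowers _) i)
  · exact hline b fun h => hqb1 (Subtype.ext
      ((QuotientGroup.eq_one_iff b).mpr (mem_subgroupOf.mpr h)))

/-- A noncyclic abelian group acting coprimely: `K` is generated by centralisers of nonidentity
elements. -/
theorem le_of_centralizer_le {A K W : Subgroup G} [IsMulCommutative A] (hA : ¬ IsCyclic A)
    (hAK : A ≤ normalizer (K : Set G)) (hcop : (Nat.card A).Coprime (Nat.card K))
    (hW : ∀ a ∈ A, a ≠ 1 → K ⊓ centralizer {a} ≤ W) : K ≤ W := by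
  refine le_of_cyclic_quotient_centralizer_le hAK hcop fun B hB ⟨a, ha, hcyc⟩ => ?_
  obtain ⟨b, hb, hb1⟩ : ∃ b ∈ B, b ≠ 1 := by
    by_contra hno
    push Not at hno
    apply hA
    refine ⟨⟨a, ha⟩, fun x => ?_⟩
    have hx : (x : G) ∈ zpowers a := (sup_le (fun y hy => (hno y hy).symm ▸ one_mem _) le_rfl :
      B ⊔ zpowers a ≤ zpowers a) (hcyc x.2)
    obtain ⟨k, hk⟩ := mem_zpowers_iff.mp hx
    exact ⟨k, Subtype.ext (by simpa using hk)⟩
  exact (inf_le_inf_left K (centralizer_le (Set.singleton_subset_iff.mpr hb))).trans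
    (hW b (hB hb) hb1)

end CfsgLib.Solvable
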