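import Cfsg.Prelude.Def_Solvable
import Mathlib.GroupTheory.Sylow
import Mathlib.GroupTheory.Nilpotent
import Mathlib.GroupTheory.Solvable
import Mathlib.GroupTheory.NoncommPiCoprod
import Mathlib.GroupTheory.Index
import Mathlib.GroupTheory.GroupAction.ConjAct
import Mathlib.Data.Nat.PrimeFin
import Mathlib.Data.Set.Finite.Basic
import Mathlib.Tactic.Group

/-!
Basic API for `Cfsg.pCore`, `Cfsg.pPrimeCore`, `Cfsg.fittingSubgroup`.
-/

set_option autoImplicit false
set_option linter.style.haveILetI false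

open scoped Pointwise

namespace CfsgLib.Solvable

variable {G : Type*} [Group G] {H : Type*} [Group H]

/-! ### Generalities -/

/-- Normality passes to images under isomorphisms. -/
theorem normal_map_mulEquiv {N : Subgroup G} (hN : N.Normal) (e : G ≃* H) :
    (N.map e.toMonoidHom).Normal :=
  hN.map _ e.surjective

/-- The supremum of a set of subgroups stable under all automorphisms is characteristic. -/
theorem sSup_characteristic (S : Set (Subgroup G))
    (hS : ∀ φ : G ≃* G, ∀ N ∈ S, N.map φ.toMonoidHom ∈ S) : (sSup S).Characteristic := by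
  rw [Subgroup.characteristic_iff_map_le]
  intro φ
  rw [Subgroup.map_le_iff_le_comap]
  refine sSup_le fun N hN => ?_
  rw [← Subgroup.map_le_iff_le_comap]
  exact le_sSup (hS φ N hN)

/-- A predicate on normal subgroups closed under joins passes to the supremum of a finite set. -/
theorem sSup_induction_normal {P : Subgroup G → Prop} (hbot : P ⊥)
    (hsup : ∀ M N : Subgroup G, M.Normal → N.Normal → P M → P N → P (M ⊔ N))
    {S : Set (Subgroup G)} (hfin : S.Finite) (hS : ∀ N ∈ S, N.Normal ∧ P N) :
    (sSup S).Normal ∧ P (sSup S) := by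
  induction S, hfin using Set.Finite.induction_on with
  | empty =>
    rw [sSup_empty]
    exact ⟨inferInstance, hbot⟩
  | @insert A S _ _ ih =>
    rw [sSup_insert]
    obtain ⟨hA, hPA⟩ := hS A (Set.mem_insert _ _)
    obtain ⟨hB, hPB⟩ := ih fun N hN => hS N (Set.mem_insert_of_mem _ hN)
    haveI := hA
    haveI := hB
    exact ⟨Subgroup.sup_normal _ _, hsup _ _ hA hB hPA hPB⟩

/-- `|M ⊔ N|` divides `|M| * |N|` when `M` is normal. -/
theorem card_sup_dvd_mul (M N : Subgroup G) [M.Normal] :
    Nat.card (M ⊔ N : Subgroup G) ∣ Nat.card M * Nat.card N := by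
  have h1 := Subgroup.relIndex_mul_relIndex ⊥ M (M ⊔ N) bot_le le_sup_left
  rw [Subgroup.relIndex_bot_left, Subgroup.relIndex_bot_left, Subgroup.relIndex_sup_left] at h1
  rw [← h1]
  exact mul_dvd_mul_left _ (Subgroup.relIndex_dvd_card M N)

/-- A normal subgroup of a normal subgroup that is characteristic there is normal. -/
theorem normal_map_subtype_of_characteristic (N : Subgroup G) [N.Normal] (K : Subgroup N)
    [K.Characteristic] : (K.map N.subtype).Normal :=
  inferInstance

/-- The intersection of two subgroups, seen inside the first, is isomorphic to itself. -/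
theorem map_subtype_subgroupOf (K N : Subgroup G) :
    (K.subgroupOf N).map N.subtype = K ⊓ N :=
  Subgroup.subgroupOf_map_subtype K N

/-! ### The p-core -/

variable (p : ℕ)

theorem pCore_characteristic (G : Type*) [Group G] : (Cfsg.pCore p G).Characteristic :=
  sSup_characteristic _ fun φ _ hN => ⟨normal_map_mulEquiv hN.1 φ, hN.2.map φ.toMonoidHom⟩

theorem pCore_normal (G : Type*) [Group G] : (Cfsg.pCore p G).Normal := by
  haveI := pCore_characteristic p G
  infer_instance

theorem pCore_isPGroup (G : Type*) [Group G] : IsPGroup p (Cfsg.pCore p G) :=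
  Sylow.sSup_of_normal _ (fun _ h => h.2) (fun _ h => h.1)

variable {p}

theorem le_pCore {N : Subgroup G} (hn : N.Normal) (hp : IsPGroup p N) : N ≤ Cfsg.pCore p G :=
  le_sSup ⟨hn, hp⟩

theorem pCore_eq_bot_iff :
    Cfsg.pCore p G = ⊥ ↔ ∀ N : Subgroup G, N.Normal → IsPGroup p N → N = ⊥ :=
  ⟨fun h _ hn hp => eq_bot_iff.2 (h ▸ le_pCore hn hp),
    fun h => h _ (pCore_normal p G) (pCore_isPGroup p G)⟩

theorem pCore_eq_top_of_isPGroup (h : IsPGroup p G) : Cfsg.pCore p G = ⊤ :=
  top_le_iff.1 (le_pCore inferInstance (h.to_subgroup ⊤))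

theorem pCore_le_sylow (P : Sylow p G) : Cfsg.pCore p G ≤ P := by
  haveI := pCore_normal p G
  exact (pCore_isPGroup p G).le_sylow_of_normal P

theorem pCore_eq_normalCore [Fact p.Prime] [Finite G] (P : Sylow p G) :
    Cfsg.pCore p G = (P : Subgroup G).normalCore := by
  haveI := pCore_normal p G
  exact le_antisymm (Subgroup.normal_le_normalCore.2 (pCore_le_sylow P))
    (le_pCore (Subgroup.normalCore_normal _) (P.isPGroup'.to_le (Subgroup.normalCore_le _)))

theorem pCore_eq_iInf_sylow [Fact p.Prime] [Finite G] :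
    Cfsg.pCore p G = ⨅ P : Sylow p G, (P : Subgroup G) := by
  refine le_antisymm (le_iInf pCore_le_sylow) ?_
  inhabit Sylow p G
  rw [pCore_eq_normalCore (default : Sylow p G)]
  intro x hx g
  have hg : x ∈ ((g⁻¹ • (default : Sylow p G) : Sylow p G) : Subgroup G) :=
    (iInf_le (fun P : Sylow p G => (P : Subgroup G)) _) hx
  rw [Sylow.coe_subgroup_smul, Subgroup.mem_pointwise_smul_iff_inv_smul_mem] at hg
  simpa using hg

theorem card_pCore [Fact p.Prime] [Finite G] : ∃ n, Nat.card (Cfsg.pCore p G) = p ^ n :=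
  IsPGroup.iff_card.1 (pCore_isPGroup p G)

theorem map_pCore_le_of_surjective {f : G →* H} (hf : Function.Surjective f) :
    (Cfsg.pCore p G).map f ≤ Cfsg.pCore p H :=
  le_pCore ((pCore_normal p G).map f hf) ((pCore_isPGroup p G).map f)

theorem map_pCore_mulEquiv (e : G ≃* H) :
    (Cfsg.pCore p G).map e.toMonoidHom = Cfsg.pCore p H := by
  refine le_antisymm (map_pCore_le_of_surjective e.surjective) ?_
  intro y hy
  refine ⟨e.symm y, map_pCore_le_of_surjective (f := e.symm.toMonoidHom) e.symm.surjective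
    ⟨y, hy, rfl⟩, by simp⟩

theorem pCore_quotient_eq_bot (N : Subgroup G) [N.Normal] (hN : N = Cfsg.pCore p G) :
    Cfsg.pCore p (G ⧸ N) = ⊥ := by
  haveI := pCore_normal p (G ⧸ N)
  have hker : IsPGroup p (QuotientGroup.mk' N).ker := by
    rw [QuotientGroup.ker_mk', hN]
    exact pCore_isPGroup p G
  have h1 : IsPGroup p ((Cfsg.pCore p (G ⧸ N)).comap (QuotientGroup.mk' N)) :=
    (pCore_isPGroup p (G ⧸ N)).comap_of_ker_isPGroup _ hker
  have h2 : ((Cfsg.pCore p (G ⧸ N)).comap (QuotientGroup.mk' N)) ≤ N :=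
    le_of_le_of_eq (le_pCore inferInstance h1) hN.symm
  rw [eq_bot_iff]
  intro y hy
  obtain ⟨x, rfl⟩ := QuotientGroup.mk'_surjective N y
  exact (QuotientGroup.eq_one_iff x).2 (h2 hy)

theorem map_subtype_pCore_le (N : Subgroup G) [N.Normal] :
    (Cfsg.pCore p N).map N.subtype ≤ Cfsg.pCore p G := by
  haveI := pCore_characteristic p N
  exact le_pCore inferInstance ((pCore_isPGroup p N).map _)

theorem pCore_subgroupOf_le (K : Subgroup G) :
    (Cfsg.pCore p G).subgroupOf K ≤ Cfsg.pCore p K := by
  haveI := pCore_normal p G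
  exact le_pCore inferInstance
    ((pCore_isPGroup p G).comap_subtype (K := K))

theorem map_subtype_pCore_eq (N : Subgroup G) [N.Normal] :
    (Cfsg.pCore p N).map N.subtype = Cfsg.pCore p G ⊓ N := by
  refine le_antisymm (le_inf (map_subtype_pCore_le N) (Subgroup.map_subtype_le _)) ?_
  rw [← map_subtype_subgroupOf]
  exact Subgroup.map_mono (pCore_subgroupOf_le N)

/-! ### The p'-core -/

theorem pPrimeCore_characteristic (p : ℕ) (G : Type*) [Group G] :
    (Cfsg.pPrimeCore p G).Characteristic :=
  sSup_characteristic _ fun φ N hN => ⟨normal_map_mulEquiv hN.1 φ,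
    by rw [Subgroup.card_map_of_injective φ.injective]; exact hN.2⟩

theorem pPrimeCore_normal (p : ℕ) (G : Type*) [Group G] : (Cfsg.pPrimeCore p G).Normal := by
  haveI := pPrimeCore_characteristic p G
  infer_instance

theorem le_pPrimeCore {N : Subgroup G} (hn : N.Normal) (hp : (Nat.card N).Coprime p) :
    N ≤ Cfsg.pPrimeCore p G :=
  le_sSup ⟨hn, hp⟩

theorem pPrimeCore_card_coprime (p : ℕ) (G : Type*) [Group G] [Finite G] :
    (Nat.card (Cfsg.pPrimeCore p G)).Coprime p := by
  refine (sSup_induction_normal (P := fun N : Subgroup G => (Nat.card N).Coprime p) ?_ ?_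
    (Set.toFinite _) (fun N hN => hN)).2
  · simp
  · intro M N hM _ h1 h2
    haveI := hM
    exact Nat.Coprime.coprime_dvd_left (card_sup_dvd_mul M N) (h1.mul_left h2)

theorem pPrimeCore_eq_bot_iff [Finite G] :
    Cfsg.pPrimeCore p G = ⊥ ↔ ∀ N : Subgroup G, N.Normal → (Nat.card N).Coprime p → N = ⊥ :=
  ⟨fun h _ hn hp => eq_bot_iff.2 (h ▸ le_pPrimeCore hn hp),
    fun h => h _ (pPrimeCore_normal p G) (pPrimeCore_card_coprime p G)⟩

theorem map_pPrimeCore_le_of_surjective [Finite G] {f : G →* H} (hf : Function.Surjective f) :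
    (Cfsg.pPrimeCore p G).map f ≤ Cfsg.pPrimeCore p H :=
  le_pPrimeCore ((pPrimeCore_normal p G).map f hf)
    (Nat.Coprime.coprime_dvd_left (Subgroup.card_map_dvd _ _) (pPrimeCore_card_coprime p G))

theorem map_pPrimeCore_mulEquiv [Finite G] (e : G ≃* H) :
    (Cfsg.pPrimeCore p G).map e.toMonoidHom = Cfsg.pPrimeCore p H := by
  haveI : Finite H := Finite.of_equiv G e.toEquiv
  refine le_antisymm (map_pPrimeCore_le_of_surjective e.surjective) ?_
  intro y hy
  refine ⟨e.symm y, map_pPrimeCore_le_of_surjective (f := e.symm.toMonoidHom) e.symm.surjective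
    ⟨y, hy, rfl⟩, by simp⟩

theorem pPrimeCore_quotient_eq_bot [Finite G] (N : Subgroup G) [N.Normal]
    (hN : N = Cfsg.pPrimeCore p G) : Cfsg.pPrimeCore p (G ⧸ N) = ⊥ := by
  haveI := pPrimeCore_normal p (G ⧸ N)
  set M := (Cfsg.pPrimeCore p (G ⧸ N)).comap (QuotientGroup.mk' N) with hM
  have h1 : (Nat.card M).Coprime p := by
    have hle : N ≤ M :=
      le_trans (le_of_eq (QuotientGroup.ker_mk' N).symm) (MonoidHom.ker_le_comap _ _)
    have hmul := Subgroup.relIndex_mul_relIndex ⊥ N M bot_le hle
    have hrel : N.relIndex M = Nat.card (Cfsg.pPrimeCore p (G ⧸ N)) := by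
      conv_lhs => rw [← QuotientGroup.ker_mk' N, ← MonoidHom.comap_bot, Subgroup.relIndex_comap,
        hM, Subgroup.map_comap_eq_self_of_surjective (QuotientGroup.mk'_surjective N),
        Subgroup.relIndex_bot_left]
    rw [Subgroup.relIndex_bot_left, Subgroup.relIndex_bot_left, hrel] at hmul
    rw [← hmul]
    refine Nat.Coprime.mul_left ?_ (pPrimeCore_card_coprime p _)
    rw [hN]
    exact pPrimeCore_card_coprime p G
  have h2 : M ≤ N := le_of_le_of_eq (le_pPrimeCore inferInstance h1) hN.symm
  rw [eq_bot_iff]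
  intro y hy
  obtain ⟨x, rfl⟩ := QuotientGroup.mk'_surjective N y
  exact (QuotientGroup.eq_one_iff x).2 (h2 hy)

theorem map_subtype_pPrimeCore_le [Finite G] (N : Subgroup G) [N.Normal] :
    (Cfsg.pPrimeCore p N).map N.subtype ≤ Cfsg.pPrimeCore p G := by
  haveI := pPrimeCore_characteristic p N
  refine le_pPrimeCore inferInstance ?_
  rw [Subgroup.card_map_of_injective N.subtype_injective]
  exact pPrimeCore_card_coprime p N

theorem map_subtype_pPrimeCore_eq [Finite G] (N : Subgroup G) [N.Normal] :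
    (Cfsg.pPrimeCore p N).map N.subtype = Cfsg.pPrimeCore p G ⊓ N := by
  haveI := pPrimeCore_normal p G
  refine le_antisymm (le_inf (map_subtype_pPrimeCore_le N) (Subgroup.map_subtype_le _)) ?_
  rw [← map_subtype_subgroupOf]
  refine Subgroup.map_mono (le_pPrimeCore inferInstance ?_)
  refine Nat.Coprime.coprime_dvd_left ?_ (pPrimeCore_card_coprime p G)
  exact Subgroup.card_comap_dvd_of_injective _ _ N.subtype_injective

theorem pCore_inf_pPrimeCore_eq_bot [hp : Fact p.Prime] [Finite G] :
    Cfsg.pCore p G ⊓ Cfsg.pPrimeCore p G = ⊥ := by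
  obtain ⟨n, hn⟩ := card_pCore (p := p) (G := G)
  refine Subgroup.inf_eq_bot_of_coprime ?_
  rw [hn]
  exact ((pPrimeCore_card_coprime p G).symm).pow_left n

/-! ### The Fitting subgroup -/

theorem fittingSubgroup_characteristic (G : Type*) [Group G] :
    (Cfsg.fittingSubgroup G).Characteristic :=
  sSup_characteristic _ fun φ N hN => ⟨normal_map_mulEquiv hN.1 φ, by
    haveI := hN.2
    exact Group.nilpotent_of_mulEquiv (φ.subgroupMap N)⟩

theorem fittingSubgroup_normal (G : Type*) [Group G] : (Cfsg.fittingSubgroup G).Normal := by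
  haveI := fittingSubgroup_characteristic G
  infer_instance

theorem le_fittingSubgroup {N : Subgroup G} (hn : N.Normal) (hnil : Group.IsNilpotent N) :
    N ≤ Cfsg.fittingSubgroup G :=
  le_sSup ⟨hn, hnil⟩

theorem isNilpotent_of_comm {K : Type*} [Group K] (h : ∀ a b : K, a * b = b * a) :
    Group.IsNilpotent K :=
  letI : CommGroup K := { ‹Group K› with mul_comm := h }
  CommGroup.isNilpotent

theorem center_le_fittingSubgroup (G : Type*) [Group G] :
    Subgroup.center G ≤ Cfsg.fittingSubgroup G :=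
  le_fittingSubgroup inferInstance (isNilpotent_of_comm fun a b =>
    Subtype.ext ((Subgroup.mem_center_iff.1 b.2) a.1))

theorem pCore_le_fittingSubgroup [Fact p.Prime] [Finite G] :
    Cfsg.pCore p G ≤ Cfsg.fittingSubgroup G :=
  le_fittingSubgroup (pCore_normal p G) (pCore_isPGroup p G).isNilpotent

/-- A nilpotent normal subgroup is contained in the join of the `p`-cores. -/
theorem le_iSup_pCore [Finite G] {N : Subgroup G} (hn : N.Normal) (hnil : Group.IsNilpotent N) :
    N ≤ ⨆ q : (Nat.card G).primeFactors, Cfsg.pCore (q : ℕ) G := by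
  haveI := hn
  haveI := hnil
  have hfact : ∀ q : (Nat.card N).primeFactors, Fact (q : ℕ).Prime :=
    fun q => ⟨(Nat.mem_primeFactors.1 q.2).1⟩
  -- the sylow subgroups of `N` generate it
  have hgen : (⨆ q : (Nat.card N).primeFactors,
      ((default : Sylow (q : ℕ) N) : Subgroup N)) = ⊤ := by
    apply Subgroup.eq_top_of_card_eq
    apply Nat.dvd_antisymm (Subgroup.card_subgroup_dvd_card _)
    refine (Nat.dvd_iff_prime_pow_dvd_dvd _ _).2 fun q k hq hqk => ?_
    rcases Nat.eq_zero_or_pos k with rfl | hk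
    · simp
    have hqm : q ∈ (Nat.card N).primeFactors :=
      Nat.mem_primeFactors.2 ⟨hq, (dvd_pow_self q hk.ne').trans hqk, Nat.card_pos.ne'⟩
    haveI : Fact q.Prime := ⟨hq⟩
    exact ((default : Sylow q N).pow_dvd_card_of_pow_dvd_card hqk).trans
      (Subgroup.card_dvd_of_le (le_iSup (fun q : (Nat.card N).primeFactors =>
        ((default : Sylow (q : ℕ) N) : Subgroup N)) ⟨q, hqm⟩))
  have hle : ∀ q : (Nat.card N).primeFactors,
      (((default : Sylow (q : ℕ) N) : Subgroup N)).map N.subtype ≤
        ⨆ q : (Nat.card G).primeFactors, Cfsg.pCore (q : ℕ) G := by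
    intro q
    haveI := hfact q
    haveI : ((default : Sylow (q : ℕ) N) : Subgroup N).Characteristic :=
      Sylow.characteristic_of_normal _ inferInstance
    have hq : (q : ℕ) ∈ (Nat.card G).primeFactors :=
      Nat.primeFactors_mono (Subgroup.card_subgroup_dvd_card N) Nat.card_pos.ne' q.2
    refine le_trans ?_ (le_iSup (fun q : (Nat.card G).primeFactors => Cfsg.pCore (q : ℕ) G) ⟨q, hq⟩)
    exact le_pCore inferInstance ((default : Sylow (q : ℕ) N).isPGroup'.map _)
  have := congrArg (Subgroup.map N.subtype) hgen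
  rw [Subgroup.map_iSup, ← MonoidHom.range_eq_map, Subgroup.range_subtype] at this
  rw [← this]
  exact iSup_le hle

theorem isNilpotent_iSup_pCore [Finite G] :
    Group.IsNilpotent (⨆ q : (Nat.card G).primeFactors, Cfsg.pCore (q : ℕ) G : Subgroup G) := by
  classical
  have hfact : ∀ q : (Nat.card G).primeFactors, Fact (q : ℕ).Prime :=
    fun q => ⟨(Nat.mem_primeFactors.1 q.2).1⟩
  have hcomm : Pairwise fun i j : (Nat.card G).primeFactors =>
      ∀ x y : G, x ∈ Cfsg.pCore (i : ℕ) G → y ∈ Cfsg.pCore (j : ℕ) G → Commute x y := by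
    intro i j hij x y hx hy
    haveI := hfact i
    haveI := hfact j
    exact Subgroup.commute_of_normal_of_disjoint _ _ (pCore_normal _ G) (pCore_normal _ G)
      (IsPGroup.disjoint_of_ne i j (fun h => hij (Subtype.ext h)) _ _ (pCore_isPGroup _ G)
        (pCore_isPGroup _ G)) x y hx hy
  haveI : ∀ q : (Nat.card G).primeFactors, Group.IsNilpotent (Cfsg.pCore (q : ℕ) G) := fun q => by
    haveI := hfact q
    exact (pCore_isPGroup _ G).isNilpotent
  have h := Group.nilpotent_of_surjective
    (Subgroup.noncommPiCoprod hcomm).rangeRestrict (MonoidHom.rangeRestrict_surjective _)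
  rwa [Subgroup.noncommPiCoprod_range] at h

theorem fittingSubgroup_eq_iSup_pCore [Finite G] :
    Cfsg.fittingSubgroup G = ⨆ q : (Nat.card G).primeFactors, Cfsg.pCore (q : ℕ) G := by
  refine le_antisymm (sSup_le fun N hN => le_iSup_pCore hN.1 hN.2) (iSup_le fun q => ?_)
  haveI : Fact (q : ℕ).Prime := ⟨(Nat.mem_primeFactors.1 q.2).1⟩
  exact pCore_le_fittingSubgroup

/-- Fitting's theorem: the Fitting subgroup of a finite group is nilpotent. -/
theorem fittingSubgroup_isNilpotent (G : Type*) [Group G] [Finite G] :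
    Group.IsNilpotent (Cfsg.fittingSubgroup G) := by
  rw [fittingSubgroup_eq_iSup_pCore]
  exact isNilpotent_iSup_pCore

/-- Fitting's theorem for two subgroups. -/
theorem isNilpotent_sup_of_normal [Finite G] (M N : Subgroup G) (hM : M.Normal) (hN : N.Normal)
    (hM' : Group.IsNilpotent M) (hN' : Group.IsNilpotent N) :
    Group.IsNilpotent (M ⊔ N : Subgroup G) := by
  haveI := fittingSubgroup_isNilpotent G
  have h : M ⊔ N ≤ Cfsg.fittingSubgroup G :=
    sup_le (le_fittingSubgroup hM hM') (le_fittingSubgroup hN hN')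
  exact Group.nilpotent_of_mulEquiv (Subgroup.subgroupOfEquivOfLe h)

theorem fittingSubgroup_eq_top [Group.IsNilpotent G] : Cfsg.fittingSubgroup G = ⊤ :=
  top_le_iff.1 (le_fittingSubgroup inferInstance (Group.isNilpotent_top.2 inferInstance))

theorem map_fittingSubgroup_le_of_surjective [Finite G] {f : G →* H} (hf : Function.Surjective f) :
    (Cfsg.fittingSubgroup G).map f ≤ Cfsg.fittingSubgroup H := by
  haveI := fittingSubgroup_isNilpotent G
  exact le_fittingSubgroup ((fittingSubgroup_normal G).map f hf)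
    (Group.nilpotent_of_surjective ((f.subgroupMap _)) (f.subgroupMap_surjective _))

theorem map_fittingSubgroup_mulEquiv [Finite G] (e : G ≃* H) :
    (Cfsg.fittingSubgroup G).map e.toMonoidHom = Cfsg.fittingSubgroup H := by
  haveI : Finite H := Finite.of_equiv G e.toEquiv
  refine le_antisymm (map_fittingSubgroup_le_of_surjective e.surjective) ?_
  intro y hy
  refine ⟨e.symm y, map_fittingSubgroup_le_of_surjective (f := e.symm.toMonoidHom)
    e.symm.surjective ⟨y, hy, rfl⟩, by simp⟩

theorem map_subtype_fittingSubgroup_eq [Finite G] (N : Subgroup G) [N.Normal] :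
    (Cfsg.fittingSubgroup N).map N.subtype = Cfsg.fittingSubgroup G ⊓ N := by
  haveI := fittingSubgroup_characteristic N
  haveI := fittingSubgroup_isNilpotent N
  haveI := fittingSubgroup_isNilpotent G
  haveI := fittingSubgroup_normal G
  refine le_antisymm (le_inf (le_fittingSubgroup inferInstance
    (Group.nilpotent_of_mulEquiv ((Cfsg.fittingSubgroup N).equivMapOfInjective _
      N.subtype_injective))) (Subgroup.map_subtype_le _)) ?_
  rw [← map_subtype_subgroupOf]
  refine Subgroup.map_mono (le_fittingSubgroup inferInstance ?_)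
  let f : (Cfsg.fittingSubgroup G).subgroupOf N →* Cfsg.fittingSubgroup G :=
    { toFun := fun x => ⟨((x : N) : G), Subgroup.mem_subgroupOf.1 x.2⟩
      map_one' := rfl
      map_mul' := fun _ _ => rfl }
  refine Subgroup.isNilpotent_of_ker_le_center f ?_
  intro x hx
  have hx' : (((x : N) : G)) = 1 := congrArg Subtype.val hx
  rw [show x = 1 from Subtype.ext (Subtype.ext hx')]
  exact one_mem _

/-- In a solvable group the Fitting subgroup contains its centralizer. -/
theorem centralizer_fittingSubgroup_le [hs : Group.IsSolvable G] :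
    Subgroup.centralizer (Cfsg.fittingSubgroup G : Set G) ≤ Cfsg.fittingSubgroup G := by
  haveI := fittingSubgroup_normal G
  set C := Subgroup.centralizer (Cfsg.fittingSubgroup G : Set G)
  set D : ℕ → Subgroup G := fun k => Nat.rec C (fun _ K => ⁅K, K⁆) k with hD
  have hsucc : ∀ k, D (k + 1) = ⁅D k, D k⁆ := fun k => rfl
  have hn : ∀ k, (D k).Normal := by
    intro k
    induction k with
    | zero => exact Subgroup.normal_centralizer
    | succ k ih =>
      haveI := ih
      rw [hsucc]
      infer_instance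
  have hle : ∀ k, D k ≤ C := by
    intro k
    induction k with
    | zero => exact le_rfl
    | succ k ih =>
      haveI := hn k
      rw [hsucc]
      exact le_trans (Subgroup.commutator_le_left _ _) ih
  have hder : ∀ k, D k ≤ derivedSeries G k := by
    intro k
    induction k with
    | zero => exact le_top
    | succ k ih =>
      rw [hsucc, derivedSeries_succ]
      exact Subgroup.commutator_mono ih ih
  obtain ⟨n, hn'⟩ := hs.solvable
  have key : ∀ k, D (k + 1) ≤ Cfsg.fittingSubgroup G → D k ≤ Cfsg.fittingSubgroup G := by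
    intro k hk
    refine le_fittingSubgroup (hn k) (Subgroup.isNilpotent_of_lowerCentralSeries_eq_bot (n := 2) ?_)
    rw [Subgroup.lowerCentralSeries_succ, Subgroup.lowerCentralSeries_succ,
      Subgroup.lowerCentralSeries_zero, ← hsucc, Subgroup.commutator_eq_bot_iff_le_centralizer]
    refine le_trans hk ?_
    rw [Subgroup.le_centralizer_iff]
    exact hle k
  have : ∀ j, j ≤ n → D (n - j) ≤ Cfsg.fittingSubgroup G := by
    intro j
    induction j with
    | zero => exact fun _ => le_trans (hder n) (hn' ▸ bot_le)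
    | succ j ih =>
      intro hj
      apply key
      rw [show n - (j + 1) + 1 = n - j by omega]
      exact ih (by omega)
  simpa [hD] using this n le_rfl

theorem exists_isMulCommutative_normal_le [hs : Group.IsSolvable G] (N : Subgroup G) [N.Normal]
    (hN : N ≠ ⊥) : ∃ A : Subgroup G, A.Normal ∧ A ≤ N ∧ A ≠ ⊥ ∧ IsMulCommutative A := by
  obtain ⟨n, hn⟩ := hs.solvable
  have h : ∃ k, N ⊓ derivedSeries G k = ⊥ := ⟨n, by rw [hn, inf_bot_eq]⟩
  classical
  have hk := Nat.find_spec h
  obtain ⟨k, hk'⟩ : ∃ k, Nat.find h = k + 1 := by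
    refine ⟨Nat.find h - 1, (Nat.succ_pred_eq_of_ne_zero ?_).symm⟩
    intro h0
    rw [h0, derivedSeries_zero, inf_top_eq] at hk
    exact hN hk
  haveI := derivedSeries_normal G k
  refine ⟨N ⊓ derivedSeries G k, inferInstance, inf_le_left,
    Nat.find_min h (by omega), ?_⟩
  rw [← Subgroup.le_centralizer_iff_isMulCommutative, ← Subgroup.commutator_eq_bot_iff_le_centralizer,
    eq_bot_iff, ← hk, hk', derivedSeries_succ]
  exact le_inf (le_trans (Subgroup.commutator_le_left _ _) inf_le_left)
    (Subgroup.commutator_mono inf_le_right inf_le_right)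

theorem fittingSubgroup_ne_bot [Group.IsSolvable G] [Nontrivial G] :
    Cfsg.fittingSubgroup G ≠ ⊥ := by
  intro h
  obtain ⟨A, hA, -, hA', hc⟩ := exists_isMulCommutative_normal_le (⊤ : Subgroup G) top_ne_bot
  haveI := hc
  exact hA' (eq_bot_iff.2 (h ▸ le_fittingSubgroup hA
    (isNilpotent_of_comm fun a b => Subtype.ext (setLike_mul_comm a.2 b.2))))

/-- A minimal normal subgroup of a finite solvable group is elementary abelian. -/
theorem minimal_normal_elementary_abelian [Finite G] [Group.IsSolvable G]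
    (N : Subgroup G) [N.Normal] (hN : N ≠ ⊥)
    (hmin : ∀ M : Subgroup G, M.Normal → M ≤ N → M = ⊥ ∨ M = N) :
    IsMulCommutative N ∧ ∃ p : ℕ, p.Prime ∧ ∀ x ∈ N, x ^ p = 1 := by
  obtain ⟨A, hA, hAN, hA', hc⟩ := exists_isMulCommutative_normal_le N hN
  obtain rfl : A = N := (hmin A hA hAN).resolve_left hA'
  refine ⟨hc, ?_⟩
  haveI := hc
  obtain ⟨q, hq, hqd⟩ := Nat.exists_prime_and_dvd (n := Nat.card A)
    (fun h => hN (Subgroup.card_eq_one.1 h))
  haveI : Fact q.Prime := ⟨hq⟩
  obtain ⟨x, hx⟩ := exists_prime_orderOf_dvd_card' (G := A) q hqd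
  let M : Subgroup G :=
    { carrier := {y | y ∈ A ∧ y ^ q = 1}
      one_mem' := ⟨A.one_mem, one_pow _⟩
      mul_mem' := fun {a b} ha hb => ⟨A.mul_mem ha.1 hb.1, by
        have hab : Commute a b := setLike_mul_comm ha.1 hb.1
        rw [hab.mul_pow, ha.2, hb.2, one_mul]⟩
      inv_mem' := fun {a} ha => ⟨A.inv_mem ha.1, by rw [inv_pow, ha.2, inv_one]⟩ }
  have hM : M.Normal := ⟨fun y hy g => ⟨Subgroup.Normal.conj_mem ‹_› y hy.1 g, by
    rw [conj_pow, hy.2, mul_one, mul_inv_cancel]⟩⟩
  refine ⟨q, hq, fun y hy => ?_⟩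
  have hMA : M = A := by
    refine (hmin M hM fun y hy => hy.1).resolve_left fun hbot => ?_
    have hx' : (x : G) ∈ M := ⟨x.2, by
      rw [← Subgroup.coe_pow, ← hx, pow_orderOf_eq_one, Subgroup.coe_one]⟩
    rw [hbot, Subgroup.mem_bot] at hx'
    rw [orderOf_eq_one_iff.2 (Subtype.ext hx')] at hx
    exact hq.one_lt.ne hx
  rw [← hMA] at hy
  exact hy.2

/-- Existence of a minimal normal subgroup inside a nontrivial normal subgroup. -/
theorem exists_minimal_normal_le [Finite G] (N : Subgroup G) [N.Normal] (hN : N ≠ ⊥) :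
    ∃ M : Subgroup G, M.Normal ∧ M ≠ ⊥ ∧ M ≤ N ∧
      ∀ K : Subgroup G, K.Normal → K ≤ M → K = ⊥ ∨ K = M := by
  obtain ⟨M, hMN, hM⟩ := exists_minimal_le_of_wellFoundedLT
    (fun K : Subgroup G => K.Normal ∧ K ≠ ⊥) N ⟨inferInstance, hN⟩
  refine ⟨M, hM.1.1, hM.1.2, hMN, fun K hK hKM => ?_⟩
  exact or_iff_not_imp_left.2 fun hK' => le_antisymm hKM (hM.2 ⟨hK, hK'⟩ hKM)

end CfsgLib.Solvable
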