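import Cfsg.Agent.Lib.Solvable.CoprimeAction
import Cfsg.Agent.Lib.Solvable.Hall
import Cfsg.Agent.Lib.Solvable.Core

/-!
`A`-invariant Hall `π`-subgroups (`Cfsg.IsPiHallOf`) of a solvable subgroup `G` of coprime order
normalised by `A`: existence, conjugacy under `C_G(A)`, domination.
-/

set_option autoImplicit false
open scoped Pointwise
open Subgroup

namespace CfsgLib.Solvable

universe u

variable {X : Type u} [Group X]

theorem isPiHallOf_of_isPiHall {π : Set ℕ} {G : Subgroup X} {H : Subgroup G}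
    (hH : Cfsg.IsPiHall π H) : Cfsg.IsPiHallOf π (H.map G.subtype) G := by
  refine ⟨map_subtype_le _, fun q hq h => hH.1 q hq (card_subtype G H ▸ h), fun q hq hqπ h => ?_⟩
  refine hH.2 q hq hqπ ?_
  rwa [relIndex, subgroupOf, comap_map_eq_self_of_injective G.subtype_injective] at h

theorem isPiHall_of_isPiHallOf {π : Set ℕ} {G H : Subgroup X} (hH : Cfsg.IsPiHallOf π H G) :
    Cfsg.IsPiHall π (H.subgroupOf G) := by
  refine ⟨fun q hq h => hH.2.1 q hq ?_, hH.2.2⟩
  rwa [Nat.card_congr (subgroupOfEquivOfLe hH.1).toEquiv] at h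

theorem isPiHallOf_trans {π : Set ℕ} {G L H : Subgroup X} (hLG : L ≤ G)
    (hidx : ∀ q : ℕ, q.Prime → q ∈ π → ¬ q ∣ L.relIndex G) (hH : Cfsg.IsPiHallOf π H L) :
    Cfsg.IsPiHallOf π H G := by
  refine ⟨hH.1.trans hLG, hH.2.1, fun q hq hqπ h => ?_⟩
  rw [← relIndex_mul_relIndex H L G hH.1 hLG] at h
  exact (hq.dvd_mul.mp h).elim (hH.2.2 q hq hqπ) (hidx q hq hqπ)

theorem isPiHallOf_conj_smul {π : Set ℕ} {G H : Subgroup X} (hH : Cfsg.IsPiHallOf π H G) {g : X}
    (hg : g ∈ normalizer (G : Set X)) : Cfsg.IsPiHallOf π (MulAut.conj g • H) G := by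
  have hG : MulAut.conj g • G = G := conj_smul_eq_self_iff.mpr hg
  refine ⟨hG ▸ pointwise_smul_le_pointwise_smul_iff.mpr hH.1,
    fun q hq h => hH.2.1 q hq (card_conj_smul g H ▸ h), fun q hq hqπ h => hH.2.2 q hq hqπ ?_⟩
  rwa [← hG, relIndex_pointwise_smul] at h

variable [Finite X]

theorem exists_conj_of_isPiHallOf {π : Set ℕ} {G P Q : Subgroup X} (hG : Group.IsSolvable G)
    (hP : Cfsg.IsPiHallOf π P G) (hQ : Cfsg.IsPiHallOf π Q G) :
    ∃ k ∈ G, MulAut.conj k • P = Q := by
  obtain ⟨k, hk⟩ := isPiHall_conj (isPiHall_of_isPiHallOf hP) (isPiHall_of_isPiHallOf hQ)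
  refine ⟨k, k.2, ?_⟩
  have h := congr_arg (Subgroup.map G.subtype) hk
  rwa [map_conj_smul, map_subgroupOf_eq_of_le hP.1, map_subgroupOf_eq_of_le hQ.1] at h

theorem exists_invariant_isPiHallOf {A G : Subgroup X} (hAG : A ≤ normalizer (G : Set X))
    (hcop : (Nat.card A).Coprime (Nat.card G)) (hG : Group.IsSolvable G) (π : Set ℕ) :
    ∃ H : Subgroup X, Cfsg.IsPiHallOf π H G ∧ A ≤ normalizer (H : Set X) := by
  obtain ⟨H, hH⟩ := exists_isPiHall (G := G) π
  exact exists_invariant_subgroup_of_transitive hAG hcop (Or.inr hG)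
    (S := {H : Subgroup X | Cfsg.IsPiHallOf π H G}) ⟨_, isPiHallOf_of_isPiHall hH⟩
    (fun a ha P hP => isPiHallOf_conj_smul hP (hAG ha))
    (fun k hk P hP => isPiHallOf_conj_smul hP (le_normalizer hk))
    (fun P hP Q hQ => exists_conj_of_isPiHallOf hG hP hQ)

theorem exists_centralizer_conj_isPiHallOf {A G P Q : Subgroup X}
    (hAG : A ≤ normalizer (G : Set X)) (hcop : (Nat.card A).Coprime (Nat.card G))
    (hG : Group.IsSolvable G) {π : Set ℕ}
    (hP : Cfsg.IsPiHallOf π P G) (hPA : A ≤ normalizer (P : Set X))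
    (hQ : Cfsg.IsPiHallOf π Q G) (hQA : A ≤ normalizer (Q : Set X)) :
    ∃ c ∈ G ⊓ centralizer (A : Set X), MulAut.conj c • P = Q := by
  obtain ⟨k, hk, h⟩ := exists_conj_of_isPiHallOf hG hP hQ
  exact exists_centralizer_conj_eq_of_invariant hAG hcop (Or.inr hG) hPA hQA hk h

omit [Finite X] in
theorem normalizer_le_of_characteristic_map {G : Subgroup X} (K : Subgroup G) [K.Characteristic] :
    normalizer (G : Set X) ≤ normalizer ((K.map G.subtype : Subgroup X) : Set X) := by
  intro g hg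
  rw [← conj_smul_eq_self_iff, conj_smul_eq_map, map_map]
  conv_rhs => rw [← characteristic_iff_map_eq.mp (inferInstance : K.Characteristic) (normalizerMonoidHom G ⟨g, hg⟩), map_map]
  rfl

omit [Finite X] in
theorem le_normalizer_conj_smul_of_centralizer {A H : Subgroup X} (hA : A ≤ normalizer (H : Set X))
    {c : X} (hc : c ∈ centralizer (A : Set X)) :
    A ≤ normalizer ((MulAut.conj c • H : Subgroup X) : Set X) := fun a ha => by
  rw [← conj_smul_eq_self_iff, conj_smul_conj_smul, mem_centralizer_iff.mp hc a ha,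
    ← conj_smul_conj_smul, conj_smul_eq_self_iff.mpr (hA ha)]

theorem relIndex_sup_dvd_card {M H : Subgroup X} (hH : H ≤ normalizer (M : Set X)) :
    H.relIndex (M ⊔ H) ∣ Nat.card M := by
  refine Nat.dvd_of_mul_dvd_mul_left (Nat.card_pos (α := H)) ?_
  have h := card_sup_dvd hH
  rw [← relIndex_bot_left H, relIndex_mul_relIndex ⊥ H (M ⊔ H) bot_le le_sup_right,
    relIndex_bot_left, relIndex_bot_left, mul_comm]
  exact h

theorem exists_invariant_isPiHallOf_ge_aux (π : Set ℕ) : ∀ (n : ℕ) (X : Type u) [Group X]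
    [Finite X] (A G : Subgroup X), Nat.card G = n → A ≤ normalizer (G : Set X) →
    (Nat.card A).Coprime (Nat.card G) → Group.IsSolvable G →
    ∀ U : Subgroup X, U ≤ G → A ≤ normalizer (U : Set X) →
      (∀ q : ℕ, q.Prime → q ∣ Nat.card U → q ∈ π) →
      ∃ H : Subgroup X, Cfsg.IsPiHallOf π H G ∧ A ≤ normalizer (H : Set X) ∧ U ≤ H := by
  intro n
  induction n using Nat.strong_induction_on with
  | _ n ih =>
  intro X _ _ A G hn hAG hcop hG U hUG hUA hUπ
  rcases subsingleton_or_nontrivial G with hG1 | hG1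
  · refine ⟨G, ⟨le_rfl, fun q hq h => ?_, fun q hq _ h => ?_⟩, hAG, hUG⟩
    · rw [Nat.card_unique, Nat.dvd_one] at h
      exact absurd h hq.ne_one
    · rw [relIndex_self, Nat.dvd_one] at h
      exact absurd h hq.ne_one
  obtain ⟨p, M₀, hp, hM₀n, hM₀p, hM₀⟩ := exists_normal_pgroup_ne_bot (G := G)
  have : Fact p.Prime := ⟨hp⟩
  have := pCore_characteristic p G
  set M := (Cfsg.pCore p G).map G.subtype with hM
  have hMp : IsPGroup p M := (pCore_isPGroup p G).map _
  have hMG : M ≤ G := map_subtype_le _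
  have hMne : M ≠ ⊥ := fun h =>
    hM₀ (le_bot_iff.mp ((le_pCore hM₀n hM₀p).trans
      ((map_eq_bot_iff_of_injective _ G.subtype_injective).mp h).le))
  set N := normalizer (M : Set X) with hN
  have hNN : normalizer (G : Set X) ≤ N := normalizer_le_of_characteristic_map (Cfsg.pCore p G)
  have hAN : A ≤ N := hAG.trans hNN
  have hGN : G ≤ N := le_normalizer.trans hNN
  have : (M.subgroupOf N).Normal := normal_in_normalizer
  set f := QuotientGroup.mk' (M.subgroupOf N) with hf
  -- images in the quotient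
  have him : ∀ {S T : Subgroup X}, S ≤ normalizer (T : Set X) →
      (S.subgroupOf N).map f ≤ normalizer (((T.subgroupOf N).map f : Subgroup _) : Set _) :=
    fun {S T} h => (map_mono ((comap_mono h).trans (le_normalizer_comap N.subtype))).trans
      (le_normalizer_map f)
  have hcard : ∀ {S : Subgroup X}, S ≤ N → Nat.card ((S.subgroupOf N).map f) ∣ Nat.card S :=
    fun {S} h => (card_map_dvd _ f).trans (Nat.card_congr (subgroupOfEquivOfLe h).toEquiv).dvd
  set Gb := (G.subgroupOf N).map f with hGb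
  have hGcard : Nat.card M * Nat.card Gb = Nat.card G := by
    have h1 : Gb.comap f = G.subgroupOf N := by
      rw [hGb, comap_map_eq_self]
      rw [hf, QuotientGroup.ker_mk']
      exact comap_mono hMG
    have h2 := card_comap_mk' (M.subgroupOf N) Gb
    rw [← hf, h1, Nat.card_congr (subgroupOfEquivOfLe hGN).toEquiv,
      Nat.card_congr (subgroupOfEquivOfLe le_normalizer).toEquiv] at h2
    exact h2.symm
  have hlt : Nat.card Gb < n := by
    rw [← hn, ← hGcard]
    exact lt_mul_of_one_lt_left Nat.card_pos (M.one_lt_card_iff_ne_bot.mpr hMne)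
  have hGbs : Group.IsSolvable Gb := by
    have : Group.IsSolvable (G.subgroupOf N) :=
      Group.isSolvable_of_isSolvable_injective (f := (subgroupOfEquivOfLe hGN).toMonoidHom)
        (subgroupOfEquivOfLe hGN).injective
    exact Group.isSolvable_of_surjective (f.subgroupMap_surjective (G.subgroupOf N))
  obtain ⟨Hb, hHb, hHbA, hUHb⟩ := ih _ hlt _ ((A.subgroupOf N).map f) Gb rfl (him hAG)
    ((hcop.coprime_dvd_left (hcard hAN)).coprime_dvd_right (hcard hGN)) hGbs
    ((U.subgroupOf N).map f) (map_mono (comap_mono hUG)) (him hUA)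
    fun q hq h => hUπ q hq (h.trans (hcard (hUG.trans hGN)))
  -- the preimage `L`
  set L := (Hb.comap f).map N.subtype with hL
  have hLG : L ≤ G := by
    rw [hL, map_le_iff_le_comap]
    refine (comap_mono hHb.1).trans ?_
    rw [hGb, comap_map_eq_self]
    · exact le_rfl
    · rw [hf, QuotientGroup.ker_mk']
      exact comap_mono hMG
  have hLidx : ∀ q : ℕ, q.Prime → q ∈ π → ¬ q ∣ L.relIndex G := by
    intro q hq hqπ h
    refine hHb.2.2 q hq hqπ ?_
    rwa [hL, ← map_subgroupOf_eq_of_le hGN,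
      relIndex_map_map_of_injective _ _ N.subtype_injective, relIndex_comap] at h
  have hLA : A ≤ normalizer (L : Set X) := by
    have h1 : A.subgroupOf N ≤ normalizer ((Hb.comap f : Subgroup N) : Set N) :=
      (map_le_iff_le_comap.mp hHbA).trans (le_normalizer_comap f)
    rw [← map_subgroupOf_eq_of_le hAN]
    exact (map_mono h1).trans (le_normalizer_map N.subtype)
  have hUL : U ≤ L := by
    rw [← map_subgroupOf_eq_of_le (hUG.trans hGN)]
    exact map_mono (map_le_iff_le_comap.mp hUHb)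
  have hML : M ≤ L := by
    rw [← map_subgroupOf_eq_of_le (le_normalizer (H := M))]
    refine map_mono fun x hx => ?_
    rw [mem_comap, hf, QuotientGroup.mk'_apply, (QuotientGroup.eq_one_iff x).mpr hx]
    exact one_mem _
  have cL : Nat.card L = Nat.card M * Nat.card Hb := by
    rw [hL, card_subtype, card_comap_mk',
      Nat.card_congr (subgroupOfEquivOfLe (le_normalizer (H := M))).toEquiv]
  by_cases hpi : p ∈ π
  · refine ⟨L, ⟨hLG, fun q hq h => ?_, hLidx⟩, hLA, hUL⟩
    rw [cL] at h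
    rcases hq.dvd_mul.mp h with h | h
    · exact (isPGroup_prime_eq hMp hq h).symm ▸ hpi
    · exact hHb.2.1 q hq h
  have hcopM : ∀ k : ℕ, (∀ q : ℕ, q.Prime → q ∣ k → q ∈ π) → (Nat.card M).Coprime k := fun k hk =>
    Nat.coprime_of_dvd fun q hq h1 h2 => hpi (isPGroup_prime_eq hMp hq h1 ▸ hk q hq h2)
  have hLs : Group.IsSolvable L := Group.isSolvable_of_isSolvable_injective (inclusion_injective hLG)
  obtain ⟨H₁, hH₁, hH₁A⟩ := exists_invariant_isPiHallOf hLA
    (hcop.coprime_dvd_right (card_dvd_of_le hLG)) hLs π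
  have hH₁N : H₁ ≤ N := hH₁.1.trans (hLG.trans hGN)
  have hMH : M ⊔ H₁ = L := by
    refine eq_of_le_of_card_ge (sup_le hML hH₁.1) ?_
    rw [card_sup_of_disjoint hH₁N (disjoint_of_coprime_natCard (hcopM _ hH₁.2.1)), cL]
    refine Nat.mul_le_mul_left _ (Nat.le_of_dvd Nat.card_pos ?_)
    have h := relIndex_mul_relIndex ⊥ H₁ L bot_le hH₁.1
    rw [relIndex_bot_left, relIndex_bot_left, cL] at h
    exact (Nat.coprime_of_dvd fun q hq h1 h2 =>
      hH₁.2.2 q hq (hHb.2.1 q hq h1) h2).dvd_of_dvd_mul_right (Dvd.intro_left _ h.symm)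
  set W := M ⊔ U with hW
  have hWG : W ≤ G := sup_le hMG hUG
  have hWA : A ≤ normalizer (W : Set X) :=
    le_trans (le_inf hAN hUA) (normalizer_inf_normalizer_le_normalizer_sup M U)
  have hW₁ : M ⊔ (H₁ ⊓ W) = W := by
    exact sup_inf_eq_of_le hH₁N le_sup_left (hMH.symm ▸ sup_le hML hUL)
  have hidxW : ∀ S : Subgroup X, S ≤ N → M ⊔ S = W →
      ∀ q : ℕ, q.Prime → q ∈ π → ¬ q ∣ S.relIndex W := fun S hS hSW q hq hqπ h => by
    rw [← hSW] at h
    exact hpi (isPGroup_prime_eq hMp hq (h.trans (relIndex_sup_dvd_card hS)) ▸ hqπ)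
  obtain ⟨c, ⟨hcW, hcA⟩, hc⟩ := exists_centralizer_conj_isPiHallOf hWA
    (hcop.coprime_dvd_right (card_dvd_of_le hWG))
    (Group.isSolvable_of_isSolvable_injective (inclusion_injective hWG))
    (P := H₁ ⊓ W) (Q := U) (π := π)
    ⟨inf_le_right, fun q hq h => hH₁.2.1 q hq (h.trans (card_dvd_of_le inf_le_left)),
      hidxW _ (inf_le_left.trans hH₁N) hW₁⟩
    (le_trans (le_inf hH₁A hWA) inf_normalizer_le_normalizer_inf)
    ⟨le_sup_right, hUπ, hidxW _ (hUG.trans hGN) rfl⟩ hUA
  refine ⟨MulAut.conj c • H₁, isPiHallOf_conj_smul (isPiHallOf_trans hLG hLidx hH₁)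
    (le_normalizer (hWG hcW)), le_normalizer_conj_smul_of_centralizer hH₁A hcA, ?_⟩
  rw [← hc]
  exact pointwise_smul_le_pointwise_smul_iff.mpr inf_le_left

theorem exists_invariant_isPiHallOf_ge {A G : Subgroup X} (hAG : A ≤ normalizer (G : Set X))
    (hcop : (Nat.card A).Coprime (Nat.card G)) (hG : Group.IsSolvable G) {π : Set ℕ}
    {U : Subgroup X} (hUG : U ≤ G) (hUA : A ≤ normalizer (U : Set X))
    (hUπ : ∀ q : ℕ, q.Prime → q ∣ Nat.card U → q ∈ π) :
    ∃ H : Subgroup X, Cfsg.IsPiHallOf π H G ∧ A ≤ normalizer (H : Set X) ∧ U ≤ H :=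
  exists_invariant_isPiHallOf_ge_aux π _ X A G rfl hAG hcop hG U hUG hUA hUπ

end CfsgLib.Solvable
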