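import Mathlib.GroupTheory.Solvable
import Mathlib.GroupTheory.Sylow
import Mathlib.GroupTheory.Complement
import Mathlib.Algebra.Group.Subgroup.Pointwise

/-!
Elementary subgroup lemmas used by the solvable / coprime action library.
-/

set_option autoImplicit false
open scoped Pointwise
open Subgroup

namespace CfsgLib.Solvable

variable {G : Type*} [Group G]

theorem mem_conj_smul {g x : G} {H : Subgroup G} :
    x ∈ MulAut.conj g • H ↔ g⁻¹ * x * g ∈ H := by
  rw [mem_pointwise_smul_iff_inv_smul_mem, ← map_inv, MulAut.smul_def, MulAut.conj_apply, inv_inv]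

theorem conj_smul_eq_map (g : G) (H : Subgroup G) :
    MulAut.conj g • H = H.map (MulAut.conj g).toMonoidHom := rfl

theorem card_conj_smul (g : G) (H : Subgroup G) :
    Nat.card (MulAut.conj g • H : Subgroup G) = Nat.card H :=
  (Nat.card_congr (equivSMul (MulAut.conj g) H).toEquiv).symm

theorem map_conj_smul {G' : Type*} [Group G'] (f : G →* G') (g : G) (H : Subgroup G) :
    (MulAut.conj g • H).map f = MulAut.conj (f g) • H.map f := by
  rw [conj_smul_eq_map, conj_smul_eq_map, map_map, map_map]
  congr 1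
  ext x
  simp

theorem conj_smul_conj_smul (g h : G) (H : Subgroup G) :
    MulAut.conj g • MulAut.conj h • H = MulAut.conj (g * h) • H := by
  rw [smul_smul, map_mul]

theorem conj_smul_le_iff {g : G} {H K : Subgroup G} :
    MulAut.conj g • H ≤ K ↔ ∀ x ∈ H, g * x * g⁻¹ ∈ K := by
  rw [conj_smul_eq_map, map_le_iff_le_comap]
  simp [SetLike.le_def]

theorem conj_smul_eq_self_iff {g : G} {H : Subgroup G} :
    MulAut.conj g • H = H ↔ g ∈ normalizer (H : Set G) := by
  rw [mem_normalizer_iff_map_conj_eq]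
  rfl

theorem conj_smul_le_of_mem_normalizer {g : G} {N H : Subgroup G}
    (hg : g ∈ normalizer (N : Set G)) (hH : H ≤ N) : MulAut.conj g • H ≤ N := by
  calc MulAut.conj g • H ≤ MulAut.conj g • N := pointwise_smul_le_pointwise_smul_iff.mpr hH
    _ = N := conj_smul_eq_self_iff.mpr hg

/-- Membership in `N ⊔ H` when `H` normalises `N`. -/
theorem mem_sup_of_le_normalizer {N H : Subgroup G} (hH : H ≤ normalizer (N : Set G)) {x : G} :
    x ∈ N ⊔ H ↔ ∃ n ∈ N, ∃ h ∈ H, n * h = x := by
  rw [← SetLike.mem_coe, coe_mul_of_right_le_normalizer_left N H hH, Set.mem_mul]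
  simp only [SetLike.mem_coe]

/-- Dedekind's modular law, in the form used for complements. -/
theorem sup_inf_eq_of_le {N B X : Subgroup G} (hB : B ≤ normalizer (N : Set G)) (hNX : N ≤ X)
    (hX : X ≤ N ⊔ B) : N ⊔ (B ⊓ X) = X := by
  refine le_antisymm (sup_le hNX inf_le_right) ?_
  intro x hx
  obtain ⟨n, hn, b, hb, rfl⟩ := (mem_sup_of_le_normalizer hB).mp (hX hx)
  exact mul_mem (mem_sup_left hn) (mem_sup_right ⟨hb, by simpa using mul_mem (inv_mem (hNX hn)) hx⟩)

theorem isComplement'_of_sup_eq_top {N H : Subgroup G} [N.Normal] (hsup : N ⊔ H = ⊤)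
    (hdis : Disjoint N H) : IsComplement' N H :=
  isComplement'_of_disjoint_and_mul_eq_univ hdis (by rw [← normal_mul, hsup, coe_top])

theorem card_sup_of_disjoint {N H : Subgroup G} (hH : H ≤ normalizer (N : Set G))
    (hdis : Disjoint N H) : Nat.card (N ⊔ H : Subgroup G) = Nat.card N * Nat.card H := by
  have hn : (N.subgroupOf (N ⊔ H)).Normal :=
    normal_subgroupOf_of_le_normalizer (sup_le le_normalizer hH)
  have h := isComplement'_of_sup_eq_top (N := N.subgroupOf (N ⊔ H)) (H := H.subgroupOf (N ⊔ H))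
    (by rw [← subgroupOf_sup le_sup_left le_sup_right, subgroupOf_self])
    (disjoint_def.mpr fun hx hy => Subtype.ext (disjoint_def.mp hdis hx hy))
  rw [← h.card_mul_card, Nat.card_congr (subgroupOfEquivOfLe (le_sup_left : N ≤ N ⊔ H)).toEquiv,
    Nat.card_congr (subgroupOfEquivOfLe (le_sup_right : H ≤ N ⊔ H)).toEquiv]

theorem card_sup_dvd {N H : Subgroup G} [Finite G] (hH : H ≤ normalizer (N : Set G)) :
    Nat.card (N ⊔ H : Subgroup G) ∣ Nat.card N * Nat.card H := by
  have hn : (N.subgroupOf (N ⊔ H)).Normal :=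
    normal_subgroupOf_of_le_normalizer (sup_le le_normalizer hH)
  have h := relIndex_sup_left (K := N.subgroupOf (N ⊔ H)) (H := H.subgroupOf (N ⊔ H))
  rw [← subgroupOf_sup le_sup_left le_sup_right, subgroupOf_self, relIndex_top_right] at h
  rw [← card_mul_index (N.subgroupOf (N ⊔ H)), h,
    Nat.card_congr (subgroupOfEquivOfLe (le_sup_left : N ≤ N ⊔ H)).toEquiv]
  refine Nat.mul_dvd_mul_left _ ?_
  refine (relIndex_dvd_card (H := N.subgroupOf (N ⊔ H)) (K := H.subgroupOf (N ⊔ H))).trans ?_
  rw [Nat.card_congr (subgroupOfEquivOfLe (le_sup_right : H ≤ N ⊔ H)).toEquiv]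

/-- A finite solvable nontrivial group has a normal subgroup of prime index. -/
theorem exists_normal_prime_index [Finite G] [Group.IsSolvable G] [Nontrivial G] :
    ∃ M : Subgroup G, M.Normal ∧ commutator G ≤ M ∧ M.index.Prime := by
  have hlt := Group.IsSolvable.commutator_lt_top_of_nontrivial G
  obtain ⟨M, hM, hle⟩ := (eq_top_or_exists_le_coatom (commutator G)).resolve_left hlt.ne
  have hn : M.Normal := Subgroup.Normal.of_commutator_le G hle
  refine ⟨M, hn, hle, ?_⟩
  have hne : M.index ≠ 1 := fun h => hM.1 (index_eq_one.mp h)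
  obtain ⟨p, hp, hpd⟩ := Nat.exists_prime_and_dvd hne
  have : Fact p.Prime := ⟨hp⟩
  obtain ⟨x, hx⟩ := exists_prime_orderOf_dvd_card' (G := G ⧸ M) p (by rwa [← index_eq_card])
  have hle' : M ≤ (zpowers x).comap (QuotientGroup.mk' M) := by
    intro y hy
    simp [mem_comap, (QuotientGroup.eq_one_iff y).mpr hy]
  rcases hM.le_iff.mp hle' with h | h
  · rw [← comap_top (QuotientGroup.mk' M)] at h
    have h' := comap_injective (QuotientGroup.mk'_surjective M) h
    rw [index_eq_card, ← card_top, ← h', Nat.card_zpowers, hx]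
    exact hp
  · have hx1 : x = 1 := by
      obtain ⟨y, rfl⟩ := QuotientGroup.mk'_surjective M x
      have : y ∈ (zpowers (QuotientGroup.mk' M y)).comap (QuotientGroup.mk' M) :=
        mem_comap.mpr (mem_zpowers _)
      rw [h] at this
      exact (QuotientGroup.eq_one_iff y).mpr this
    rw [hx1, orderOf_one] at hx
    exact absurd hx.symm hp.ne_one

end CfsgLib.Solvable

namespace CfsgLib.Solvable

variable {G : Type*} [Group G]

theorem relIndex_sup_of_le_normalizer {N H : Subgroup G} (hH : H ≤ normalizer (N : Set G)) :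
    N.relIndex (N ⊔ H) = N.relIndex H := by
  have hn : (N.subgroupOf (N ⊔ H)).Normal :=
    normal_subgroupOf_of_le_normalizer (sup_le le_normalizer hH)
  have h := relIndex_sup_left (K := N.subgroupOf (N ⊔ H)) (H := H.subgroupOf (N ⊔ H))
  rw [← subgroupOf_sup le_sup_left le_sup_right, subgroupOf_self, relIndex_top_right] at h
  exact h.trans (relIndex_subgroupOf le_sup_right)

theorem card_inf_mul_relIndex (N H : Subgroup G) :
    Nat.card (N ⊓ H : Subgroup G) * N.relIndex H = Nat.card H := by
  rw [← card_mul_index (N.subgroupOf H), Nat.card_congr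
    ((MulEquiv.subgroupCongr (inf_subgroupOf_right N H).symm).trans
      (subgroupOfEquivOfLe (inf_le_right : N ⊓ H ≤ H))).toEquiv]
  rfl

end CfsgLib.Solvable
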