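import Cfsg.Agent.Lib.Solvable.Core
import Cfsg.Agent.Lib.Solvable.Basic
import Cfsg.Agent.Lib.PLocal.Thompson
import Cfsg.Prelude.Def_Transfer
import Mathlib.Algebra.BigOperators.Group.Finset.Basic
import Mathlib.Algebra.Group.Subgroup.Finite
import Mathlib.Tactic.Group

/-!
Fixed-point-free automorphisms of prime order: the solvable case of Thompson's theorem and the
reduction of the general case to an odd normal p-complement criterion.
-/

set_option autoImplicit false
open scoped Pointwise IsMulCommutative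
open Subgroup Finset

namespace CfsgLib.Solvable

variable {G : Type*} [Group G]

/-- The powers, by a number prime to the order, of a fixed-point-free automorphism are
fixed-point-free. -/
theorem pow_fpf {φ : MulAut G} {p : ℕ} (hp : p.Prime) (hord : φ ^ p = 1)
    (hfpf : ∀ g : G, φ g = g → g = 1) {k : ℕ} (hk : ¬ p ∣ k) {g : G} (hg : (φ ^ k) g = g) :
    g = 1 := by
  refine hfpf g ?_
  obtain ⟨u, v, huv⟩ := Int.isCoprime_iff_gcd_eq_one.mpr
    (show Int.gcd (k : ℤ) (p : ℤ) = 1 by
      simpa using ((hp.coprime_iff_not_dvd.mpr hk).symm))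
  have hmem : φ ∈ MulAction.stabilizer (MulAut G) g := by
    have h1 : φ ^ k ∈ MulAction.stabilizer (MulAut G) g := MulAction.mem_stabilizer_iff.mpr hg
    have : φ = (φ ^ k) ^ u * (φ ^ p) ^ v := by
      rw [← zpow_natCast φ k, ← zpow_natCast φ p, ← zpow_mul, ← zpow_mul, ← zpow_add,
        mul_comm (k : ℤ), mul_comm (p : ℤ), huv, zpow_one]
    rw [this, hord, one_zpow, mul_one]
    exact zpow_mem h1 u
  exact MulAction.mem_stabilizer_iff.mp hmem

variable [Finite G]

theorem pow_mem_of_invariant {φ : MulAut G} {N : Subgroup G} (hN : ∀ x ∈ N, φ x ∈ N) (k : ℕ)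
    {x : G} (hx : x ∈ N) : (φ ^ k) x ∈ N := by
  induction k generalizing x with
  | zero => simpa using hx
  | succ k ih => rw [pow_succ, MulAut.mul_apply]; exact ih (hN x hx)

/-- A characteristic subgroup is invariant. -/
theorem apply_mem_of_characteristic {G : Type*} [Group G] (φ : MulAut G) (N : Subgroup G)
    [N.Characteristic] {x : G} (hx : x ∈ N) : φ x ∈ N :=
  (characteristic_iff_map_eq.mp ‹N.Characteristic› φ) ▸ mem_map_of_mem φ.toMonoidHom hx

/-- `x ↦ x⁻¹ φ(x)` is a bijection of an invariant subgroup. -/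
theorem exists_inv_mul_apply_eq {φ : MulAut G} (hfpf : ∀ g : G, φ g = g → g = 1) {R : Subgroup G}
    (hR : ∀ x ∈ R, φ x ∈ R) : Function.Bijective
      (fun x : R => (⟨(x : G)⁻¹ * φ x, mul_mem (inv_mem x.2) (hR x x.2)⟩ : R)) := by
  refine Finite.injective_iff_bijective.mp fun a b h => ?_
  have h' : (a : G)⁻¹ * φ a = (b : G)⁻¹ * φ b := congr_arg Subtype.val h
  refine Subtype.ext (mul_inv_eq_one.mp ?_).symm
  refine hfpf _ ?_
  rw [map_mul, map_inv, mul_inv_eq_iff_eq_mul, ← mul_right_inj ((b : G)⁻¹)]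
  rw [← h']
  simp [mul_assoc]

/-- An invariant Sylow subgroup. -/
theorem exists_invariant_sylow_of_fpf {φ : MulAut G} (hfpf : ∀ g : G, φ g = g → g = 1) (q : ℕ)
    [Fact q.Prime] : ∃ P : Sylow q G, ∀ x ∈ (P : Subgroup G), φ x ∈ (P : Subgroup G) := by
  obtain ⟨P⟩ : Nonempty (Sylow q G) := inferInstance
  set Q := P.mapSurjective (f := φ.toMonoidHom) φ.surjective with hQ
  obtain ⟨g, hg⟩ := MulAction.exists_smul_eq G P Q
  obtain ⟨h, hh⟩ := (exists_inv_mul_apply_eq hfpf (R := ⊤) (fun _ _ => mem_top _)).2 ⟨g⁻¹, mem_top _⟩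
  have hh' : (h : G)⁻¹ * φ h = g⁻¹ := congr_arg Subtype.val hh
  refine ⟨(h : G) • P, fun x hx => ?_⟩
  have e : φ (h : G) * g = h := by
    rw [show φ (h : G) = (h : G) * g⁻¹ by rw [← hh', mul_inv_cancel_left], inv_mul_cancel_right]
  have key : (MulAut.conj (h : G) • (P : Subgroup G)).map φ.toMonoidHom =
      MulAut.conj (h : G) • (P : Subgroup G) := by
    rw [map_conj_smul]
    change MulAut.conj (φ (h : G)) • (Q : Subgroup G) = _
    rw [← hg]
    change MulAut.conj (φ (h : G)) • MulAut.conj g • (P : Subgroup G) = _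
    rw [conj_smul_conj_smul, e]
  have hm : φ x ∈ (MulAut.conj (h : G) • (P : Subgroup G)).map φ.toMonoidHom :=
    mem_map_of_mem φ.toMonoidHom (hx : x ∈ MulAut.conj (h : G) • (P : Subgroup G))
  rw [key] at hm
  exact hm

/-- The induced automorphism of an invariant subgroup. -/
theorem exists_restrict (φ : MulAut G) (H : Subgroup G) (hH : ∀ x ∈ H, φ x ∈ H) :
    ∃ ψ : MulAut H, ∀ x : H, (ψ x : G) = φ x := by
  refine ⟨MulEquiv.ofBijective ((φ.toMonoidHom.comp H.subtype).codRestrict H fun x => hH x x.2)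
    (Finite.injective_iff_bijective.mp fun a b h => Subtype.ext (φ.injective ?_)), fun x => rfl⟩
  exact congr_arg Subtype.val h

theorem restrict_pow {φ : MulAut G} {H : Subgroup G} {ψ : MulAut H}
    (hψ : ∀ x : H, (ψ x : G) = φ x) (k : ℕ) (x : H) : ((ψ ^ k) x : G) = (φ ^ k) x := by
  induction k generalizing x with
  | zero => rfl
  | succ k ih => rw [pow_succ, pow_succ, MulAut.mul_apply, MulAut.mul_apply, ih, hψ]

/-- The induced automorphism of an invariant quotient, which is again fixed-point-free. -/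
theorem exists_quotient {φ : MulAut G} {p : ℕ} (hord : φ ^ p = 1)
    (hfpf : ∀ g : G, φ g = g → g = 1) (N : Subgroup G) [N.Normal] (hN : ∀ x ∈ N, φ x ∈ N) :
    ∃ ψ : MulAut (G ⧸ N), ψ ^ p = 1 ∧ ∀ g : G ⧸ N, ψ g = g → g = 1 := by
  have hmap : N.map φ.toMonoidHom = N := by
    refine eq_of_le_of_card_ge (map_le_iff_le_comap.mpr hN) ?_
    exact (Subgroup.card_map_of_injective (f := φ.toMonoidHom) φ.injective).ge
  set ψ : MulAut (G ⧸ N) := QuotientGroup.congr N N φ hmap with hψdef
  have hψ : ∀ g : G, ψ (g : G ⧸ N) = ((φ g : G) : G ⧸ N) := fun g => rfl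
  have hpow : ∀ (k : ℕ) (g : G), (ψ ^ k) (g : G ⧸ N) = (((φ ^ k) g : G) : G ⧸ N) := by
    intro k
    induction k with
    | zero => intro g; rfl
    | succ k ih => intro g; rw [pow_succ, pow_succ, MulAut.mul_apply, MulAut.mul_apply, hψ, ih]
  refine ⟨ψ, MulEquiv.ext fun g => ?_, fun g hg => ?_⟩
  · obtain ⟨g, rfl⟩ := QuotientGroup.mk_surjective g
    rw [hpow, hord]; rfl
  · obtain ⟨g, rfl⟩ := QuotientGroup.mk_surjective g
    rw [hψ, eq_comm, QuotientGroup.eq] at hg
    obtain ⟨n, hn⟩ := (exists_inv_mul_apply_eq hfpf hN).2 ⟨_, hg⟩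
    have hn' : (n : G)⁻¹ * φ n = g⁻¹ * φ g := congr_arg Subtype.val hn
    have : g * (n : G)⁻¹ = 1 := by
      refine hfpf _ ?_
      rw [map_mul, map_inv, mul_inv_eq_iff_eq_mul, mul_assoc, hn', mul_inv_cancel_left]
    rw [QuotientGroup.eq_one_iff, mul_inv_eq_one.mp this]
    exact n.2

/-- An invariant `r`-subgroup centralises an invariant abelian normal subgroup of coprime order. -/
theorem le_centralizer_of_fpf {φ : MulAut G} {p : ℕ} (hp : p.Prime) (hord : φ ^ p = 1)
    (hfpf : ∀ g : G, φ g = g → g = 1) {R V : Subgroup G} [IsMulCommutative V]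
    (hR : ∀ x ∈ R, φ x ∈ R) (hV : ∀ x ∈ V, φ x ∈ V) (hRV : R ≤ normalizer (V : Set G))
    (hcop : (Nat.card R).Coprime (Nat.card V)) : R ≤ centralizer (V : Set G) := by
  classical
  have : Fintype R := Fintype.ofFinite R
  let c : R → V → V := fun x u =>
    ⟨(x : G) * u * (x : G)⁻¹, le_normalizer_iff.mp hRV x x.2 u u.2⟩
  let f : ℕ → V → V := fun k u => ⟨(φ ^ k) u, pow_mem_of_invariant hV k u.2⟩
  let ev : V →* G := V.subtype
  have hcmul : ∀ x u w, c x (u * w) = c x u * c x w := fun x u w =>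
    Subtype.ext (by simp [c, mul_assoc])
  let cHom : R → (V →* V) := fun x => MonoidHom.mk' (c x) (hcmul x)
  let φV : V →* V := MonoidHom.mk' (f 1) fun u w => Subtype.ext (by simp [f])
  have hφV : ∀ k u, φV (f k u) = f (k + 1) u := fun k u =>
    Subtype.ext (show (φ ^ 1) ((φ ^ k) (u : G)) = _ by
      rw [← MulAut.mul_apply, ← pow_add, add_comm])
  have horbit : ∀ u : V, ∏ k ∈ range p, f k u = 1 := by
    intro u
    have h : φV (∏ k ∈ range p, f k u) = ∏ k ∈ range p, f k u := by
      rw [map_prod]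
      simp only [hφV]
      have h1 := prod_range_succ' (fun k => f k u) p
      rw [prod_range_succ] at h1
      have h0 : f p u = f 0 u := Subtype.ext (by simp [f, hord])
      rw [h0] at h1
      exact (mul_right_cancel h1).symm
    have h2 : φ ((∏ k ∈ range p, f k u : V) : G) = ((∏ k ∈ range p, f k u : V) : G) := by
      have h3 := congr_arg Subtype.val h
      change (φ ^ 1) _ = _ at h3
      rwa [pow_one] at h3
    exact Subtype.ext (hfpf _ h2)
  -- conjugate orbit products
  let d : ℕ → R → R := fun k y =>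
    ⟨(y : G)⁻¹ * (φ ^ k) y, mul_mem (inv_mem y.2) (pow_mem_of_invariant hR k y.2)⟩
  have hterm : ∀ (y : R) (k : ℕ) (v : V), c y⁻¹ (f k (c y v)) = c (d k y) (f k v) := by
    intro y k v
    refine Subtype.ext ?_
    simp [c, f, d, mul_assoc]
  intro x hx v hv
  set w : V := ⟨v, hv⟩ with hw
  have htot : ∏ k ∈ range p, ∏ y : R, c (d k y) (f k w) = 1 := by
    rw [prod_comm]
    refine prod_eq_one fun y _ => ?_
    have h := congr_arg (cHom y⁻¹) (horbit (c y w))
    rw [map_prod, map_one] at h
    calc ∏ k ∈ range p, c (d k y) (f k w) = ∏ k ∈ range p, cHom y⁻¹ (f k (c y w)) :=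
          prod_congr rfl fun k _ => (hterm y k w).symm
      _ = 1 := h
  set T : V → V := fun u => ∏ y : R, c y u with hT
  have hTfix : ∀ (y : R) (u : V), c y (T u) = T u := by
    intro y u
    change cHom y (∏ z : R, c z u) = _
    rw [map_prod]
    refine Fintype.prod_equiv (Equiv.mulLeft y) _ _ fun z => Subtype.ext ?_
    simp [cHom, c, mul_assoc]
  obtain ⟨n, rfl⟩ : ∃ n, p = n + 1 := ⟨p - 1, (Nat.succ_pred_eq_of_pos hp.pos).symm⟩
  rw [prod_range_succ'] at htot
  have hzero : ∏ y : R, c (d 0 y) (f 0 w) = w ^ Nat.card R := by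
    rw [Nat.card_eq_fintype_card, ← card_univ, ← prod_const]
    exact prod_congr rfl fun y _ => Subtype.ext (by simp [c, d, f])
  have hsucc : ∀ k ∈ range n, ∏ y : R, c (d (k + 1) y) (f (k + 1) w) = T (f (k + 1) w) := by
    intro k hk
    have hnd : ¬ (n + 1) ∣ (k + 1) := fun h =>
      absurd (Nat.le_of_dvd (Nat.succ_pos k) h) (by simp at hk; omega)
    exact Fintype.prod_bijective (d (k + 1))
      (exists_inv_mul_apply_eq (φ := φ ^ (k + 1)) (fun g hg => pow_fpf hp hord hfpf hnd hg)
        fun g hg => pow_mem_of_invariant hR (k + 1) hg) _ _ fun y => rfl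
  rw [prod_congr rfl hsucc, hzero] at htot
  have hwfix : ∀ y : R, c y (w ^ Nat.card R) = w ^ Nat.card R := by
    intro y
    rw [eq_inv_of_mul_eq_one_right htot]
    change cHom y _ = _
    rw [map_inv, map_prod]
    exact congr_arg _ (prod_congr rfl fun k _ => hTfix y _)
  have hfinal : c ⟨x, hx⟩ w = w := by
    refine (powCoprime hcop.symm).injective ?_
    rw [powCoprime_apply, powCoprime_apply]
    exact (map_pow (cHom ⟨x, hx⟩) w _).symm.trans (hwfix ⟨x, hx⟩)
  have h5 : x * v * x⁻¹ = v := congr_arg Subtype.val hfinal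
  rw [mul_inv_eq_iff_eq_mul] at h5
  exact h5.symm

universe u

/-- A finite solvable group with a fixed-point-free automorphism of prime order is nilpotent. -/
theorem isNilpotent_of_fpf_solvable {p : ℕ} (hp : p.Prime) :
    ∀ (n : ℕ) (G : Type u) [Group G] [Finite G] [Group.IsSolvable G] (φ : MulAut G),
      Nat.card G = n → φ ^ p = 1 → (∀ g : G, φ g = g → g = 1) → Group.IsNilpotent G := by
  intro n
  induction n using Nat.strong_induction_on with
  | _ n ih =>
  intro G _ _ _ φ hn hord hfpf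
  rcases subsingleton_or_nontrivial G with h | h
  · infer_instance
  obtain ⟨M, hMn, hM1, -, hMmin⟩ := exists_minimal_normal_le (⊤ : Subgroup G) top_ne_bot
  obtain ⟨hMc, q, hq, hMq⟩ := minimal_normal_elementary_abelian M hM1 hMmin
  have : Fact q.Prime := ⟨hq⟩
  have hMp : IsPGroup q M := fun x => ⟨1, Subtype.ext (by simpa using hMq x x.2)⟩
  have hPC := pCore_characteristic q G
  set P := Cfsg.pCore q G with hP
  have hP1 : P ≠ ⊥ := fun h => hM1 (le_bot_iff.mp (h ▸ le_pCore hMn hMp))
  set V := (center P).map P.subtype with hV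
  have hVP : V ≤ P := map_subtype_le _
  have hVc : V.Characteristic := by
    refine characteristic_iff_map_le.mpr fun θ => ?_
    rintro _ ⟨_, ⟨z, hz, rfl⟩, rfl⟩
    have hθ : θ (z : G) ∈ P := apply_mem_of_characteristic θ P z.2
    refine ⟨⟨θ z, hθ⟩, mem_center_iff.mpr fun y => Subtype.ext ?_, rfl⟩
    have hy : θ.symm (y : G) ∈ P := apply_mem_of_characteristic θ.symm P y.2
    have := congr_arg (fun t : P => θ (t : G)) (mem_center_iff.mp hz ⟨θ.symm y, hy⟩)
    simpa using this
  have hV1 : V ≠ ⊥ := by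
    have : Nontrivial P := (nontrivial_iff_ne_bot P).mpr hP1
    intro h
    exact (pCore_isPGroup q G).bot_lt_center.ne'
      (map_injective P.subtype_injective (h.trans (Subgroup.map_bot _).symm))
  have hVcomm : IsMulCommutative V := by
    refine le_centralizer_iff_isMulCommutative.mp ?_
    rintro _ ⟨a, ha, rfl⟩ _ ⟨b, hb, rfl⟩
    exact congr_arg Subtype.val (mem_center_iff.mp ha b)
  obtain ⟨k, hk⟩ := ((pCore_isPGroup q G).to_le hVP).exists_card_eq
  have hVinv : ∀ x ∈ V, φ x ∈ V := fun x hx => apply_mem_of_characteristic φ V hx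
  obtain ⟨ψ, hψ, hψf⟩ := exists_quotient hord hfpf V hVinv
  have hlt : Nat.card (G ⧸ V) < n := by
    rw [← hn, ← index_eq_card, ← card_mul_index V]
    exact lt_mul_of_one_lt_left (Nat.pos_of_ne_zero index_ne_zero_of_finite)
      (V.one_lt_card_iff_ne_bot.mpr hV1)
  have hQnil := ih _ hlt (G ⧸ V) ψ rfl hψ hψf
  refine ((Group.isNilpotent_of_finite_tfae (G := G)).out 0 3).mpr ?_
  intro r hr R
  have := hr
  have hsurj := QuotientGroup.mk'_surjective V
  -- the preimage of a Sylow subgroup of the quotient is normal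
  have hnormal : ∀ S : Sylow r G, ((S : Subgroup G) ⊔ V).Normal := by
    intro S
    have hallQ : ∀ (p : ℕ) (_hp : Fact p.Prime) (T : Sylow p (G ⧸ V)),
        (T : Subgroup (G ⧸ V)).Normal :=
      ((Group.isNilpotent_of_finite_tfae (G := G ⧸ V)).out 0 3).mp hQnil
    have h1 : ((S.mapSurjective hsurj : Sylow r (G ⧸ V)) : Subgroup (G ⧸ V)).Normal :=
      hallQ r hr _
    have h2 := h1.comap (QuotientGroup.mk' V)
    rwa [Sylow.coe_mapSurjective, comap_map_eq, QuotientGroup.ker_mk'] at h2
  by_cases hrq : r = q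
  · subst hrq
    have hle : V ≤ R := hVP.trans (pCore_le_sylow R)
    have := hnormal R
    rwa [sup_eq_left.mpr hle] at this
  obtain ⟨S, hS⟩ := exists_invariant_sylow_of_fpf hfpf r
  obtain ⟨j, hj⟩ := S.2.exists_card_eq
  have hcop : (Nat.card (S : Subgroup G)).Coprime (Nat.card V) := by
    rw [hj, hk]; exact Nat.Coprime.pow j k ((Nat.coprime_primes hr.out hq).mpr hrq)
  have hSV : (S : Subgroup G) ≤ centralizer (V : Set G) :=
    le_centralizer_of_fpf hp hord hfpf hS hVinv le_normalizer_of_normal hcop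
  suffices hSn : (S : Subgroup G).Normal by
    have := Sylow.characteristic_of_normal S hSn
    obtain ⟨g, hg⟩ := MulAction.exists_smul_eq G S R
    rw [← hg]
    change (MulAut.conj g • (S : Subgroup G)).Normal
    rwa [Normal.conj_smul_eq_self]
  set L := (S : Subgroup G) ⊔ V with hL
  have hLn : L.Normal := hnormal S
  have hSL : ((S : Subgroup G).subgroupOf L).Normal :=
    normal_subgroupOf_of_le_normalizer (sup_le le_normalizer (le_normalizer_iff.mpr
      fun x hx y hy => by
        have h1 : x * y = y * x := hSV hy x hx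
        rwa [h1, mul_inv_cancel_right]))
  let S' : Sylow r L := S.subtype le_sup_left
  have hS'n : (S' : Subgroup L).Normal := hSL
  have : (S' : Subgroup L).Characteristic := Sylow.characteristic_of_normal S' hS'n
  have := CfsgLib.Solvable.normal_map_subtype_of_characteristic L (S' : Subgroup L)
  change (((S : Subgroup G).subgroupOf L).map L.subtype).Normal at this
  rwa [map_subgroupOf_eq_of_le le_sup_left] at this

/-- Reduction of Thompson's theorem to an odd normal p-complement criterion through the normaliser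
of `Z(J(P))`. -/
theorem isNilpotent_of_fpf_of_criterion {p : ℕ} (hp : p.Prime)
    (hcrit : ∀ (G : Type u) [Group G] [Finite G] (q : ℕ) [Fact q.Prime], q ≠ 2 →
      ∀ P : Sylow q G,
      Cfsg.HasNormalPComplement q
        (normalizer (Cfsg.centerThompsonOf q (P : Subgroup G) : Set G)) →
      Cfsg.HasNormalPComplement q G) :
    ∀ (n : ℕ) (G : Type u) [Group G] [Finite G] (φ : MulAut G),
      Nat.card G = n → φ ^ p = 1 → (∀ g : G, φ g = g → g = 1) → Group.IsNilpotent G := by
  intro n
  induction n using Nat.strong_induction_on with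
  | _ n ih =>
  intro G _ _ φ hn hord hfpf
  suffices hsol : Group.IsSolvable G from isNilpotent_of_fpf_solvable hp n G φ hn hord hfpf
  by_cases hodd : ∃ q, q.Prime ∧ q ≠ 2 ∧ q ∣ Nat.card G
  swap
  · push Not at hodd
    have : Fact (Nat.Prime 2) := ⟨Nat.prime_two⟩
    have h2 : IsPGroup 2 G := by
      refine IsPGroup.of_card (n := (Nat.card G).factorization 2) ?_
      refine Nat.eq_of_factorization_eq Nat.card_pos.ne' (pow_ne_zero _ two_ne_zero) fun r => ?_
      rw [Nat.prime_two.factorization_pow]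
      by_cases hr : r = 2
      · subst hr; simp
      · rw [Finsupp.single_eq_of_ne hr]
        by_cases hrp : r.Prime
        · exact Nat.factorization_eq_zero_of_not_dvd (hodd r hrp hr)
        · exact Nat.factorization_eq_zero_of_not_prime _ hrp
    have := h2.isNilpotent
    infer_instance
  obtain ⟨q, hq, hq2, hqG⟩ := hodd
  have : Fact q.Prime := ⟨hq⟩
  obtain ⟨P, hP⟩ := exists_invariant_sylow_of_fpf hfpf q
  set X := Cfsg.centerThompsonOf q (P : Subgroup G) with hX
  have hXP : X ≤ P := inf_le_left.trans (map_subtype_le _)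
  have hXp : IsPGroup q X := P.2.to_le hXP
  have hmapP : (P : Subgroup G).map φ.toMonoidHom = P :=
    eq_of_le_of_card_ge (map_le_iff_le_comap.mpr hP)
      (Subgroup.card_map_of_injective (f := φ.toMonoidHom) φ.injective).ge
  have hXinv : ∀ x ∈ X, φ x ∈ X := by
    intro x hx
    obtain ⟨h1, h2⟩ := mem_inf.mp hx
    have hJ := CfsgLib.PLocal.thompsonSubgroupOf_map (p := q) (f := φ.toMonoidHom) φ.injective
      (P : Subgroup G)
    rw [hmapP] at hJ
    refine mem_inf.mpr ⟨hJ ▸ mem_map_of_mem φ.toMonoidHom h1, fun y hy => ?_⟩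
    rw [SetLike.mem_coe, ← hJ] at hy
    obtain ⟨z, hz, rfl⟩ := mem_map.mp hy
    exact (map_mul φ z x).symm.trans ((congr_arg φ (h2 z hz)).trans (map_mul φ x z))
  have hX1 : X ≠ ⊥ := by
    intro h
    have hPne : q ∣ Nat.card (P : Subgroup G) := P.dvd_card_of_dvd_card hqG
    have hJne := CfsgLib.PLocal.thompsonSubgroup_ne_bot (G := (P : Subgroup G)) (p := q) hPne
    have : Nontrivial (Cfsg.thompsonSubgroup q (P : Subgroup G)) :=
      (nontrivial_iff_ne_bot _).mpr hJne
    have hc := (P.2.to_subgroup (Cfsg.thompsonSubgroup q (P : Subgroup G))).bot_lt_center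
    obtain ⟨z, hz, hz1⟩ := (bot_or_exists_ne_one _).resolve_left hc.ne'
    have hzX : ((z : (P : Subgroup G)) : G) ∈ X := by
      refine mem_inf.mpr ⟨mem_map_of_mem _ z.2, ?_⟩
      rintro _ ⟨y, hy, rfl⟩
      exact congr_arg (fun t : Cfsg.thompsonSubgroup q (P : Subgroup G) =>
        ((t : (P : Subgroup G)) : G)) (mem_center_iff.mp hz ⟨y, hy⟩)
    rw [h, mem_bot] at hzX
    exact hz1 (Subtype.ext (Subtype.ext hzX))
  set H := normalizer (X : Set G) with hH
  have hmapX : X.map φ.toMonoidHom = X :=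
    eq_of_le_of_card_ge (map_le_iff_le_comap.mpr hXinv)
      (Subgroup.card_map_of_injective (f := φ.toMonoidHom) φ.injective).ge
  have hHinv : ∀ x ∈ H, φ x ∈ H := by
    intro x hx
    rw [hH, ← conj_smul_eq_self_iff] at hx ⊢
    calc MulAut.conj (φ x) • X = MulAut.conj (φ x) • X.map φ.toMonoidHom := by rw [hmapX]
      _ = (MulAut.conj x • X).map φ.toMonoidHom := (map_conj_smul φ.toMonoidHom x X).symm
      _ = X := by rw [hx, hmapX]
  by_cases hHtop : H = ⊤
  · -- `X` is normal
    have : X.Normal := normalizer_eq_top_iff.mp hHtop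
    obtain ⟨ψ, hψ, hψf⟩ := exists_quotient hord hfpf X hXinv
    have hlt : Nat.card (G ⧸ X) < n := by
      rw [← hn, ← index_eq_card, ← card_mul_index X]
      exact lt_mul_of_one_lt_left (Nat.pos_of_ne_zero index_ne_zero_of_finite)
        (X.one_lt_card_iff_ne_bot.mpr hX1)
    have := ih _ hlt (G ⧸ X) ψ rfl hψ hψf
    have := hXp.isNilpotent
    exact (Group.isSolvable_iff_subgroup_quotient X).mpr ⟨inferInstance, inferInstance⟩
  -- the normaliser is proper, hence nilpotent
  obtain ⟨θ, hθ⟩ := exists_restrict φ H hHinv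
  have hHlt : Nat.card H < n := by
    rw [← hn]
    refine lt_of_le_of_ne (Nat.le_of_dvd Nat.card_pos (card_subgroup_dvd_card H)) fun h => hHtop ?_
    exact eq_top_of_card_eq H h
  have hHnil : Group.IsNilpotent H := ih _ hHlt H θ rfl
    (MulEquiv.ext fun x => Subtype.ext (by rw [restrict_pow hθ, hord]; rfl))
    fun x hx => Subtype.ext (hfpf _ (by rw [← hθ, hx]))
  have hcompH : Cfsg.HasNormalPComplement q H := by
    obtain ⟨Q⟩ : Nonempty (Sylow q H) := inferInstance
    have hall := ((Group.isNilpotent_of_finite_tfae (G := H)).out 0 3).mp hHnil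
    have hQn : (Q : Subgroup H).Normal := hall q inferInstance Q
    have hK : ∀ r : ℕ, r.Prime → r ≠ q → ∀ S : Sylow r H,
        (S : Subgroup H) ≤ Cfsg.pPrimeCore q H := by
      intro r hr hrq S
      have : Fact r.Prime := ⟨hr⟩
      obtain ⟨e, he⟩ := S.2.exists_card_eq
      exact le_pPrimeCore (hall r inferInstance S)
        (by rw [he]; exact Nat.Coprime.pow_left e ((Nat.coprime_primes hr hq).mpr hrq))
    have hco : (Nat.card (Cfsg.pPrimeCore q H)).Coprime (Nat.card (Q : Subgroup H)) := by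
      obtain ⟨e, he⟩ := Q.2.exists_card_eq
      rw [he]
      exact Nat.Coprime.pow_right e (pPrimeCore_card_coprime q H)
    refine ⟨Q, Cfsg.pPrimeCore q H, pPrimeCore_normal q H, isComplement'_of_coprime
      (Nat.dvd_antisymm (hco.mul_dvd_of_dvd_of_dvd (card_subgroup_dvd_card _)
        (card_subgroup_dvd_card _)) ?_) hco⟩
    rw [← Nat.factorization_prime_le_iff_dvd Nat.card_pos.ne'
      (Nat.mul_ne_zero Nat.card_pos.ne' Nat.card_pos.ne')]
    intro r hr
    have : Fact r.Prime := ⟨hr⟩
    refine (hr.pow_dvd_iff_le_factorization (Nat.mul_ne_zero Nat.card_pos.ne' Nat.card_pos.ne')).mp ?_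
    by_cases hrq : r = q
    · subst hrq
      rw [← Q.card_eq_multiplicity]
      exact Dvd.intro_left _ rfl
    · obtain ⟨S⟩ : Nonempty (Sylow r H) := inferInstance
      rw [← S.card_eq_multiplicity]
      exact (card_dvd_of_le (hK r hr hrq S)).trans (Dvd.intro _ rfl)
  obtain ⟨Q, N, hNn, hN⟩ := hcrit G q hq2 P hcompH
  have hKc := pPrimeCore_characteristic q G
  set K := Cfsg.pPrimeCore q G with hK
  have hNK : N ≤ K := le_pPrimeCore hNn (by
    have h1 : (Nat.card N).Coprime (Nat.card (Q : Subgroup G)) := by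
      rw [← hN.index_eq_card]
      exact Q.card_coprime_index.symm
    have h2 : q ∣ Nat.card (Q : Subgroup G) := Q.dvd_card_of_dvd_card hqG
    exact h1.coprime_dvd_right h2)
  have hKtop : K ≠ ⊤ := fun h => by
    have := pPrimeCore_card_coprime q G
    rw [← hK, h, card_top] at this
    exact hq.ne_one (Nat.eq_one_of_dvd_coprimes this hqG dvd_rfl)
  obtain ⟨η, hη⟩ := exists_restrict φ K (fun x hx => apply_mem_of_characteristic φ K hx)
  have hKlt : Nat.card K < n := by
    rw [← hn]
    refine lt_of_le_of_ne (Nat.le_of_dvd Nat.card_pos (card_subgroup_dvd_card K)) fun h => hKtop ?_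
    exact eq_top_of_card_eq K h
  have hKnil : Group.IsNilpotent K := ih _ hKlt K η rfl
    (MulEquiv.ext fun x => Subtype.ext (by rw [restrict_pow hη, hord]; rfl))
    fun x hx => Subtype.ext (hfpf _ (by rw [← hη, hx]))
  have hquot : IsPGroup q (G ⧸ K) := by
    obtain ⟨e, he⟩ := Q.2.exists_card_eq
    have h1 : K.index ∣ q ^ e := by
      rw [← he, ← hN.symm.index_eq_card]
      exact index_dvd_of_le hNK
    obtain ⟨j, -, hj⟩ := (Nat.dvd_prime_pow hq).mp h1
    exact IsPGroup.of_card ((index_eq_card (H := K)).symm.trans hj)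
  have := hquot.isNilpotent
  exact (Group.isSolvable_iff_subgroup_quotient K).mpr ⟨inferInstance, inferInstance⟩

end CfsgLib.Solvable
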