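import Mathlib.GroupTheory.SchurZassenhaus
import Cfsg.Agent.Lib.Solvable.Basic

/-!
Conjugacy of complements (Schur–Zassenhaus), in global and in ambient-subgroup form.
-/

set_option autoImplicit false
open scoped Pointwise
open Subgroup MulAction

namespace CfsgLib.Solvable

universe u

theorem complement_conj_abelian {G : Type*} [Group G] [Finite G] (A : Subgroup G) [A.Normal]
    [IsMulCommutative A] (hA : (Nat.card A).Coprime A.index) (H K : Subgroup G)
    (hH : IsComplement' A H) (hK : IsComplement' A K) :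
    ∃ a ∈ A, MulAut.conj a • H = K := by
  set mk : A.LeftTransversal → A.QuotientDiff := Quotient.mk'' with hmk
  have key : ∀ (L : Subgroup G) (hL : IsComplement' A L),
      stabilizer G (mk ⟨(L : Set G), hL.symm⟩) = L := by
    intro L hL
    symm
    refine eq_of_le_of_card_ge (fun g hg => ?_) ?_
    · rw [mem_stabilizer_iff]
      refine congr_arg Quotient.mk'' (Subtype.ext ?_)
      change MulOpposite.op g⁻¹ • (L : Set G) = L
      exact rightCoset_mem_rightCoset L (inv_mem hg)
    · have h1 := (isComplement'_stabilizer_of_coprime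
        (α := mk ⟨(L : Set G), hL.symm⟩) hA).card_mul_card
      rw [← hL.card_mul_card] at h1
      exact (Nat.eq_of_mul_eq_mul_left Nat.card_pos h1).le
  obtain ⟨a, ha⟩ := exists_smul_eq hA (mk ⟨(H : Set G), hH.symm⟩) (mk ⟨(K : Set G), hK.symm⟩)
  refine ⟨a, a.2, ?_⟩
  have h2 := stabilizer_smul_eq_stabilizer_map_conj (a : G) (mk ⟨(H : Set G), hH.symm⟩)
  rw [← Subgroup.smul_def, ha, key H hH, key K hK] at h2
  exact h2.symm

/-- Transfer a global complement statement to subgroups of an ambient group. -/
theorem exists_conj_of_complement_conj {G : Type u} [Group G] [Finite G] (N B B' : Subgroup G)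
    (hB : B ≤ normalizer (N : Set G)) (hB' : B' ≤ N ⊔ B) (hcard : Nat.card B' = Nat.card B)
    (hcop : (Nat.card N).Coprime (Nat.card B))
    (key : ∀ (L : Type u) [Group L] [Finite L] (N' : Subgroup L) [N'.Normal] (H K : Subgroup L),
      Nat.Coprime (Nat.card N') N'.index → IsComplement' N' H → IsComplement' N' K →
      Nat.card N' = Nat.card N → Nonempty (N' ≃* N) → Nonempty (H ≃* B) → Nonempty (K ≃* B') →
      ∃ a ∈ N', MulAut.conj a • H = K) :
    ∃ n ∈ N, MulAut.conj n • B = B' := by
  have hn : (N.subgroupOf (N ⊔ B)).Normal :=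
    normal_subgroupOf_of_le_normalizer (sup_le le_normalizer hB)
  have eN := subgroupOfEquivOfLe (le_sup_left : N ≤ N ⊔ B)
  have eB := subgroupOfEquivOfLe (le_sup_right : B ≤ N ⊔ B)
  have eB' := subgroupOfEquivOfLe hB'
  have cN := Nat.card_congr eN.toEquiv
  have cB := Nat.card_congr eB.toEquiv
  have cB' := Nat.card_congr eB'.toEquiv
  have cL := card_sup_of_disjoint hB (disjoint_of_coprime_natCard hcop)
  have h1 : IsComplement' (N.subgroupOf (N ⊔ B)) (B.subgroupOf (N ⊔ B)) :=
    isComplement'_of_coprime (by rw [cN, cB, cL]) (by rw [cN, cB]; exact hcop)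
  have h2 : IsComplement' (N.subgroupOf (N ⊔ B)) (B'.subgroupOf (N ⊔ B)) :=
    isComplement'_of_coprime (by rw [cN, cB', cL, hcard]) (by rw [cN, cB', hcard]; exact hcop)
  obtain ⟨a, ha, hab⟩ := key _ _ _ _
    (by rw [h1.symm.index_eq_card, cN, cB]; exact hcop) h1 h2 cN ⟨eN⟩ ⟨eB⟩ ⟨eB'⟩
  refine ⟨a, ha, ?_⟩
  have h3 := congr_arg (Subgroup.map (N ⊔ B).subtype) hab
  rw [map_conj_smul, map_subgroupOf_eq_of_le le_sup_right, map_subgroupOf_eq_of_le hB'] at h3
  exact h3

theorem complement_conj_solvable_kernel : ∀ (n : ℕ) (G : Type u) [Group G] [Finite G]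
    (N : Subgroup G) [N.Normal] [Group.IsSolvable N] (H K : Subgroup G), Nat.card N = n →
    (Nat.card N).Coprime N.index → IsComplement' N H → IsComplement' N K →
    ∃ a ∈ N, MulAut.conj a • H = K := by
  intro n
  induction n using Nat.strong_induction_on with
  | _ n ih =>
  intro G _ _ N _ _ H K hn hcop hH hK
  have cH : Nat.card H = N.index := hH.symm.index_eq_card.symm
  have cK : Nat.card K = N.index := hK.symm.index_eq_card.symm
  by_cases hNbot : N = ⊥
  · subst hNbot
    rw [isComplement'_bot_left] at hH hK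
    exact ⟨1, one_mem _, by simp [hH, hK]⟩
  have hlt : ⁅N, N⁆ < N := by
    have : Nontrivial N := (nontrivial_iff_ne_bot N).mpr hNbot
    have h0 := map_subtype_lt_map_subtype.mpr (Group.IsSolvable.commutator_lt_top_of_nontrivial N)
    rwa [map_subtype_commutator, ← MonoidHom.range_eq_map, range_subtype] at h0
  have hsurj := QuotientGroup.mk'_surjective ⁅N, N⁆
  set f := QuotientGroup.mk' ⁅N, N⁆ with hf
  have hker : f.ker = ⁅N, N⁆ := QuotientGroup.ker_mk' _
  have : (N.map f).Normal := Normal.map inferInstance _ hsurj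
  have : IsMulCommutative (N.map f) := by
    rw [← le_centralizer_iff_isMulCommutative, ← commutator_eq_bot_iff_le_centralizer,
      ← map_commutator, Subgroup.map_eq_bot_iff, hker]
  have hidx : (N.map f).index = N.index := index_map_eq N hsurj (hker.le.trans hlt.le)
  have hcop' : (Nat.card (N.map f)).Coprime (N.map f).index := by
    rw [hidx]
    exact hcop.coprime_dvd_left (card_map_dvd _ f)
  have hcomp : ∀ L : Subgroup G, IsComplement' N L → IsComplement' (N.map f) (L.map f) := by
    intro L hL
    refine isComplement'_of_sup_eq_top (by rw [← Subgroup.map_sup, hL.sup_eq_top,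
      map_top_of_surjective f hsurj]) (disjoint_of_coprime_natCard ?_)
    rw [hidx] at hcop'
    rw [hL.symm.index_eq_card] at hcop'
    exact hcop'.coprime_dvd_right (card_map_dvd _ f)
  obtain ⟨b, hb, hab⟩ := complement_conj_abelian (N.map f) hcop' (H.map f) (K.map f)
    (hcomp H hH) (hcomp K hK)
  obtain ⟨a, ha, rfl⟩ := mem_map.mp hb
  rw [← map_conj_smul] at hab
  have hle : MulAut.conj a • H ≤ ⁅N, N⁆ ⊔ K := by
    have h := le_comap_map f (MulAut.conj a • H)
    rw [hab, comap_map_eq, hker, sup_comm] at h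
    exact h
  have hsmall : Nat.card (⁅N, N⁆ : Subgroup G) < Nat.card N := by
    refine lt_of_le_of_ne (card_le_of_le hlt.le) fun h => hlt.ne ?_
    exact eq_of_le_of_card_ge hlt.le h.ge
  have hsolv : Group.IsSolvable (⁅N, N⁆ : Subgroup G) :=
    Group.isSolvable_of_isSolvable_injective (inclusion_injective hlt.le)
  obtain ⟨c, hc, hca⟩ := exists_conj_of_complement_conj ⁅N, N⁆ K (MulAut.conj a • H)
    le_normalizer_of_normal hle
    (by rw [card_conj_smul, cH, cK]) (by rw [cK]; exact hcop.coprime_dvd_left (card_dvd_of_le hlt.le))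
    (fun L _ _ N' _ H' K' h1 h2 h3 h4 h5 _ _ => by
      obtain ⟨e⟩ := h5
      have : Group.IsSolvable N' :=
        Group.isSolvable_of_isSolvable_injective (f := e.toMonoidHom) e.injective
      exact ih _ (hn ▸ hsmall) L N' H' K' h4 h1 h2 h3)
  refine ⟨c⁻¹ * a, mul_mem (inv_mem (hlt.le hc)) ha, ?_⟩
  rw [← conj_smul_conj_smul, ← hca, conj_smul_conj_smul, inv_mul_cancel, map_one, one_smul]

theorem exists_conj_of_solvable_complement : ∀ (n : ℕ) (G : Type u) [Group G] [Finite G]
    (N H K : Subgroup G), Nat.card H = n → H ≤ normalizer (N : Set G) → K ≤ N ⊔ H →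
    Nat.card K = Nat.card H → (Nat.card N).Coprime (Nat.card H) → Group.IsSolvable H →
    ∃ a ∈ N, MulAut.conj a • H = K := by
  intro n
  induction n using Nat.strong_induction_on with
  | _ n ih =>
  intro G _ _ N H K hn hH hK hcard hcop hsol
  by_cases hHbot : H = ⊥
  · subst hHbot
    refine ⟨1, one_mem _, ?_⟩
    rw [card_eq_one.mp (hcard.trans card_bot)]
    simp
  have : Nontrivial H := (nontrivial_iff_ne_bot H).mpr hHbot
  obtain ⟨M₀, hM₀, -, hp⟩ := exists_normal_prime_index (G := H)
  generalize hp_def : M₀.index = p at hp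
  have : Fact p.Prime := ⟨hp⟩
  set M := M₀.map H.subtype with hMdef
  have hMH : M ≤ H := map_subtype_le M₀
  have cM : Nat.card H = Nat.card M * p := by
    rw [hMdef, card_subtype, ← hp_def, card_mul_index]
  have hMlt : Nat.card M < Nat.card H := by
    rw [cM]; exact lt_mul_of_one_lt_right Nat.card_pos hp.one_lt
  have hHM : H ≤ normalizer (M : Set G) := by
    have := le_normalizer_map H.subtype (H := M₀)
    rwa [normalizer_eq_top, ← MonoidHom.range_eq_map, range_subtype] at this
  have hKN : K ≤ normalizer (N : Set G) := hK.trans (sup_le le_normalizer hH)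
  have hdK : Disjoint N K := disjoint_of_coprime_natCard (by rw [hcard]; exact hcop)
  have hsupK : N ⊔ K = N ⊔ H := by
    refine eq_of_le_of_card_ge (sup_le le_sup_left hK) ?_
    rw [card_sup_of_disjoint hKN hdK, card_sup_of_disjoint hH (disjoint_of_coprime_natCard hcop),
      hcard]
  have hKX : K ≤ normalizer ((N ⊔ M : Subgroup G) : Set G) := by
    refine hK.trans (sup_le (le_sup_left.trans le_normalizer) ?_)
    exact fun x hx => normalizer_inf_normalizer_le_normalizer_sup N M ⟨hH hx, hHM hx⟩
  have hK₁ : N ⊔ (K ⊓ (N ⊔ M)) = N ⊔ M :=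
    sup_inf_eq_of_le hKN le_sup_left (hsupK ▸ sup_le_sup_left hMH N)
  have hcopM : (Nat.card N).Coprime (Nat.card M) := hcop.coprime_dvd_right (card_dvd_of_le hMH)
  have cK₁ : Nat.card (K ⊓ (N ⊔ M) : Subgroup G) = Nat.card M := by
    have h := congr_arg (fun S : Subgroup G => Nat.card ↥S) hK₁
    rw [card_sup_of_disjoint (inf_le_left.trans hKN) (hdK.mono_right inf_le_left),
      card_sup_of_disjoint (hMH.trans hH) (disjoint_of_coprime_natCard hcopM)] at h
    exact Nat.eq_of_mul_eq_mul_left Nat.card_pos h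
  have hsolM : Group.IsSolvable M :=
    Group.isSolvable_of_isSolvable_injective (inclusion_injective hMH)
  obtain ⟨a, ha, hA⟩ := ih _ (hn ▸ hMlt) G N M (K ⊓ (N ⊔ M)) rfl (hMH.trans hH) inf_le_right
    cK₁ hcopM hsolM
  have haN : a ∈ normalizer (N : Set G) := le_normalizer ha
  set H' := MulAut.conj a • H with hH'def
  set L := MulAut.conj a • M with hLdef
  have hLH' : L ≤ H' := pointwise_smul_le_pointwise_smul_iff.mpr hMH
  have hLK : L ≤ K := hA ▸ inf_le_left
  have hH'L : H' ≤ normalizer (L : Set G) := by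
    rw [le_normalizer_iff]
    intro h hh l hl
    rw [hH'def, mem_conj_smul] at hh
    rw [hLdef, mem_conj_smul] at hl ⊢
    have := (le_normalizer_iff.mp hHM) _ hh _ hl
    simpa [mul_assoc] using this
  have hKL : K ≤ normalizer (L : Set G) := by
    rw [hA]
    exact fun x hx => inf_normalizer_le_normalizer_inf ⟨le_normalizer hx, hKX hx⟩
  have cH' : Nat.card H' = Nat.card H := card_conj_smul _ _
  have cL : Nat.card L = Nat.card M := card_conj_smul _ _
  have hH'sup : H' ≤ N ⊔ H := conj_smul_le_of_mem_normalizer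
    (le_normalizer (mem_sup_left ha)) le_sup_right
  set T := H' ⊔ K with hTdef
  have hTle : T ≤ N ⊔ H := sup_le hH'sup hK
  have hTL : T ≤ normalizer (L : Set G) := sup_le hH'L hKL
  have cT : Nat.card T ∣ Nat.card N * Nat.card H := by
    rw [← card_sup_of_disjoint hH (disjoint_of_coprime_natCard hcop)]
    exact card_dvd_of_le hTle
  have hpH : p ∣ Nat.card H := cM ▸ Dvd.intro_left _ rfl
  have hpN : ¬ p ∣ Nat.card N := fun h =>
    hp.ne_one (Nat.eq_one_of_dvd_coprimes hcop h hpH)
  -- a Sylow subgroup of a member of full order is Sylow in T and generates it together with L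
  have step : ∀ S : Subgroup G, S ≤ T → L ≤ S → Nat.card S = Nat.card H →
      ∃ P : Sylow p T, L ⊔ (P : Subgroup T).map T.subtype = S := by
    intro S hST hLS cS
    obtain ⟨P⟩ : Nonempty (Sylow p S) := inferInstance
    set P₁ := (P : Subgroup S).map S.subtype with hP₁
    have hP₁S : P₁ ≤ S := map_subtype_le _
    have cP₁ : Nat.card P₁ = p ^ (Nat.card H).factorization p := by
      rw [hP₁, card_subtype, P.card_eq_multiplicity, cS]
    have hfac : (Nat.card T).factorization p = (Nat.card H).factorization p := by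
      refine le_antisymm ?_ ?_
      · have := (Nat.factorization_le_iff_dvd Nat.card_pos.ne'
          (Nat.mul_ne_zero Nat.card_pos.ne' Nat.card_pos.ne')).mpr cT p
        rwa [Nat.factorization_mul Nat.card_pos.ne' Nat.card_pos.ne', Finsupp.add_apply,
          Nat.factorization_eq_zero_of_not_dvd hpN, zero_add] at this
      · exact (Nat.factorization_le_iff_dvd Nat.card_pos.ne' Nat.card_pos.ne').mpr
          (cS ▸ card_dvd_of_le hST) p
    have hP₁T : P₁ ≤ T := hP₁S.trans hST
    refine ⟨Sylow.ofCard (P₁.subgroupOf T) ?_, ?_⟩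
    · rw [Nat.card_congr (subgroupOfEquivOfLe hP₁T).toEquiv, cP₁, hfac]
    · rw [Sylow.coe_ofCard, map_subgroupOf_eq_of_le hP₁T]
      refine eq_of_le_of_card_ge (sup_le hLS hP₁S) ?_
      obtain ⟨c, hc⟩ : Nat.card L ∣ Nat.card (L ⊔ P₁ : Subgroup G) := card_dvd_of_le le_sup_left
      have hcp : Nat.card (L ⊔ P₁ : Subgroup G) ∣ Nat.card H :=
        cS ▸ card_dvd_of_le (sup_le hLS hP₁S)
      rw [cS, cM, hc, cL]
      refine Nat.mul_le_mul_left _ ?_
      rw [hc, cM, cL] at hcp
      rcases (Nat.dvd_prime hp).mp ((Nat.mul_dvd_mul_iff_left Nat.card_pos).mp hcp) with h | h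
      · exfalso
        have h1 : Nat.card P₁ ∣ Nat.card L := by
          rw [h, mul_one] at hc
          rw [← hc]
          exact card_dvd_of_le le_sup_right
        rw [cP₁, cL] at h1
        have h2 := (hp.pow_dvd_iff_le_factorization Nat.card_pos.ne').mp h1
        rw [cM, Nat.factorization_mul Nat.card_pos.ne' hp.ne_zero, Finsupp.add_apply,
          hp.factorization_self] at h2
        omega
      · exact h.ge
  obtain ⟨P, hP⟩ := step H' le_sup_left hLH' cH'
  obtain ⟨Q, hQ⟩ := step K le_sup_right hLK hcard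
  obtain ⟨t, ht⟩ := exists_smul_eq T P Q
  have hconj : MulAut.conj (t : G) • H' = K := by
    have h := congr_arg (fun R : Sylow p T => (R : Subgroup T).map T.subtype) ht
    change (MulAut.conj t • (P : Subgroup T)).map T.subtype = _ at h
    rw [map_conj_smul] at h
    rw [← hP, ← hQ, Subgroup.smul_sup, conj_smul_eq_self_iff.mpr (hTL t.2)]
    exact congr_arg (L ⊔ ·) h
  have hta : (t : G) * a ∈ N ⊔ H := mul_mem (hTle t.2) (mem_sup_left ha)
  obtain ⟨m, hm, h, hh, hmh⟩ := (mem_sup_of_le_normalizer hH).mp hta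
  refine ⟨m, hm, ?_⟩
  rw [hH'def, conj_smul_conj_smul, ← hmh, ← conj_smul_conj_smul,
    conj_smul_eq_self_of_mem hh] at hconj
  exact hconj

/-- **Schur–Zassenhaus**, conjugacy, in an ambient group: if `B` normalises `N`, the orders are
coprime and `N` or `B` is solvable, then every subgroup of `N ⊔ B` of the order of `B` is
conjugate to `B` by an element of `N`. -/
theorem exists_conj_eq_of_coprime {G : Type*} [Group G] [Finite G] {N B B' : Subgroup G}
    (hB : B ≤ normalizer (N : Set G)) (hB' : B' ≤ N ⊔ B) (hcard : Nat.card B' = Nat.card B)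
    (hcop : (Nat.card N).Coprime (Nat.card B))
    (hsolv : Group.IsSolvable N ∨ Group.IsSolvable B) :
    ∃ n ∈ N, MulAut.conj n • B = B' := by
  rcases hsolv with h | h
  · refine exists_conj_of_complement_conj N B B' hB hB' hcard hcop ?_
    intro L _ _ N' _ H K hc hH hK _ he _ _
    obtain ⟨e⟩ := he
    have : Group.IsSolvable N' :=
      Group.isSolvable_of_isSolvable_injective (f := e.toMonoidHom) e.injective
    exact complement_conj_solvable_kernel _ L N' H K rfl hc hH hK
  · exact exists_conj_of_solvable_complement _ G N B B' rfl hB hB' hcard hcop h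

/-- Every subgroup of `N ⊔ B` of order prime to that of `N` is conjugate into `B`. -/
theorem exists_conj_le_of_coprime {G : Type*} [Group G] [Finite G] {N B B' : Subgroup G}
    (hB : B ≤ normalizer (N : Set G)) (hB' : B' ≤ N ⊔ B)
    (hcop : (Nat.card N).Coprime (Nat.card B)) (hcop' : (Nat.card N).Coprime (Nat.card B'))
    (hsolv : Group.IsSolvable N ∨ Group.IsSolvable B) :
    ∃ n ∈ N, MulAut.conj n • B' ≤ B := by
  have hB'N : B' ≤ normalizer (N : Set G) := hB'.trans (sup_le le_normalizer hB)
  have hsup : N ⊔ (B ⊓ (N ⊔ B')) = N ⊔ B' :=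
    sup_inf_eq_of_le hB le_sup_left (sup_le le_sup_left hB')
  have hcard : Nat.card (B ⊓ (N ⊔ B') : Subgroup G) = Nat.card B' := by
    have h := congr_arg (fun S : Subgroup G => Nat.card ↥S) hsup
    rw [card_sup_of_disjoint (inf_le_left.trans hB)
        ((disjoint_of_coprime_natCard hcop).mono_right inf_le_left),
      card_sup_of_disjoint hB'N (disjoint_of_coprime_natCard hcop')] at h
    exact Nat.eq_of_mul_eq_mul_left Nat.card_pos h
  have hsolv' : Group.IsSolvable N ∨ Group.IsSolvable (B ⊓ (N ⊔ B') : Subgroup G) := by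
    rcases hsolv with h | h
    · exact Or.inl h
    · exact Or.inr (Group.isSolvable_of_isSolvable_injective
        (inclusion_injective (inf_le_left (a := B) (b := N ⊔ B'))))
  obtain ⟨n, hn, h⟩ := exists_conj_eq_of_coprime (inf_le_left.trans hB) (hsup.ge.trans' le_sup_right)
    hcard.symm (hcard ▸ hcop') hsolv'
  refine ⟨n⁻¹, inv_mem hn, ?_⟩
  rw [← h, conj_smul_conj_smul, inv_mul_cancel, map_one, one_smul]
  exact inf_le_left

theorem complement_conj {G : Type*} [Group G] [Finite G] (N : Subgroup G) [N.Normal]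
    (hN : (Nat.card N).Coprime N.index)
    (hsolv : Group.IsSolvable N ∨ Group.IsSolvable (G ⧸ N))
    (H K : Subgroup G) (hH : IsComplement' N H) (hK : IsComplement' N K) :
    ∃ a ∈ N, MulAut.conj a • H = K := by
  refine exists_conj_eq_of_coprime le_normalizer_of_normal (by rw [hH.sup_eq_top]; exact le_top)
    (by rw [← hH.symm.index_eq_card, ← hK.symm.index_eq_card])
    (by rw [← hH.symm.index_eq_card]; exact hN) (hsolv.imp id fun h => ?_)
  have := h
  exact Group.isSolvable_of_surjective (f := (hH.symm.QuotientMulEquiv).toMonoidHom)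
    (hH.symm.QuotientMulEquiv).surjective

end CfsgLib.Solvable
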