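import Mathlib
import Cfsg.Agent.Lib.Solvable.PrimeActionCount
import Cfsg.Agent.Lib.HallHigman.TheoremB

/-!
An element of prime order without fixed vectors centralises the image of every odd `q`-group it
normalises, in a representation of characteristic prime to both primes.
-/

set_option autoImplicit false
set_option linter.style.haveILetI false

namespace CfsgLib.Solvable.PrimeAction

open CfsgLib.HallHigman
open scoped commutatorElement

universe u v w

variable {K : Type w} [Field K] {W : Type v} [AddCommGroup W] [Module K W] {G : Type u} [Group G]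
  [Finite G]

/-- An endomorphism diagonalisable with at most `m` eigenvalues has a commutant of dimension at
least `dim ^ 2 / m`. -/
theorem commutant_bound_of_semisimple [IsAlgClosed K] [FiniteDimensional K W] (T : Module.End K W)
    (hT : T.IsSemisimple) (E : Finset K) (hE : ∀ μ, T.HasEigenvalue μ → μ ∈ E) :
    Module.finrank K W ^ 2 ≤ E.card * Module.finrank K (commutant T) := by
  classical
  let A : E → Submodule K W := fun μ => T.eigenspace μ
  have hsup : iSup A = ⊤ := by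
    rw [eq_top_iff, ← T.iSup_maxGenEigenspace_eq_top]
    refine iSup_le fun μ => ?_
    rw [hT.isFinitelySemisimple.maxGenEigenspace_eq_eigenspace]
    by_cases h : T.eigenspace μ = ⊥
    · rw [h]; exact bot_le
    · exact le_iSup A (⟨μ, hE μ (Module.End.hasEigenvalue_iff.2 h)⟩ : E)
  have hind : iSupIndep A := T.eigenspaces_iSupIndep.comp Subtype.val_injective
  have hint : DirectSum.IsInternal A :=
    (DirectSum.isInternal_submodule_iff_iSupIndep_and_iSup_eq_top A).2 ⟨hind, hsup⟩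
  let b := hint.collectedBasis fun μ => Module.finBasis K (A μ)
  let ι := Σ μ : E, Fin (Module.finrank K (A μ))
  have hb : ∀ i : ι, T (b i) = ((i.1 : E) : K) • b i := fun i =>
    Module.End.mem_eigenspace_iff.1 (hint.collectedBasis_mem _ i)
  let S := {ab : ι × ι // ab.1.1 = ab.2.1}
  let f : S → Module.End K W := fun ab => Matrix.toLin b b (Matrix.single ab.1.1 ab.1.2 (1 : K))
  have hf : ∀ ab : S, f ab ∈ commutant T := by
    intro ab
    rw [mem_commutant]
    refine b.ext fun i => ?_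
    rw [Module.End.mul_apply, Module.End.mul_apply, hb, map_smul]
    by_cases hi : i = ab.1.2
    · have e : f ab (b i) = b ab.1.1 := by
        show Matrix.toLin b b _ (b i) = _
        rw [Matrix.toLin_self, Finset.sum_eq_single ab.1.1]
        · simp [Matrix.single, hi]
        · intro c _ hc; simp [Matrix.single, Ne.symm hc]
        · simp
      rw [e, hb, hi]
      congr 2
      exact ab.2.symm
    · have e : f ab (b i) = 0 := by
        show Matrix.toLin b b _ (b i) = _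
        rw [Matrix.toLin_self]
        exact Finset.sum_eq_zero fun c _ => by simp [Matrix.single, Ne.symm hi]
      rw [e, map_zero, smul_zero]
  have hli : LinearIndependent K f := by
    have h1 := (Matrix.stdBasis K ι ι).linearIndependent.comp (fun ab : S => ab.1) Subtype.val_injective
    have h2 := h1.map' (Matrix.toLin b b).toLinearMap (LinearEquiv.ker _)
    have e : f = (Matrix.toLin b b).toLinearMap ∘ (Matrix.stdBasis K ι ι) ∘ fun ab : S => ab.1 := by
      funext ab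
      show Matrix.toLin b b _ = Matrix.toLin b b _
      congr 1
      exact (Matrix.stdBasis_eq_single K ab.1.1 ab.1.2).symm
    rw [e]
    exact h2
  have hli' : LinearIndependent K (fun ab : S => (⟨f ab, hf ab⟩ : commutant T)) :=
    LinearIndependent.of_comp (commutant T).subtype (by simpa [Function.comp_def] using hli)
  have hcard := hli'.fintype_card_le_finrank
  have hS : Fintype.card S = ∑ μ : E, Module.finrank K (A μ) ^ 2 := by
    have e : S ≃ Σ μ : E, Fin (Module.finrank K (A μ)) × Fin (Module.finrank K (A μ)) :=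
      { toFun := fun ab => ⟨ab.1.1.1, ab.1.1.2, Fin.cast (by rw [ab.2]) ab.1.2.2⟩
        invFun := fun c => ⟨(⟨c.1, c.2.1⟩, ⟨c.1, c.2.2⟩), rfl⟩
        left_inv := by
          rintro ⟨⟨⟨μ, i⟩, ⟨ν, j⟩⟩, h⟩
          change μ = ν at h
          subst h
          rfl
        right_inv := fun c => rfl }
    rw [Fintype.card_congr e, Fintype.card_sigma]
    simp [sq]
  have hn : Module.finrank K W = ∑ μ : E, Module.finrank K (A μ) := by
    rw [Module.finrank_eq_card_basis b, Fintype.card_sigma]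
    simp
  calc Module.finrank K W ^ 2 = (∑ μ : E, Module.finrank K (A μ)) ^ 2 := by rw [hn]
    _ ≤ (Finset.univ : Finset E).card * ∑ μ : E, Module.finrank K (A μ) ^ 2 := sq_sum_le_card_mul_sum_sq
    _ ≤ _ := by
      rw [Finset.card_univ, Fintype.card_coe, ← hS]
      exact Nat.mul_le_mul_left _ hcard

/-- The arithmetic of the critical case. -/
theorem critical_arith {q r d O F e : ℕ} (hq : q.Prime) (hq2 : q ≠ 2) (hr : r.Prime)
    (hd : 2 ≤ d) (hdd : d * d = O * r + 1) (hde : d * d = q ^ e) (hF : F ≤ 1 + O)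
    (hlow : d ^ 2 ≤ (r - 1) * F) : False := by
  obtain ⟨s, rfl⟩ : ∃ s, r = s + 1 := ⟨r - 1, by have := hr.pos; omega⟩
  rw [Nat.add_sub_cancel] at hlow
  have h1 : d * d ≤ s * s := by
    have h2 : d * d ≤ s * (1 + O) := by
      rw [← sq]; exact le_trans hlow (Nat.mul_le_mul_left _ hF)
    nlinarith
  have h3 : d ≤ s := Nat.mul_self_le_mul_self_iff.1 h1
  have h4 : (s + 1) ∣ (d - 1) * (d + 1) := by
    refine ⟨O, ?_⟩
    obtain ⟨d', rfl⟩ : ∃ d', d = d' + 1 := ⟨d - 1, by omega⟩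
    rw [Nat.add_sub_cancel]
    nlinarith
  have hd_odd : Odd d := by
    obtain ⟨m, -, hm⟩ := (Nat.dvd_prime_pow hq).1 (show d ∣ q ^ e from ⟨d, hde.symm⟩)
    rw [hm]; exact (hq.odd_of_ne_two hq2).pow
  rcases (Nat.Prime.dvd_mul hr).1 h4 with h | h
  · have := Nat.le_of_dvd (by omega) h; omega
  · have := Nat.le_of_dvd (by omega) h
    have hs : s + 1 = d + 1 := by omega
    have hev : Even (s + 1) := by rw [hs]; exact hd_odd.add_one
    have := (hr.even_iff).1 hev
    omega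

theorem eq_one_of_pow_eq_smul {f : Module.End K W} {c : K} {a : ℕ} [Nontrivial W] (h : f ^ a = 1)
    (h' : f = c • 1) : c ^ a = 1 := by
  rw [h', smul_pow, one_pow] at h
  obtain ⟨w, hw⟩ := exists_ne (0 : W)
  have := LinearMap.congr_fun h w
  simp only [LinearMap.smul_apply, Module.End.one_apply] at this
  have h2 : (c ^ a - 1) • w = 0 := by rw [sub_smul, one_smul, this, sub_self]
  exact sub_eq_zero.1 ((smul_eq_zero.1 h2).resolve_right hw)

theorem smul_pow_coprime_eq_one {c : K} {a b : ℕ} (ha : c ^ a = 1) (hb : c ^ b = 1)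
    (hab : a.Coprime b) : c = 1 := by
  have := pow_gcd_eq_one.2 ⟨ha, hb⟩
  rwa [hab, pow_one] at this

/-- If `x` fixes no non-zero vector, neither does the operator it induces on an invariant quotient. -/
theorem fpf_quot [FiniteDimensional K W] (T : Module.End K W) (U : Submodule K W)
    (hU : ∀ u ∈ U, T u ∈ U) (hfpf : ∀ w, T w = w → w = 0) (w : W) (hw : T w - w ∈ U) : w ∈ U := by
  have hinj : Function.Injective ((T - 1 : Module.End K W).restrict
      (fun u hu => U.sub_mem (hU u hu) hu : ∀ u ∈ U, (T - 1 : Module.End K W) u ∈ U)) := by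
    rw [injective_iff_map_eq_zero]
    intro u hu
    refine Subtype.ext (hfpf _ ?_)
    exact sub_eq_zero.1 (congrArg Subtype.val hu)
  obtain ⟨u, hu⟩ := (LinearMap.injective_iff_surjective.1 hinj) ⟨T w - w, hw⟩
  have hu' : T (u : W) - (u : W) = T w - w := congrArg Subtype.val hu
  have h0 : w - (u : W) = 0 := hfpf _ (by
    rw [map_sub]
    exact sub_eq_sub_iff_sub_eq_sub.1 hu'.symm)
  rw [sub_eq_zero] at h0
  rw [h0]
  exact u.2

theorem image_commute_of_fpf_aux [IsAlgClosed K] (q r : ℕ) [Fact q.Prime] [Fact r.Prime]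
    (hq2 : q ≠ 2) (hqr : q ≠ r) (hqK : (q : K) ≠ 0) (hrK : (r : K) ≠ 0) :
    ∀ (d c : ℕ) (G : Type u) [Group G] [Finite G] (W : Type v) [AddCommGroup W] [Module K W]
      [FiniteDimensional K W] (ρ : Representation K G W) (Q : Subgroup G) (x : G),
      Module.finrank K W = d → Nat.card Q = c → IsPGroup q Q → (∀ g ∈ Q, x * g * x⁻¹ ∈ Q) →
      x ^ r = 1 → (∀ w, ρ x w = w → w = 0) → ∀ g ∈ Q, ρ (x * g * x⁻¹) = ρ g := by
  classical
  intro d
  induction d using Nat.strong_induction_on with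
  | _ d ihd =>
  intro c
  induction c using Nat.strong_induction_on with
  | _ c ihc =>
  intro G _ _ W _ _ _ ρ Q x hd hc hQ hx hxr hfpf
  have hr := (Fact.out : r.Prime)
  have hq := (Fact.out : q.Prime)
  intro g₀ hg₀
  rcases subsingleton_or_nontrivial W with hW | hW
  · exact LinearMap.ext fun w => Subsingleton.elim _ _
  have hcop : r.Coprime q := (Nat.coprime_primes hr hq).2 (Ne.symm hqr)
  have hqpow : ∀ g ∈ Q, ∃ e : ℕ, g ^ q ^ e = 1 := fun g hg => by
    obtain ⟨e, he⟩ := hQ ⟨g, hg⟩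
    exact ⟨e, congrArg Subtype.val he⟩
  have hxk : ∀ (k : ℕ), ∀ g ∈ Q, x ^ k * g * (x ^ k)⁻¹ ∈ Q := conj_pow_mem hx
  -- the fixed elements
  have hiter : ∀ g : G, ρ (x * g * x⁻¹) = ρ g → ∀ k : ℕ, ρ (x ^ k * g * (x ^ k)⁻¹) = ρ g := by
    intro g hg k
    induction k with
    | zero => simp
    | succ k ih =>
      have e : x ^ (k + 1) * g * (x ^ (k + 1))⁻¹ = x * (x ^ k * g * (x ^ k)⁻¹) * x⁻¹ := by
        rw [pow_succ']; group
      rw [e, map_mul, map_mul, ih, ← map_mul, ← map_mul, hg]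
  -- a proper invariant subgroup containing the commutators suffices
  have hred : ∀ Q₁ : Subgroup G, Q₁ < Q → (∀ g ∈ Q₁, x * g * x⁻¹ ∈ Q₁) →
      ∀ g ∈ Q₁, ρ (x * g * x⁻¹) = ρ g := by
    intro Q₁ hlt hinv
    refine ihc _ ?_ G W ρ Q₁ x hd rfl (hQ.to_le hlt.le) hinv hxr hfpf
    rw [← hc]
    refine lt_of_le_of_ne (Nat.card_mono (Set.toFinite _) hlt.le) fun he => hlt.ne ?_
    exact Subgroup.eq_of_le_of_card_ge hlt.le he.ge
  have hgen : ∀ Q₁ : Subgroup G, Q₁ < Q → (∀ g ∈ Q₁, x * g * x⁻¹ ∈ Q₁) →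
      (∀ g ∈ Q, g⁻¹ * (x * g * x⁻¹) ∈ Q₁) → ∀ g ∈ Q, ρ (x * g * x⁻¹) = ρ g := by
    intro Q₁ hlt hinv hcom g hg
    set t := g⁻¹ * (x * g * x⁻¹) with ht
    have htQ : t ∈ Q₁ := hcom g hg
    have hfix := hred Q₁ hlt hinv t htQ
    have hk : ∀ k : ℕ, ρ (x ^ k * g * (x ^ k)⁻¹) = ρ (g * t ^ k) := by
      intro k
      induction k with
      | zero => simp
      | succ k ih =>
        have e : x ^ (k + 1) * g * (x ^ (k + 1))⁻¹ = x * (x ^ k * g * (x ^ k)⁻¹) * x⁻¹ := by
          rw [pow_succ']; group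
        have hf : ρ (x * t ^ k * x⁻¹) = ρ (t ^ k) := by
          rw [← conj_pow, map_pow, hfix, map_pow]
        rw [e, map_mul, map_mul, ih, ← map_mul, ← map_mul,
          show x * (g * t ^ k) * x⁻¹ = (x * g * x⁻¹) * (x * t ^ k * x⁻¹) by group, map_mul, hf,
          ← map_mul, show x * g * x⁻¹ = g * t by rw [ht]; group,
          show g * t * t ^ k = g * t ^ (k + 1) by rw [pow_succ', mul_assoc]]
    have h1 : ρ (t ^ r) = 1 := by
      have := hk r
      rw [hxr, one_mul, inv_one, mul_one] at this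
      have := congrArg (fun f => ρ g⁻¹ * f) this
      simpa [← map_mul] using this.symm
    obtain ⟨e, he⟩ := hqpow t (hlt.le htQ)
    have h2 : ρ t = 1 := eq_one_of_pow (a := r) (b := q ^ e) (by rw [← map_pow, h1])
      (by rw [← map_pow, he, map_one]) (hcop.pow_right e)
    rw [show x * g * x⁻¹ = g * t by rw [ht]; group, map_mul, h2, mul_one]
  -- reducible case
  by_cases hredu : ∃ U : Submodule K W, (∀ g ∈ Q, ∀ u ∈ U, ρ g u ∈ U) ∧ (∀ u ∈ U, ρ x u ∈ U) ∧ U ≠ ⊥ ∧ U ≠ ⊤
  · obtain ⟨U, hUQ, hUx, hU0, hUt⟩ := hredu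
    have hQ₀ : Q ≤ stab ρ U := fun g hg => hUQ g hg
    have hx₀ : x ∈ stab ρ U := hUx
    set Q₀ := Q.subgroupOf (stab ρ U)
    have hQp : IsPGroup q Q₀ := hQ.of_equiv (Subgroup.subgroupOfEquivOfLe hQ₀).symm
    have hinv₀ : ∀ g ∈ Q₀, (⟨x, hx₀⟩ : stab ρ U) * g * (⟨x, hx₀⟩ : stab ρ U)⁻¹ ∈ Q₀ := fun g hg => hx _ hg
    haveI : Nontrivial U := Submodule.nontrivial_iff_ne_bot.2 hU0
    have hlt : Module.finrank K U < d := hd ▸ Submodule.finrank_lt hUt
    have hs := ihd _ hlt _ (stab ρ U) U (subRep ρ U) Q₀ ⟨x, hx₀⟩ rfl rfl hQp hinv₀ (Subtype.ext hxr)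
      (fun u hu => Subtype.ext (hfpf _ (congrArg Subtype.val hu)))
    have hlt' : Module.finrank K (W ⧸ U) < d := by
      have h1 := Submodule.finrank_quotient_add_finrank U
      have h2 : 0 < Module.finrank K U := Module.finrank_pos
      omega
    have hq' := ihd _ hlt' _ (stab ρ U) (W ⧸ U) (quotRep ρ U) Q₀ ⟨x, hx₀⟩ rfl rfl hQp hinv₀ (Subtype.ext hxr)
      (fun w hw => by
        obtain ⟨w, rfl⟩ := Submodule.Quotient.mk_surjective U w
        rw [quotRep_apply, Submodule.Quotient.eq] at hw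
        exact (Submodule.Quotient.mk_eq_zero U).2 (fpf_quot (ρ x) U hUx hfpf w hw))
    -- `t` acts as `1` on `U` and on `W ⧸ U`
    set t := g₀⁻¹ * (x * g₀ * x⁻¹) with ht
    have htQ : t ∈ Q := Q.mul_mem (Q.inv_mem hg₀) (hx _ hg₀)
    have htS : t ∈ stab ρ U := hQ₀ htQ
    have hg₀S : g₀ ∈ stab ρ U := hQ₀ hg₀
    have ht1 : subRep ρ U ⟨t, htS⟩ = 1 := by
      have h := hs ⟨g₀, hg₀S⟩ hg₀
      have e : (⟨t, htS⟩ : stab ρ U) = (⟨g₀, hg₀S⟩ : stab ρ U)⁻¹ * ((⟨x, hx₀⟩ : stab ρ U) * ⟨g₀, hg₀S⟩ * (⟨x, hx₀⟩ : stab ρ U)⁻¹) := rfl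
      rw [e, map_mul, h, ← map_mul, inv_mul_cancel, map_one]
    have ht2 : quotRep ρ U ⟨t, htS⟩ = 1 := by
      have h := hq' ⟨g₀, hg₀S⟩ hg₀
      have e : (⟨t, htS⟩ : stab ρ U) = (⟨g₀, hg₀S⟩ : stab ρ U)⁻¹ * ((⟨x, hx₀⟩ : stab ρ U) * ⟨g₀, hg₀S⟩ * (⟨x, hx₀⟩ : stab ρ U)⁻¹) := rfl
      rw [e, map_mul, h, ← map_mul, inv_mul_cancel, map_one]
    have hsq : ∀ w, ρ t w - w ∈ U ∧ ρ t (ρ t w - w) = ρ t w - w := by
      intro w
      have hmem : ρ t w - w ∈ U := by
        have := LinearMap.congr_fun ht2 (Submodule.Quotient.mk w)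
        rw [quotRep_apply, Module.End.one_apply, Submodule.Quotient.eq] at this
        exact this
      exact ⟨hmem, congrArg Subtype.val (LinearMap.congr_fun ht1 ⟨_, hmem⟩)⟩
    have hlin : ∀ (k : ℕ) (w : W), ρ (t ^ k) w = w + (k : K) • (ρ t w - w) := by
      intro k
      induction k with
      | zero => intro w; simp
      | succ k ih =>
        intro w
        rw [pow_succ', map_mul, Module.End.mul_apply, ih, map_add, map_smul, (hsq w).2, Nat.cast_succ,
          add_smul, one_smul]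
        abel
    obtain ⟨e, he⟩ := hqpow t htQ
    have htid : ρ t = 1 := by
      refine LinearMap.ext fun w => ?_
      have := hlin (q ^ e) w
      rw [he, map_one, Module.End.one_apply, left_eq_add, smul_eq_zero] at this
      rcases this with h | h
      · exact absurd h (by rw [Nat.cast_pow]; exact pow_ne_zero _ hqK)
      · exact sub_eq_zero.1 h
    rw [show x * g₀ * x⁻¹ = g₀ * t by rw [ht]; group, map_mul, htid, mul_one]
  push Not at hredu
  have hirr : ∀ U : Submodule K W, (∀ g ∈ Q, ∀ u ∈ U, ρ g u ∈ U) → (∀ u ∈ U, ρ x u ∈ U) → U = ⊥ ∨ U = ⊤ := by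
    intro U h1 h2
    by_cases h : U = ⊥
    · exact Or.inl h
    · exact Or.inr (hredu U h1 h2 h)
  -- Schur
  have hschur : ∀ f : Module.End K W, (∀ g ∈ Q, Commute (ρ g) f) → Commute (ρ x) f → IsScal f := by
    intro f hfQ hfx
    obtain ⟨μ, hμ⟩ := Module.End.exists_eigenvalue f
    refine ⟨μ, ?_⟩
    have hinv : ∀ h : G, Commute (ρ h) f → ∀ u ∈ f.eigenspace μ, ρ h u ∈ f.eigenspace μ := by
      intro h hh u hu
      rw [Module.End.mem_eigenspace_iff] at hu ⊢
      rw [← Module.End.mul_apply, ← hh.eq, Module.End.mul_apply, hu, map_smul]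
    rcases hirr (f.eigenspace μ) (fun g hg => hinv g (hfQ g hg)) (hinv x hfx) with h | h
    · exact absurd h (Module.End.hasEigenvalue_iff.1 hμ)
    · refine LinearMap.ext fun w => ?_
      have hw : w ∈ f.eigenspace μ := h ▸ Submodule.mem_top
      exact Module.End.mem_eigenspace_iff.1 hw
  have hfix_comm : ∀ g : G, ρ (x * g * x⁻¹) = ρ g → Commute (ρ x) (ρ g) := by
    intro g hg
    show ρ x * ρ g = ρ g * ρ x
    calc ρ x * ρ g = ρ (x * g * x⁻¹) * ρ x := by rw [← map_mul, ← map_mul]; congr 1; group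
      _ = _ := by rw [hg]
  -- proper invariant normal subgroups act by scalars
  have hscal : ∀ Q₁ : Subgroup G, Q₁ < Q → (∀ g ∈ Q₁, x * g * x⁻¹ ∈ Q₁) →
      (∀ h ∈ Q, ∀ g ∈ Q₁, h * g * h⁻¹ ∈ Q₁) →
      (∀ g ∈ Q, ρ (x * g * x⁻¹) = ρ g) ∨ ∀ g ∈ Q₁, IsScal (ρ g) := by
    intro Q₁ hlt hinv hnor
    have hfix := hred Q₁ hlt hinv
    let C : Subgroup G :=
      { carrier := {h | h ∈ Q ∧ ∀ z ∈ Q₁, Commute (ρ h) (ρ z)}
        one_mem' := ⟨Q.one_mem, fun z _ => by rw [map_one]; exact Commute.one_left _⟩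
        mul_mem' := fun {a b} ha hb => ⟨Q.mul_mem ha.1 hb.1, fun z hz => by
          rw [map_mul]; exact Commute.mul_left (ha.2 z hz) (hb.2 z hz)⟩
        inv_mem' := fun {a} ha => ⟨Q.inv_mem ha.1, fun z hz => by
          rw [inv_eq_pow, map_pow]; exact Commute.pow_left (ha.2 z hz) _⟩ }
    have hCinv : ∀ h ∈ C, x * h * x⁻¹ ∈ C := by
      intro h hh
      refine ⟨hx h hh.1, fun z hz => ?_⟩
      have h1 : Commute (ρ (x * h * x⁻¹)) (ρ (x * z * x⁻¹)) := conj_commute ρ (hh.2 z hz) x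
      rwa [hfix z hz] at h1
    have hCcom : ∀ g ∈ Q, g⁻¹ * (x * g * x⁻¹) ∈ C := by
      intro g hg
      refine ⟨Q.mul_mem (Q.inv_mem hg) (hx _ hg), fun z hz => ?_⟩
      set y := x * g * x⁻¹ with hy
      have hy1 : ρ (y * z * y⁻¹) = ρ (g * z * g⁻¹) := by
        calc ρ (y * z * y⁻¹) = ρ y * ρ (x * z * x⁻¹) * ρ y⁻¹ := by rw [hfix z hz, ← map_mul, ← map_mul]
          _ = ρ (x * (g * z * g⁻¹) * x⁻¹) := by
            rw [← map_mul, ← map_mul, hy]; congr 1; group
          _ = _ := hfix _ (hnor g hg z hz)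
      show ρ (g⁻¹ * y) * ρ z = ρ z * ρ (g⁻¹ * y)
      calc ρ (g⁻¹ * y) * ρ z = ρ g⁻¹ * ρ (y * z * y⁻¹) * ρ y := by
            rw [← map_mul, ← map_mul, ← map_mul]; congr 1; group
        _ = ρ z * ρ (g⁻¹ * y) := by
            rw [hy1, ← map_mul, ← map_mul, ← map_mul]; congr 1; group
    rcases lt_or_eq_of_le (show C ≤ Q from fun h hh => hh.1) with h | h
    · exact Or.inl (hgen C h hCinv hCcom)
    · refine Or.inr fun z hz => hschur (ρ z) (fun g hg => ?_) (hfix_comm z (hfix z hz))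
      have hg' : g ∈ C := h.symm ▸ hg
      exact hg'.2 z hz
  -- the abelian case
  by_cases hab : ∀ g ∈ Q, ∀ h ∈ Q, Commute (ρ g) (ρ h)
  · obtain ⟨U, hU0, hUinv, hUmin⟩ := exists_min_invariant ρ Q
    obtain ⟨u₀, hu₀, hu₀'⟩ := (Submodule.ne_bot_iff U).1 hU0
    haveI : Nontrivial U := (Submodule.nontrivial_iff_ne_bot).2 hU0
    have hchar : ∀ g : Q, ∃ μ : K, ρ (g : G) u₀ = μ • u₀ := by
      intro g
      obtain ⟨μ, hμ⟩ := Module.End.exists_eigenvalue ((ρ (g : G)).restrict (hUinv g g.2))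
      obtain ⟨v, hv⟩ := hμ.exists_hasEigenvector
      refine ⟨μ, ?_⟩
      have hE : U ⊓ Module.End.eigenspace (ρ (g : G)) μ = U := hUmin _ inf_le_left
        (fun h => hv.2 (Subtype.ext (by
          have hm : (v : W) ∈ U ⊓ Module.End.eigenspace (ρ (g : G)) μ := ⟨v.2, Module.End.mem_eigenspace_iff.2
            (congrArg Subtype.val hv.apply_eq_smul)⟩
          rwa [h, Submodule.mem_bot] at hm)))
        (fun h hh u hu => ⟨hUinv h hh u hu.1, by
          rw [SetLike.mem_coe, Module.End.mem_eigenspace_iff]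
          rw [← Module.End.mul_apply, (hab g g.2 h hh).eq, Module.End.mul_apply,
            Module.End.mem_eigenspace_iff.1 hu.2, map_smul]⟩)
      have : u₀ ∈ U ⊓ Module.End.eigenspace (ρ (g : G)) μ := hE.symm ▸ hu₀
      exact Module.End.mem_eigenspace_iff.1 this.2
    choose μ hμ using hchar
    -- the orbit of the character
    let conjQ : ℕ → Q → Q := fun k g => ⟨(x ^ k)⁻¹ * g * x ^ k, inv_conj_mem hx k g g.2⟩
    have hvk : ∀ (k : ℕ) (g : Q), ρ (g : G) (ρ (x ^ k) u₀) = μ (conjQ k g) • ρ (x ^ k) u₀ := by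
      intro k g
      rw [← Module.End.mul_apply, ← map_mul, show (g : G) * x ^ k = x ^ k * ((x ^ k)⁻¹ * g * x ^ k) by group,
        map_mul, Module.End.mul_apply]
      show ρ (x ^ k) (ρ ((conjQ k g : Q) : G) u₀) = _
      rw [hμ, map_smul]
    by_cases hdist : ∀ i j : Fin r, i ≠ j → ∃ g, μ (conjQ i g) ≠ μ (conjQ j g)
    · exfalso
      have hsum : ρ x (∑ k ∈ Finset.range r, ρ (x ^ k) u₀) = ∑ k ∈ Finset.range r, ρ (x ^ k) u₀ := by
        rw [map_sum]
        have e : ∀ k, ρ x (ρ (x ^ k) u₀) = ρ (x ^ (k + 1)) u₀ := fun k => by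
          rw [pow_succ', map_mul]; rfl
        simp only [e]
        have h1 := Finset.sum_range_succ (fun k => ρ (x ^ k) u₀) r
        have h2 := Finset.sum_range_succ' (fun k => ρ (x ^ k) u₀) r
        rw [h1] at h2
        simp only [hxr, pow_zero] at h2
        exact (add_right_cancel h2).symm
      have h0 := hfpf _ hsum
      rw [← Fin.sum_univ_eq_sum_range (fun k => ρ (x ^ k) u₀) r] at h0
      have := weight_indep (K := K) (fun g : Q => ρ (g : G)) (fun i : Fin r => fun g => μ (conjQ i g))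
        hdist Finset.univ (fun i : Fin r => ρ (x ^ (i : ℕ)) u₀) (fun i _ g => hvk i g) h0 ⟨0, hr.pos⟩
        (Finset.mem_univ _)
      simp at this
      exact hu₀' this
    push Not at hdist
    obtain ⟨i, j, hij, heq⟩ := hdist
    have hk : ∃ k : ℕ, 0 < k ∧ k < r ∧ ∀ g : Q, μ (conjQ k g) = μ g := by
      rcases lt_or_gt_of_ne (fun h : (i : ℕ) = j => hij (Fin.ext h)) with h | h
      · refine ⟨j - i, by omega, by omega, fun g => ?_⟩
        have := heq ⟨x ^ (i : ℕ) * g * (x ^ (i : ℕ))⁻¹, hxk _ g g.2⟩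
        have e1 : conjQ i ⟨x ^ (i : ℕ) * g * (x ^ (i : ℕ))⁻¹, hxk _ g g.2⟩ = g := Subtype.ext (by
          show (x ^ (i : ℕ))⁻¹ * (x ^ (i : ℕ) * g * (x ^ (i : ℕ))⁻¹) * x ^ (i : ℕ) = g
          group)
        have e2 : conjQ j ⟨x ^ (i : ℕ) * g * (x ^ (i : ℕ))⁻¹, hxk _ g g.2⟩ = conjQ (j - i) g := Subtype.ext (by
          show (x ^ (j : ℕ))⁻¹ * (x ^ (i : ℕ) * g * (x ^ (i : ℕ))⁻¹) * x ^ (j : ℕ) = (x ^ ((j : ℕ) - i))⁻¹ * g * x ^ ((j : ℕ) - i)
          conv_lhs => rw [show x ^ (j : ℕ) = x ^ (i : ℕ) * x ^ ((j : ℕ) - i) by rw [← pow_add]; congr 1; omega]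
          group)
        rw [e1, e2] at this
        exact this.symm
      · refine ⟨i - j, by omega, by omega, fun g => ?_⟩
        have := heq ⟨x ^ (j : ℕ) * g * (x ^ (j : ℕ))⁻¹, hxk _ g g.2⟩
        have e1 : conjQ j ⟨x ^ (j : ℕ) * g * (x ^ (j : ℕ))⁻¹, hxk _ g g.2⟩ = g := Subtype.ext (by
          show (x ^ (j : ℕ))⁻¹ * (x ^ (j : ℕ) * g * (x ^ (j : ℕ))⁻¹) * x ^ (j : ℕ) = g
          group)
        have e2 : conjQ i ⟨x ^ (j : ℕ) * g * (x ^ (j : ℕ))⁻¹, hxk _ g g.2⟩ = conjQ (i - j) g := Subtype.ext (by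
          show (x ^ (i : ℕ))⁻¹ * (x ^ (j : ℕ) * g * (x ^ (j : ℕ))⁻¹) * x ^ (i : ℕ) = (x ^ ((i : ℕ) - j))⁻¹ * g * x ^ ((i : ℕ) - j)
          conv_lhs => rw [show x ^ (i : ℕ) = x ^ (j : ℕ) * x ^ ((i : ℕ) - j) by rw [← pow_add]; congr 1; omega]
          group)
        rw [e1, e2] at this
        exact this
    obtain ⟨k, hk0, hkr, hk⟩ := hk
    have hkm : ∀ (m : ℕ) (g : Q), μ (conjQ (k * m) g) = μ g := by
      intro m
      induction m with
      | zero => intro g; congr 1; exact Subtype.ext (by show (x ^ (k * 0))⁻¹ * g * x ^ (k * 0) = g; simp)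
      | succ m ih =>
        intro g
        have e : conjQ (k * (m + 1)) g = conjQ k (conjQ (k * m) g) := Subtype.ext (by
          show (x ^ (k * (m + 1)))⁻¹ * g * x ^ (k * (m + 1)) = (x ^ k)⁻¹ * ((x ^ (k * m))⁻¹ * g * x ^ (k * m)) * x ^ k
          rw [show k * (m + 1) = k * m + k by ring, pow_add]; group)
        rw [e, hk, ih]
    obtain ⟨m, -, hm⟩ := Nat.exists_mul_mod_eq_one_of_coprime
      ((hr.coprime_iff_not_dvd.2 (Nat.not_dvd_of_pos_of_lt hk0 hkr)).symm) hr.one_lt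
    have hone : ∀ g : Q, μ (conjQ 1 g) = μ g := by
      intro g
      rw [← hkm m g]
      congr 1
      refine Subtype.ext ?_
      show (x ^ 1)⁻¹ * g * x ^ 1 = (x ^ (k * m))⁻¹ * g * x ^ (k * m)
      rw [pow_eq_pow_mod (k * m) hxr, hm]
    -- the eigenspace is everything
    let V₀ : Submodule K W :=
      { carrier := {w | ∀ g : Q, ρ (g : G) w = μ g • w}
        zero_mem' := fun g => by simp
        add_mem' := fun {a b} ha hb g => by rw [map_add, ha, hb, smul_add]
        smul_mem' := fun c a ha g => by rw [map_smul, ha, smul_comm] }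
    have hV₀ : V₀ = ⊤ := by
      refine (hirr V₀ (fun g hg w hw h => ?_) (fun w hw g => ?_)).resolve_left
        fun h => hu₀' ((Submodule.eq_bot_iff _).1 h u₀ hμ)
      · rw [← Module.End.mul_apply, (hab h h.2 g hg).eq, Module.End.mul_apply, hw h, map_smul]
      · rw [← Module.End.mul_apply, ← map_mul,
          show (g : G) * x = x * ((x ^ 1)⁻¹ * g * x ^ 1) by group,
          map_mul, Module.End.mul_apply]
        show ρ x (ρ ((conjQ 1 g : Q) : G) w) = _
        rw [hw, map_smul, hone]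
    refine LinearMap.ext fun w => ?_
    have hw : w ∈ V₀ := hV₀ ▸ Submodule.mem_top
    have h1 := hw ⟨x * g₀ * x⁻¹, hx _ hg₀⟩
    have h2 := hw ⟨g₀, hg₀⟩
    simp only at h1 h2
    rw [h1, h2]
    congr 1
    rw [← hone ⟨x * g₀ * x⁻¹, hx _ hg₀⟩]
    congr 1
    refine Subtype.ext ?_
    show (x ^ 1)⁻¹ * (x * g₀ * x⁻¹) * x ^ 1 = g₀
    group
  -- the non-abelian case
  by_contra hbad
  have hQ' : ⁅Q, Q⁆ < Q := by
    refine lt_of_le_of_ne (Subgroup.commutator_le_self Q) fun he => hab ?_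
    have hnil : Group.IsNilpotent Q := hQ.isNilpotent
    haveI : Group.IsSolvable Q := inferInstance
    rcases subsingleton_or_nontrivial Q with hs | hn
    · intro g hg h hh
      have hg1 : g = 1 := congrArg Subtype.val (Subsingleton.elim (⟨g, hg⟩ : Q) 1)
      rw [hg1, map_one]; exact Commute.one_left _
    · have := Group.IsSolvable.commutator_lt_top_of_nontrivial Q
      exfalso
      apply this.ne
      rw [eq_top_iff]
      intro g _
      have hg : (g : G) ∈ (commutator Q).map Q.subtype := by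
        rw [Subgroup.map_subtype_commutator, he]; exact g.2
      obtain ⟨g', hg', e⟩ := hg
      rwa [← Subtype.ext e]
  have hQ'inv : ∀ g ∈ ⁅Q, Q⁆, x * g * x⁻¹ ∈ ⁅Q, Q⁆ := by
    intro g hg
    have hle : Q.map (MulAut.conj x).toMonoidHom ≤ Q := by
      rintro _ ⟨h, hh, rfl⟩
      exact hx h hh
    have := Subgroup.mem_map_of_mem (MulAut.conj x).toMonoidHom hg
    rw [Subgroup.map_commutator] at this
    exact Subgroup.commutator_mono hle hle this
  have hQ'nor : ∀ h ∈ Q, ∀ g ∈ ⁅Q, Q⁆, h * g * h⁻¹ ∈ ⁅Q, Q⁆ := by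
    intro h hh g hg
    rw [show h * g * h⁻¹ = ⁅h, g⁆ * g by rw [commutatorElement_def]; group]
    exact mul_mem (Subgroup.commutator_mem_commutator hh ((Subgroup.commutator_le_self Q) hg)) hg
  have hscal' := (hscal _ hQ' hQ'inv hQ'nor).resolve_left fun h => hbad (h g₀ hg₀)
  have hcomm : ∀ g ∈ Q, ∀ h ∈ Q, ∃ c : K, ρ (h * g * h⁻¹) = c • ρ g := by
    intro g hg h hh
    obtain ⟨c, hc⟩ := hscal' _ (Subgroup.commutator_mem_commutator hh hg)
    exact ⟨c, by rw [show h * g * h⁻¹ = ⁅h, g⁆ * g by rw [commutatorElement_def]; group, map_mul, hc,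
      smul_mul_assoc, one_mul]⟩
  have hcent : ∀ g ∈ Q, (∀ h ∈ Q, Commute (ρ g) (ρ h)) → IsScal (ρ g) := by
    intro g hg hgc
    let Z : Subgroup G :=
      { carrier := {z | z ∈ Q ∧ ∀ h ∈ Q, Commute (ρ z) (ρ h)}
        one_mem' := ⟨Q.one_mem, fun z _ => by rw [map_one]; exact Commute.one_left _⟩
        mul_mem' := fun {a b} ha hb => ⟨Q.mul_mem ha.1 hb.1, fun z hz => by
          rw [map_mul]; exact Commute.mul_left (ha.2 z hz) (hb.2 z hz)⟩
        inv_mem' := fun {a} ha => ⟨Q.inv_mem ha.1, fun z hz => by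
          rw [inv_eq_pow, map_pow]; exact Commute.pow_left (ha.2 z hz) _⟩ }
    have hZlt : Z < Q := by
      refine lt_of_le_of_ne (fun z hz => hz.1) fun he => hab fun g hg h hh => ?_
      exact (he.symm ▸ hg : g ∈ Z).2 h hh
    have hr0 : 0 < r := hr.pos
    have hZinv : ∀ z ∈ Z, x * z * x⁻¹ ∈ Z := by
      intro z hz
      refine ⟨hx z hz.1, fun h hh => ?_⟩
      have hh' : x⁻¹ * h * x ∈ Q := by
        have := inv_conj_mem hx 1 h hh
        rwa [pow_one] at this
      have := conj_commute ρ (hz.2 _ hh') x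
      rwa [show x * (x⁻¹ * h * x) * x⁻¹ = h by group] at this
    exact hschur (ρ g) (fun h hh => (hgc h hh).symm) (hfix_comm g (hred Z hZlt hZinv g ⟨hg, hgc⟩))
  have hfree : ∀ i : ℕ, 0 < i → i < r ^ 1 → ∀ g ∈ Q,
      (∃ c : K, ρ (x ^ i * g * (x ^ i)⁻¹) = c • ρ g) → IsScal (ρ g) := by
    intro i hi0 hir g hg hgi
    rw [pow_one] at hir
    have h1 : ∃ c : K, ρ (x * g * x⁻¹) = c • ρ g := by
      obtain ⟨c, hc⟩ := hgi
      have hm' : ∀ m : ℕ, ρ (x ^ (i * m) * g * (x ^ (i * m))⁻¹) = c ^ m • ρ g := by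
        intro m
        induction m with
        | zero => simp
        | succ m ih =>
          rw [show i * (m + 1) = i + i * m by ring, pow_add,
            show x ^ i * x ^ (i * m) * g * (x ^ i * x ^ (i * m))⁻¹ = x ^ i * (x ^ (i * m) * g * (x ^ (i * m))⁻¹) * (x ^ i)⁻¹ by group,
            map_mul, map_mul, ih, mul_smul_comm, smul_mul_assoc, ← map_mul, ← map_mul, hc, smul_smul, pow_succ]
      obtain ⟨m, -, hm⟩ := Nat.exists_mul_mod_eq_one_of_coprime
        ((hr.coprime_iff_not_dvd.2 (Nat.not_dvd_of_pos_of_lt hi0 hir)).symm) hr.one_lt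
      refine ⟨c ^ m, ?_⟩
      have := hm' m
      rwa [pow_eq_pow_mod (i * m) hxr, hm, pow_one] at this
    let E : Subgroup G :=
      { carrier := {h | h ∈ Q ∧ ∃ c : K, ρ (x * h * x⁻¹) = c • ρ h}
        one_mem' := ⟨Q.one_mem, 1, by simp⟩
        mul_mem' := fun {a b} ⟨haQ, ca, ha⟩ ⟨hbQ, cb, hb⟩ => ⟨Q.mul_mem haQ hbQ, ca * cb, by
          rw [show x * (a * b) * x⁻¹ = (x * a * x⁻¹) * (x * b * x⁻¹) by group, map_mul, ha, hb, map_mul,
            smul_mul_smul_comm]⟩
        inv_mem' := fun {a} ⟨haQ, ca, ha⟩ => ⟨Q.inv_mem haQ, ca ^ (orderOf a - 1), by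
          rw [inv_eq_pow, ← conj_pow, map_pow, ha, smul_pow, map_pow]⟩ }
    rcases lt_or_eq_of_le (show E ≤ Q from fun h hh => hh.1) with hlt | heq
    · have hEinv : ∀ h ∈ E, x * h * x⁻¹ ∈ E := by
        rintro h ⟨hhQ, c, hc⟩
        refine ⟨hx h hhQ, c, ?_⟩
        rw [map_mul, map_mul, hc, mul_smul_comm, smul_mul_assoc, ← map_mul, ← map_mul, hc]
      have hQ'E : ∀ z ∈ ⁅Q, Q⁆, z ∈ E := fun z hz =>
        ⟨hQ'.le hz, 1, by rw [one_smul]; exact hred _ hQ' hQ'inv z hz⟩
      have hEnor : ∀ a ∈ Q, ∀ h ∈ E, a * h * a⁻¹ ∈ E := by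
        intro a ha h hh
        rw [show a * h * a⁻¹ = ⁅a, h⁆ * h by rw [commutatorElement_def]; group]
        exact E.mul_mem (hQ'E _ (Subgroup.commutator_mem_commutator ha hh.1)) hh
      exact ((hscal E hlt hEinv hEnor).resolve_left fun h => hbad (h g₀ hg₀)) g ⟨hg, h1⟩
    · exfalso
      apply hbad
      obtain ⟨-, c, hc⟩ : g₀ ∈ E := heq.symm ▸ hg₀
      have hk : ∀ k : ℕ, ρ (x ^ k * g₀ * (x ^ k)⁻¹) = c ^ k • ρ g₀ := by
        intro k
        induction k with
        | zero => simp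
        | succ k ih =>
          rw [pow_succ' x, show x * x ^ k * g₀ * (x * x ^ k)⁻¹ = x * (x ^ k * g₀ * (x ^ k)⁻¹) * x⁻¹ by group,
            map_mul, map_mul, ih, mul_smul_comm, smul_mul_assoc, ← map_mul, ← map_mul, hc, smul_smul, pow_succ]
      have h1 := hk r
      rw [hxr, one_mul, inv_one, mul_one] at h1
      have hu : ρ g₀ * ρ g₀⁻¹ = 1 := by rw [← map_mul, mul_inv_cancel, map_one]
      have hcr : c ^ r = 1 := by
        have h2 : (1 : Module.End K W) = c ^ r • (1 : Module.End K W) := by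
          have := congrArg (fun f => f * ρ g₀⁻¹) h1
          simpa only [smul_mul_assoc, hu] using this
        simpa using eq_one_of_pow_eq_smul (f := (1 : Module.End K W)) (a := 1) (pow_one _) h2
      obtain ⟨e, he⟩ := hqpow g₀ hg₀
      have hcq : c ^ q ^ e = 1 := by
        have h2 : (1 : Module.End K W) = c ^ q ^ e • (1 : Module.End K W) := by
          have := congrArg (fun f => f ^ q ^ e) hc
          simp only [smul_pow, ← map_pow, conj_pow, he] at this
          simpa using this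
        simpa using eq_one_of_pow_eq_smul (f := (1 : Module.End K W)) (a := 1) (pow_one _) h2
      rw [hc, smul_pow_coprime_eq_one hcr hcq (hcop.pow_right e), one_smul]
  -- counting
  have hnt : ∃ g ∈ Q, ¬ IsScal (ρ g) := by
    by_contra h
    push Not at h
    apply hab
    intro g hg k hk
    obtain ⟨c, hc⟩ := h g hg
    rw [hc]; exact (Commute.one_left _).smul_left c
  have hspan := span_eq_top_of_scalar ρ r hr.pos Q x hx hxr hcomm hcent hirr
  obtain ⟨O, e, hdd, hde, hd2, hF⟩ := free_count ρ r q 1 Q x hQ hx (by rw [pow_one]; exact hxr) hr.pos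
    hspan hcomm hcent hnt hfree
  rw [pow_one] at hdd
  -- eigenvalues
  let T : Module.End K W := ρ x
  have hTr : T ^ r = 1 := by rw [← map_pow, hxr, map_one]
  have hss : T.IsSemisimple := by
    refine Module.End.isSemisimple_of_squarefree_aeval_eq_zero
      (p := Polynomial.X ^ r - Polynomial.C (1 : K))
      (Polynomial.separable_X_pow_sub_C (1 : K) hrK one_ne_zero).squarefree ?_
    simp [hTr]
  let R := (Polynomial.nthRootsFinset r (1 : K)).erase 1
  have hR1 : (1 : K) ∈ Polynomial.nthRootsFinset r (1 : K) := Polynomial.one_mem_nthRootsFinset hr.pos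
  have hRcard : R.card ≤ r - 1 := by
    show ((Polynomial.nthRootsFinset r (1 : K)).erase 1).card ≤ r - 1
    rw [Finset.card_erase_of_mem hR1]
    have : (Polynomial.nthRootsFinset r (1 : K)).card ≤ r := by
      rw [Polynomial.nthRootsFinset_def]
      exact le_trans (Multiset.toFinset_card_le _) (Polynomial.card_nthRoots r 1)
    omega
  have hev : ∀ μ, T.HasEigenvalue μ → μ ∈ R := by
    intro μ hμ
    obtain ⟨v, hv⟩ := hμ.exists_hasEigenvector
    refine Finset.mem_erase.2 ⟨fun h1 => hv.2 (hfpf v (by rw [hv.apply_eq_smul, h1, one_smul])), ?_⟩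
    rw [Polynomial.mem_nthRootsFinset hr.pos]
    have h1 := LinearMap.congr_fun hTr v
    rw [hv.pow_apply, Module.End.one_apply] at h1
    have h2 : (μ ^ r - 1) • v = 0 := by rw [sub_smul, one_smul, h1, sub_self]
    exact sub_eq_zero.1 ((smul_eq_zero.1 h2).resolve_right hv.2)
  have hlow := le_trans (commutant_bound_of_semisimple T hss R hev) (Nat.mul_le_mul_right _ hRcard)
  exact critical_arith hq hq2 hr hd2 hdd hde hF hlow

/-- **BG 3.4, core**: if `x` of prime order fixes no non-zero vector, it centralises the image of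
every odd `q`-group it normalises. -/
theorem image_commute_of_fpf [IsAlgClosed K] [FiniteDimensional K W] (q r : ℕ) [Fact q.Prime] [Fact r.Prime]
    (hq2 : q ≠ 2) (hqr : q ≠ r) (hqK : (q : K) ≠ 0) (hrK : (r : K) ≠ 0) (ρ : Representation K G W)
    (Q : Subgroup G) (x : G) (hQ : IsPGroup q Q) (hx : ∀ g ∈ Q, x * g * x⁻¹ ∈ Q) (hxr : x ^ r = 1)
    (hfpf : ∀ w, ρ x w = w → w = 0) : ∀ g ∈ Q, ρ (x * g * x⁻¹) = ρ g :=
  image_commute_of_fpf_aux q r hq2 hqr hqK hrK _ _ G W ρ Q x rfl rfl hQ hx hxr hfpf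

end CfsgLib.Solvable.PrimeAction
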