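import Mathlib
import Cfsg.Prelude.Def_OddOrderLocal
import Cfsg.Agent.Lib.Solvable.PrimeActionLinear
import Cfsg.Agent.Lib.Solvable.CoprimeAction
import Cfsg.Agent.Lib.OddOrder.OmegaFix
import Cfsg.Agent.Lib.OddOrder.RankTwo

/-!
BG 3.4 core for groups: an element `x` of prime order `r` normalising an odd `q`-group `Q`, both
acting on a nilpotent group `M` of order prime to `q * r`, with `C_M(x) = 1`: then `[Q, x]`
centralises `M`.
-/

set_option autoImplicit false
set_option linter.style.haveILetI false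

namespace CfsgLib.Solvable.PrimeAction

open Subgroup

universe u v w

variable {G : Type u} [Group G] [Finite G]

/-- `image_commute_of_fpf` over an arbitrary field. -/
theorem image_commute_of_fpf_field {K : Type w} [Field K] {W : Type v} [AddCommGroup W] [Module K W]
    [FiniteDimensional K W] (q r : ℕ) [Fact q.Prime] [Fact r.Prime]
    (hq2 : q ≠ 2) (hqr : q ≠ r) (hqK : (q : K) ≠ 0) (hrK : (r : K) ≠ 0) (ρ : Representation K G W)
    (Q : Subgroup G) (x : G) (hQ : IsPGroup q Q) (hx : ∀ g ∈ Q, x * g * x⁻¹ ∈ Q) (hxr : x ^ r = 1)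
    (hfpf : ∀ w, ρ x w = w → w = 0) : ∀ g ∈ Q, ρ (x * g * x⁻¹) = ρ g := by
  classical
  let L := AlgebraicClosure K
  let b := Module.finBasis K W
  let φ : Module.End K W →* Module.End L (Fin (Module.finrank K W) → L) :=
    (Matrix.toLinAlgEquiv' (R := L)).toMulEquiv.toMonoidHom.comp
      (((algebraMap K L).mapMatrix).toMonoidHom.comp (LinearMap.toMatrixAlgEquiv b).toMulEquiv.toMonoidHom)
  let ρ' : Representation L G (Fin (Module.finrank K W) → L) := φ.comp ρ
  have hmapne : ∀ n : ℕ, (n : K) ≠ 0 → (n : L) ≠ 0 := fun n hn h => hn ((algebraMap K L).injective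
    (by rw [map_natCast, map_zero, h]))
  have hinj : Function.Injective φ := by
    intro f g h
    exact (LinearMap.toMatrixAlgEquiv b).injective
      (Matrix.map_injective (algebraMap K L).injective ((Matrix.toLinAlgEquiv' (R := L)).injective h))
  have hdet : (LinearMap.toMatrixAlgEquiv b (ρ x - 1)).det ≠ 0 := by
    intro h
    obtain ⟨v, hv, hv0⟩ := Matrix.exists_mulVec_eq_zero_iff.2 h
    apply hv
    have h1 : (ρ x - 1 : Module.End K W) (b.equivFun.symm v) = 0 := by
      apply b.equivFun.injective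
      rw [map_zero, ← hv0]
      have := LinearMap.toMatrix_mulVec_repr b b (ρ x - 1) (b.equivFun.symm v)
      have e : ⇑(b.repr (b.equivFun.symm v)) = v := b.equivFun.apply_symm_apply v
      rw [e] at this
      exact this.symm
    have h2 := congrArg b.equivFun (hfpf _ (sub_eq_zero.1 h1))
    rwa [LinearEquiv.apply_symm_apply, map_zero] at h2
  have hfpf' : ∀ w, ρ' x w = w → w = 0 := by
    intro w hw
    by_contra hw0
    apply hdet
    have h1 : ((algebraMap K L).mapMatrix (LinearMap.toMatrixAlgEquiv b (ρ x - 1))).det = 0 := by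
      refine Matrix.exists_mulVec_eq_zero_iff.1 ⟨w, hw0, ?_⟩
      rw [map_sub, map_one, map_sub, map_one, Matrix.sub_mulVec, Matrix.one_mulVec, sub_eq_zero]
      exact hw
    rw [← RingHom.map_det] at h1
    exact (algebraMap K L).injective (by rw [h1, map_zero])
  intro g hg
  exact hinj (image_commute_of_fpf q r hq2 hqr (hmapne _ hqK) (hmapne _ hrK) ρ' Q x hQ hx hxr hfpf' g hg)

/-- On a module over the prime field. -/
theorem end_commute_of_fpf {q r s : ℕ} [Fact q.Prime] [Fact r.Prime] [Fact s.Prime]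
    (hq2 : q ≠ 2) (hqr : q ≠ r) (hqs : q ≠ s) (hrs : r ≠ s) {A : Type v} [AddCommGroup A] [Finite A]
    [Module (ZMod s) A] (σ : G →* AddMonoid.End A) {Q : Subgroup G} {x : G} (hQ : IsPGroup q Q)
    (hx : ∀ g ∈ Q, x * g * x⁻¹ ∈ Q) (hxr : x ^ r = 1) (hfpf : ∀ a, σ x a = a → a = 0) :
    ∀ g ∈ Q, σ (g⁻¹ * (x * g * x⁻¹)) = 1 := by
  let ρ : Representation (ZMod s) G A := (PLocal.zmodEndHom s A).toMonoidHom.comp σ
  haveI : Module.Finite (ZMod s) A := Module.Finite.of_finite
  have hne : ∀ n : ℕ, n.Prime → n ≠ s → (n : ZMod s) ≠ 0 := fun n hn hns h => hns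
    ((Nat.prime_dvd_prime_iff_eq (Fact.out : s.Prime) hn).1 ((ZMod.natCast_eq_zero_iff _ _).1 h)).symm
  have key := image_commute_of_fpf_field q r hq2 hqr (hne q Fact.out hqs) (hne r Fact.out hrs) ρ Q x
    hQ hx hxr hfpf
  intro g hg
  have h : ρ (g⁻¹ * (x * g * x⁻¹)) = 1 := by rw [map_mul, key g hg, ← map_mul, inv_mul_cancel, map_one]
  exact AddMonoidHom.ext fun a => LinearMap.congr_fun h a

/-- On a normal elementary abelian subgroup. -/
theorem commute_of_fpf_elementary {q r s : ℕ} [Fact q.Prime] [Fact r.Prime] [Fact s.Prime]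
    (hq2 : q ≠ 2) (hqr : q ≠ r) (hqs : q ≠ s) (hrs : r ≠ s) {V : Subgroup G} [V.Normal]
    (hV : Cfsg.IsElementaryAbelian s V) {Q : Subgroup G} {x : G} (hQ : IsPGroup q Q)
    (hx : ∀ g ∈ Q, x * g * x⁻¹ ∈ Q) (hxr : x ^ r = 1)
    (hfpf : ∀ v ∈ V, x * v * x⁻¹ = v → v = 1) :
    ∀ g ∈ Q, ∀ v ∈ V, (g⁻¹ * (x * g * x⁻¹)) * v * (g⁻¹ * (x * g * x⁻¹))⁻¹ = v := by
  classical
  letI : CommGroup V := { (inferInstance : Group V) with
    mul_comm := fun a b => Subtype.ext (PLocal.commute_of_mem_comm hV.1 a.2 b.2).eq }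
  letI : Module (ZMod s) (Additive V) := AddCommGroup.zmodModule fun a => by
    apply Additive.toMul.injective
    exact Subtype.ext (hV.2 _ (Additive.toMul a).2)
  let σ : G →* AddMonoid.End (Additive V) :=
    { toFun := fun h => MonoidHom.toAdditive (MulAut.conjNormal (H := V) h).toMonoidHom
      map_one' := by
        refine AddMonoidHom.ext fun a => ?_
        show Additive.ofMul (MulAut.conjNormal (H := V) 1 (Additive.toMul a)) = a
        rw [map_one]; rfl
      map_mul' := fun h k => by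
        refine AddMonoidHom.ext fun a => ?_
        show Additive.ofMul (MulAut.conjNormal (H := V) (h * k) (Additive.toMul a)) = _
        rw [map_mul]; rfl }
  have hσ : ∀ (h : G) (a : Additive V), ((Additive.toMul (σ h a) : V) : G) = h * ((Additive.toMul a : V) : G) * h⁻¹ :=
    fun h a => MulAut.conjNormal_apply h _
  haveI : Finite (Additive V) := inferInstanceAs (Finite V)
  have key := end_commute_of_fpf (s := s) hq2 hqr hqs hrs σ hQ hx hxr (fun a ha => by
    apply Additive.toMul.injective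
    refine Subtype.ext (hfpf _ (Additive.toMul a).2 ?_)
    rw [← hσ, ha])
  intro g hg v hv
  have := hσ (g⁻¹ * (x * g * x⁻¹)) (Additive.ofMul ⟨v, hv⟩)
  rw [key g hg] at this
  exact this.symm

/-- On a normal `s`-subgroup. -/
theorem commute_of_fpf_normal {q r s : ℕ} [Fact q.Prime] [Fact r.Prime] [Fact s.Prime]
    (hq2 : q ≠ 2) (hqr : q ≠ r) (hqs : q ≠ s) (hrs : r ≠ s) {M : Subgroup G} [M.Normal] (hM : IsPGroup s M)
    {Q : Subgroup G} {x : G} (hQ : IsPGroup q Q) (hx : ∀ g ∈ Q, x * g * x⁻¹ ∈ Q) (hxr : x ^ r = 1)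
    (hfix : M ⊓ centralizer ({x} : Set G) = ⊥) :
    ∀ g ∈ Q, g⁻¹ * (x * g * x⁻¹) ∈ centralizer (M : Set G) := by
  classical
  set D := (frattini M).map M.subtype with hD
  haveI : D.Normal := ⟨fun d hd g => by
    obtain ⟨d', hd', rfl⟩ := hd
    exact ⟨MulAut.conjNormal (H := M) g d',
      (Subgroup.characteristic_iff_map_eq.1 (frattini_characteristic (G := M)) (MulAut.conjNormal (H := M) g)).le
        (Subgroup.mem_map_of_mem _ hd'), MulAut.conjNormal_apply g d'⟩⟩
  set f := QuotientGroup.mk' D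
  set V := M.map f with hVdef
  haveI : V.Normal := Subgroup.Normal.map inferInstance f (QuotientGroup.mk'_surjective D)
  have hcz : (Nat.card (zpowers x)).Coprime (Nat.card M) := by
    obtain ⟨j, hj⟩ := IsPGroup.iff_card.1 hM
    rw [Nat.card_zpowers, hj]
    exact Nat.Coprime.pow_right _ (((Nat.coprime_primes (Fact.out : r.Prime) (Fact.out : s.Prime)).2 hrs).coprime_dvd_left
      (orderOf_dvd_of_pow_eq_one hxr))
  have hV : Cfsg.IsElementaryAbelian s V := by
    refine ⟨⟨⟨fun a b => Subtype.ext ?_⟩⟩, fun v hv => ?_⟩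
    · obtain ⟨a', ha, ea⟩ := a.2
      obtain ⟨b', hb, eb⟩ := b.2
      show (a : G ⧸ D) * b = b * a
      rw [← ea, ← eb, ← map_mul, ← map_mul]
      refine (QuotientGroup.eq).2 ?_
      have := CfsgLib.OddOrder.commutator_le_frattini_of_isPGroup hM
        (Subgroup.commutator_mem_commutator (Subgroup.mem_top (⟨b', hb⟩ : M)⁻¹) (Subgroup.mem_top (⟨a', ha⟩ : M)⁻¹))
      refine ⟨_, this, ?_⟩
      simp [commutatorElement_def, mul_assoc]
    · obtain ⟨v', hv', rfl⟩ := hv
      rw [← map_pow]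
      exact (QuotientGroup.eq_one_iff _).2
        ⟨_, CfsgLib.OddOrder.pow_mem_frattini_of_isPGroup hM ⟨v', hv'⟩, rfl⟩
  have hfpf : ∀ v ∈ V, f x * v * (f x)⁻¹ = v → v = 1 := by
    rintro _ ⟨k, hk, rfl⟩ he
    have hkx : ∀ a ∈ zpowers x, a * k * a⁻¹ * k⁻¹ ∈ D := by
      intro a ha
      obtain ⟨n, rfl⟩ := Subgroup.mem_zpowers_iff.1 ha
      have hc : Commute (f x) (f k) := by
        show f x * f k = f k * f x
        rw [← mul_inv_eq_iff_eq_mul]; exact he
      have hc' : Commute (f (x ^ n)) (f k) := by rw [map_zpow]; exact hc.zpow_left n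
      refine (QuotientGroup.eq_one_iff _).1 ?_
      show f (x ^ n * k * (x ^ n)⁻¹ * k⁻¹) = 1
      simp only [map_mul, map_inv]
      rw [hc'.eq]; group
    obtain ⟨c, hc, hcD⟩ := exists_fixed_of_fixed_mod
      (A := zpowers x) (K := M) (N := D) (by rw [normalizer_eq_top M]; exact le_top) hcz
      (Or.inl inferInstance) (map_subtype_le _) (by rw [normalizer_eq_top D]; exact le_top)
      (by rw [normalizer_eq_top D]; exact le_top) hk hkx
    have hc1 : c ∈ M ⊓ centralizer ({x} : Set G) := ⟨hc.1, mem_centralizer_singleton_iff.2 ((hc.2 x (mem_zpowers x)).symm)⟩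
    rw [hfix, mem_bot] at hc1
    rw [hc1, mul_one] at hcD
    exact (QuotientGroup.eq_one_iff k).2 (by simpa using D.inv_mem hcD)
  have key := commute_of_fpf_elementary hq2 hqr hqs hrs hV (hQ.map f) (x := f x)
    (by rintro _ ⟨g, hg, rfl⟩; exact ⟨x * g * x⁻¹, hx g hg, by simp⟩)
    (by rw [← map_pow, hxr, map_one]) hfpf
  intro g hg
  set t := g⁻¹ * (x * g * x⁻¹) with ht
  have hcop : (Nat.card (zpowers t)).Coprime (Nat.card (frattini M)) := by
    obtain ⟨i, hi⟩ := IsPGroup.iff_card.1 (hQ.to_le (H := zpowers t) (zpowers_le.2 (Q.mul_mem (Q.inv_mem hg) (hx g hg))))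
    obtain ⟨j, hj⟩ := IsPGroup.iff_card.1 (hM.to_subgroup (frattini M))
    rw [hi, hj]
    exact Nat.Coprime.pow i j ((Nat.coprime_primes Fact.out Fact.out).2 hqs)
  refine le_centralizer_of_trivial_on_frattini_quotient hcop ?_ (mem_zpowers t)
  intro a ha k hk
  obtain ⟨n, rfl⟩ := Subgroup.mem_zpowers_iff.1 ha
  have hc : Commute (f t) (f k) := by
    show f t * f k = f k * f t
    rw [← mul_inv_eq_iff_eq_mul]
    have := key (f g) ⟨g, hg, rfl⟩ (f k) ⟨k, hk, rfl⟩
    simpa [ht] using this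
  refine (QuotientGroup.eq_one_iff _).1 ?_
  show f (t ^ n * k * (t ^ n)⁻¹ * k⁻¹) = 1
  have hc' : Commute (f (t ^ n)) (f k) := by rw [map_zpow]; exact hc.zpow_left n
  simp only [map_mul, map_inv]
  rw [hc'.eq]; group

/-- **BG 3.4, core.** If `x` of prime order `r` normalises the odd `q`-group `Q`, both normalise the
`s`-group `M` with `s ≠ q, r`, and `C_M(x) = 1`, then every `g⁻¹ g^x` centralises `M`. -/
theorem commute_of_fpf_pgroup {q r s : ℕ} [Fact q.Prime] [Fact r.Prime] [Fact s.Prime]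
    (hq2 : q ≠ 2) (hqr : q ≠ r) (hqs : q ≠ s) (hrs : r ≠ s) {M Q : Subgroup G} (hM : IsPGroup s M) {x : G}
    (hQ : IsPGroup q Q) (hx : ∀ g ∈ Q, x * g * x⁻¹ ∈ Q) (hxr : x ^ r = 1)
    (hQM : Q ≤ normalizer (M : Set G)) (hxM : x ∈ normalizer (M : Set G))
    (hfix : M ⊓ centralizer ({x} : Set G) = ⊥) :
    ∀ g ∈ Q, g⁻¹ * (x * g * x⁻¹) ∈ centralizer (M : Set G) := by
  set Y := normalizer (M : Set G)
  haveI : (M.subgroupOf Y).Normal := normal_subgroupOf_of_le_normalizer le_rfl
  intro g hg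
  have := commute_of_fpf_normal (G := Y) hq2 hqr hqs hrs
    (M := M.subgroupOf Y) (hM.of_equiv (subgroupOfEquivOfLe le_normalizer).symm)
    (Q := Q.subgroupOf Y) (x := ⟨x, hxM⟩) (hQ.of_equiv (subgroupOfEquivOfLe hQM).symm)
    (fun h hh => hx _ hh) (Subtype.ext hxr)
    (by
      rw [eq_bot_iff]
      rintro m ⟨hm, hmx⟩
      rw [mem_bot]
      refine Subtype.ext ?_
      have h1 : (m : G) ∈ M ⊓ centralizer ({x} : Set G) :=
        ⟨hm, mem_centralizer_singleton_iff.2 (congrArg Subtype.val (mem_centralizer_singleton_iff.1 hmx))⟩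
      rwa [hfix, mem_bot] at h1)
    ⟨g, hQM hg⟩ hg
  intro m hm
  exact congrArg Subtype.val (this ⟨m, le_normalizer hm⟩ hm)

omit [Finite G] in
/-- The normalizer of `K` normalizes the image of a characteristic subgroup of `K`. -/
theorem le_normalizer_map_char (K : Subgroup G) (C : Subgroup K) [hC : C.Characteristic] :
    normalizer (K : Set G) ≤ normalizer ((C.map K.subtype : Subgroup G) : Set G) := by
  have key : ∀ g ∈ normalizer (K : Set G), ∀ y ∈ C.map K.subtype, g * y * g⁻¹ ∈ C.map K.subtype := by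
    rintro g hg y ⟨c, hc, rfl⟩
    refine ⟨K.normalizerMonoidHom ⟨g, hg⟩ c, ?_, rfl⟩
    rw [← hC.fixed (K.normalizerMonoidHom ⟨g, hg⟩)] at hc
    exact hc
  intro g hg
  rw [mem_normalizer_iff]
  refine fun y => ⟨key g hg y, fun hy => ?_⟩
  have := key g⁻¹ (inv_mem hg) _ hy
  simpa [mul_assoc] using this

/-- The same for a nilpotent `M` of order prime to `q * r`. -/
theorem commute_of_fpf_nilpotent {q r : ℕ} [Fact q.Prime] [Fact r.Prime]
    (hq2 : q ≠ 2) (hqr : q ≠ r) {M Q : Subgroup G} (hM : Group.IsNilpotent M)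
    (hMq : (Nat.card M).Coprime q) (hMr : (Nat.card M).Coprime r) {x : G}
    (hQ : IsPGroup q Q) (hx : ∀ g ∈ Q, x * g * x⁻¹ ∈ Q) (hxr : x ^ r = 1)
    (hQM : Q ≤ normalizer (M : Set G)) (hxM : x ∈ normalizer (M : Set G))
    (hfix : M ⊓ centralizer ({x} : Set G) = ⊥) :
    ∀ g ∈ Q, g⁻¹ * (x * g * x⁻¹) ∈ centralizer (M : Set G) := by
  intro g hg
  set t := g⁻¹ * (x * g * x⁻¹)
  haveI := hM
  suffices h : (centralizer ({t} : Set G)).subgroupOf M = ⊤ by
    intro m hm
    have : (⟨m, hm⟩ : M) ∈ (centralizer ({t} : Set G)).subgroupOf M := h ▸ mem_top _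
    exact mem_centralizer_singleton_iff.1 (mem_subgroupOf.1 this)
  refine Subgroup.eq_top_of_le_card _ (Nat.le_of_dvd Nat.card_pos ?_)
  rw [Nat.dvd_iff_prime_pow_dvd_dvd]
  intro s k hsp hk
  rcases Nat.eq_zero_or_pos k with rfl | hk0
  · simp
  haveI : Fact s.Prime := ⟨hsp⟩
  obtain ⟨P⟩ : Nonempty (Sylow s M) := inferInstance
  haveI : (P : Subgroup M).Normal := inferInstance
  haveI : (P : Subgroup M).Characteristic := Sylow.characteristic_of_normal P inferInstance
  set P' := (P : Subgroup M).map M.subtype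
  have hsM : s ∣ Nat.card M := (dvd_pow_self s hk0.ne').trans hk
  have hqs : q ≠ s := fun h => (Fact.out : q.Prime).not_dvd_one
    (hMq ▸ Nat.dvd_gcd (h ▸ hsM) dvd_rfl)
  have hrs : r ≠ s := fun h => (Fact.out : r.Prime).not_dvd_one
    (hMr ▸ Nat.dvd_gcd (h ▸ hsM) dvd_rfl)
  have hN : normalizer (M : Set G) ≤ normalizer (P' : Set G) :=
    le_normalizer_map_char M P
  have hc := commute_of_fpf_pgroup hq2 hqr hqs hrs (P.isPGroup'.map M.subtype) hQ hx hxr
    (hQM.trans hN) (hN hxM)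
    (eq_bot_iff.2 (le_trans (inf_le_inf_right _ (map_subtype_le _)) hfix.le)) g hg
  refine (P.pow_dvd_card_of_pow_dvd_card hk).trans (Subgroup.card_dvd_of_le ?_)
  intro m hm
  exact mem_subgroupOf.2 (mem_centralizer_singleton_iff.2 (hc _ (mem_map_of_mem M.subtype hm)))

end CfsgLib.Solvable.PrimeAction
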