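import Cfsg.Agent.Lib.Solvable.PrimeActionCore
import Cfsg.Agent.Lib.Solvable.CoprimeAbelian
import Cfsg.Agent.Lib.OddOrder.Tau13Unique
import Cfsg.Agent.Lib.OddOrder.PLengthCommutator

/-!
A Frobenius type action on a solvable group with `C_V(x) ≤ C_V(Q)`: `[Q, x]` centralises `V`.
-/

set_option autoImplicit false
set_option linter.style.haveILetI false

open scoped commutatorElement Pointwise

namespace CfsgLib.Solvable.PrimeAction

open Subgroup

universe u

variable {G : Type u} [Group G] [Finite G]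

/-- On a normal `s`-subgroup `M`: `C_M(x) ≤ C(Q)` makes `[Q, x]` centralise `M`. -/
theorem commute_of_fixed_le_normal {q r s : ℕ} [Fact q.Prime] [Fact r.Prime] [hs : Fact s.Prime]
    (hq2 : q ≠ 2) (hqr : q ≠ r) (hqs : q ≠ s) (hrs : r ≠ s) {M : Subgroup G} [M.Normal]
    (hM : IsPGroup s M) {Q : Subgroup G} {x : G} (hQ : IsPGroup q Q)
    (hx : ∀ g ∈ Q, x * g * x⁻¹ ∈ Q) (hxr : x ^ r = 1)
    (hfix : M ⊓ centralizer ({x} : Set G) ≤ centralizer (Q : Set G)) :
    ∀ g ∈ Q, g⁻¹ * (x * g * x⁻¹) ∈ centralizer (M : Set G) := by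
  classical
  set D := (frattini M).map M.subtype with hD
  haveI : D.Normal := ⟨fun d hd g => by
    obtain ⟨d', hd', rfl⟩ := hd
    exact ⟨MulAut.conjNormal (H := M) g d',
      (Subgroup.characteristic_iff_map_eq.1 (frattini_characteristic (G := M))
        (MulAut.conjNormal (H := M) g)).le (Subgroup.mem_map_of_mem _ hd'),
      MulAut.conjNormal_apply g d'⟩⟩
  set f := QuotientGroup.mk' D
  set V := M.map f with hVdef
  haveI : V.Normal := Subgroup.Normal.map inferInstance f (QuotientGroup.mk'_surjective D)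
  haveI hVc : IsMulCommutative V := by
    refine ⟨⟨fun a b => Subtype.ext ?_⟩⟩
    obtain ⟨a', ha, ea⟩ := a.2
    obtain ⟨b', hb, eb⟩ := b.2
    show (a : G ⧸ D) * b = b * a
    rw [← ea, ← eb, ← map_mul, ← map_mul]
    refine (QuotientGroup.eq).2 ⟨_, CfsgLib.OddOrder.commutator_le_frattini_of_isPGroup hM
      (Subgroup.commutator_mem_commutator (Subgroup.mem_top (⟨b', hb⟩ : M)⁻¹)
        (Subgroup.mem_top (⟨a', ha⟩ : M)⁻¹)), ?_⟩
    simp [commutatorElement_def, mul_assoc]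
  have hVs : IsPGroup s V := hM.map f
  have hQf : IsPGroup q (Q.map f) := hQ.map f
  have hQV : Q.map f ≤ normalizer (V : Set (G ⧸ D)) := by
    rw [normalizer_eq_top V]; exact le_top
  have hsne : ∀ t : ℕ, t.Prime → t ≠ s → ∀ {K : Subgroup (G ⧸ D)}, IsPGroup s K →
      (Nat.card K).Coprime t := fun t ht hts {K} hK => by
    obtain ⟨j, hj⟩ := hK.exists_card_eq
    rw [hj]
    exact ((Nat.coprime_primes hs.out ht).2 fun h => hts h.symm).pow_left j
  have hcQV : (Nat.card ↥(Q.map f)).Coprime (Nat.card V) := by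
    obtain ⟨i, hi⟩ := hQf.exists_card_eq
    rw [hi]
    exact (hsne q Fact.out hqs hVs).symm.pow_left i
  set W := ⁅V, Q.map f⁆ with hW
  have hWV : W ≤ V := commutator_le_of_normalizes hQV
  have hWc : IsMulCommutative W :=
    ⟨⟨fun a b => Subtype.ext (setLike_mul_comm (hWV a.2) (hWV b.2))⟩⟩
  have hxQ : f x ∈ normalizer ((Q.map f : Subgroup (G ⧸ D)) : Set (G ⧸ D)) := by
    refine CfsgLib.OddOrder.mem_normalizer_of_map_le ?_
    rintro _ ⟨_, ⟨g, hg, rfl⟩, rfl⟩
    exact ⟨x * g * x⁻¹, hx g hg, by simp⟩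
  have hxW : f x ∈ normalizer (W : Set (G ⧸ D)) := by
    refine CfsgLib.OddOrder.mem_normalizer_of_map_le ?_
    have hxV : f x ∈ normalizer (V : Set (G ⧸ D)) := by rw [normalizer_eq_top V]; exact mem_top _
    rw [mem_normalizer_iff_map_conj_eq] at hxQ hxV
    simp only [MulEquiv.toMonoidHom_eq_coe] at hxQ hxV ⊢
    rw [hW, map_commutator, hxV, hxQ]
  have hfpf : W ⊓ centralizer ({f x} : Set (G ⧸ D)) = ⊥ := by
    rw [eq_bot_iff, ← centralizer_inf_commutator_eq_bot hQV hcQV, ← hW]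
    rintro v ⟨hv, hvx⟩
    refine ⟨⟨hWV hv, ?_⟩, hv⟩
    obtain ⟨k, hk, rfl⟩ := hWV hv
    obtain ⟨c, hc, hcD⟩ := exists_fixed_of_fixed_mod (A := zpowers x) (K := M) (N := D)
      (by rw [normalizer_eq_top M]; exact le_top)
      (by
        obtain ⟨j, hj⟩ := IsPGroup.iff_card.1 hM
        rw [Nat.card_zpowers, hj]
        exact Nat.Coprime.pow_right _ (((Nat.coprime_primes (Fact.out : r.Prime) hs.out).2
          hrs).coprime_dvd_left (orderOf_dvd_of_pow_eq_one hxr)))
      (Or.inl inferInstance) (map_subtype_le _) (by rw [normalizer_eq_top D]; exact le_top)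
      (by rw [normalizer_eq_top D]; exact le_top) hk (by
        intro a ha
        obtain ⟨n, rfl⟩ := Subgroup.mem_zpowers_iff.1 ha
        refine (QuotientGroup.eq_one_iff _).1 ?_
        show f (x ^ n * k * (x ^ n)⁻¹ * k⁻¹) = 1
        simp only [map_mul, map_inv, map_zpow]
        rw [((show Commute (f x) (f k) from
          (mem_centralizer_singleton_iff.1 hvx).symm).zpow_left n).eq]
        group)
    have hfc : f k = f c := QuotientGroup.eq.2 hcD
    rw [hfc]
    rintro _ ⟨g, hg, rfl⟩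
    rw [← map_mul, ← map_mul,
      hfix ⟨hc.1, mem_centralizer_singleton_iff.2 (hc.2 x (mem_zpowers x)).symm⟩ g hg]
  have key := commute_of_fpf_nilpotent hq2 hqr (M := W) ((hVs.to_le hWV).isNilpotent)
    (hsne q Fact.out hqs (hVs.to_le hWV)) (hsne r Fact.out hrs (hVs.to_le hWV)) (x := f x) hQf
    (by rintro _ ⟨g, hg, rfl⟩; exact ⟨x * g * x⁻¹, hx g hg, by simp⟩)
    (by rw [← map_pow, hxr, map_one]) (le_normalizer_commutator_right V (Q.map f)) hxW hfpf
  intro g hg
  set t := g⁻¹ * (x * g * x⁻¹) with ht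
  have htQ : t ∈ Q := Q.mul_mem (Q.inv_mem hg) (hx g hg)
  have hcop : (Nat.card (zpowers t)).Coprime (Nat.card (frattini M)) := by
    obtain ⟨i, hi⟩ := IsPGroup.iff_card.1 (hQ.to_le (H := zpowers t) (zpowers_le.2 htQ))
    obtain ⟨j, hj⟩ := IsPGroup.iff_card.1 (hM.to_subgroup (frattini M))
    rw [hi, hj]
    exact Nat.Coprime.pow i j ((Nat.coprime_primes Fact.out hs.out).2 hqs)
  have htV : f t ∈ centralizer (V : Set (G ⧸ D)) := by
    have h1 : (V ⊓ centralizer ((Q.map f : Subgroup (G ⧸ D)) : Set (G ⧸ D))) ⊔ W ≤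
        centralizer ({f t} : Set (G ⧸ D)) := by
      refine sup_le (fun v hv => mem_centralizer_singleton_iff.2
        (hv.2 (f t) (mem_map_of_mem f htQ)).symm) fun w hw => mem_centralizer_singleton_iff.2 ?_
      have := key (f g) (mem_map_of_mem f hg) w hw
      rwa [← map_inv, ← map_inv, ← map_mul, ← map_mul, ← map_mul, ← ht] at this
    rw [hW, centralizer_sup_commutator_eq hQV hcQV] at h1
    exact fun v hv => mem_centralizer_singleton_iff.1 (h1 hv)
  refine le_centralizer_of_trivial_on_frattini_quotient hcop ?_ (mem_zpowers t)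
  intro a ha k hk
  obtain ⟨n, rfl⟩ := Subgroup.mem_zpowers_iff.1 ha
  have hc : Commute (f t) (f k) := (htV (f k) ⟨k, hk, rfl⟩).symm
  refine (QuotientGroup.eq_one_iff _).1 ?_
  show f (t ^ n * k * (t ^ n)⁻¹ * k⁻¹) = 1
  simp only [map_mul, map_inv, map_zpow]
  rw [(hc.zpow_left n).eq]
  group

/-- On an invariant `s`-subgroup. -/
theorem commute_of_fixed_le_pgroup {q r s : ℕ} [Fact q.Prime] [Fact r.Prime] [Fact s.Prime]
    (hq2 : q ≠ 2) (hqr : q ≠ r) (hqs : q ≠ s) (hrs : r ≠ s) {M Q : Subgroup G} (hM : IsPGroup s M)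
    {x : G} (hQ : IsPGroup q Q) (hx : ∀ g ∈ Q, x * g * x⁻¹ ∈ Q) (hxr : x ^ r = 1)
    (hQM : Q ≤ normalizer (M : Set G)) (hxM : x ∈ normalizer (M : Set G))
    (hfix : M ⊓ centralizer ({x} : Set G) ≤ centralizer (Q : Set G)) :
    ∀ g ∈ Q, g⁻¹ * (x * g * x⁻¹) ∈ centralizer (M : Set G) := by
  set Y := normalizer (M : Set G)
  haveI : (M.subgroupOf Y).Normal := normal_subgroupOf_of_le_normalizer le_rfl
  intro g hg
  have := commute_of_fixed_le_normal (G := Y) hq2 hqr hqs hrs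
    (M := M.subgroupOf Y) (hM.of_equiv (subgroupOfEquivOfLe le_normalizer).symm)
    (Q := Q.subgroupOf Y) (x := ⟨x, hxM⟩) (hQ.of_equiv (subgroupOfEquivOfLe hQM).symm)
    (fun h hh => hx _ hh) (Subtype.ext hxr)
    (by
      rintro m ⟨hm, hmx⟩ a ha
      exact Subtype.ext (hfix ⟨hm, mem_centralizer_singleton_iff.2
        (congrArg Subtype.val (mem_centralizer_singleton_iff.1 hmx))⟩ a ha))
    ⟨g, hQM hg⟩ hg
  intro m hm
  exact congrArg Subtype.val (this ⟨m, le_normalizer hm⟩ hm)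

/-- On a solvable `V` of order prime to `q * r`. -/
theorem commute_of_fixed_le {q r : ℕ} [hq : Fact q.Prime] [hr : Fact r.Prime]
    (hq2 : q ≠ 2) (hqr : q ≠ r) {V Q : Subgroup G} (hV : Group.IsSolvable V)
    (hVq : (Nat.card V).Coprime q) (hVr : (Nat.card V).Coprime r) {x : G}
    (hQ : IsPGroup q Q) (hx : ∀ g ∈ Q, x * g * x⁻¹ ∈ Q) (hxr : x ^ r = 1)
    (hQV : Q ≤ normalizer (V : Set G)) (hxV : x ∈ normalizer (V : Set G))
    (hfix : V ⊓ centralizer ({x} : Set G) ≤ centralizer (Q : Set G)) :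
    ∀ g ∈ Q, g⁻¹ * (x * g * x⁻¹) ∈ centralizer (V : Set G) := by
  intro g hg
  set A := Q ⊔ zpowers x with hA
  have hxQ : zpowers x ≤ normalizer (Q : Set G) := zpowers_le.2
    (CfsgLib.OddOrder.mem_normalizer_of_map_le (by rintro _ ⟨a, ha, rfl⟩; exact hx a ha))
  have hAV : A ≤ normalizer (V : Set G) := sup_le hQV (zpowers_le.2 hxV)
  have hcop : (Nat.card A).Coprime (Nat.card V) := by
    obtain ⟨n, hn⟩ := hQ.exists_card_eq
    refine Nat.Coprime.coprime_dvd_left (CfsgLib.OddOrder.card_sup_dvd_mul_of_le_normalizer hxQ) ?_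
    rw [hn, Nat.card_zpowers]
    exact (hVq.symm.pow_left n).mul_left
      (hVr.symm.coprime_dvd_left (orderOf_dvd_of_pow_eq_one hxr))
  refine le_centralizer_iff.1 ?_ (mem_zpowers (g⁻¹ * (x * g * x⁻¹)))
  refine CfsgLib.OddOrder.le_of_sylows_le fun s hs hsV => ?_
  haveI := Fact.mk hs
  obtain ⟨S, hS⟩ := exists_invariant_sylow hAV hcop (Or.inr hV) s
  refine ⟨S, le_centralizer_iff.1 (zpowers_le.2 ?_)⟩
  have hne : ∀ t : ℕ, t.Prime → (Nat.card V).Coprime t → t ≠ s := fun t _ htV e =>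
    hs.not_dvd_one (htV ▸ Nat.dvd_gcd hsV (dvd_of_eq e.symm))
  exact commute_of_fixed_le_pgroup hq2 hqr (hne q hq.out hVq) (hne r hr.out hVr) (S.2.map _) hQ hx
    hxr (le_sup_left.trans hS) ((le_sup_right.trans hS) (mem_zpowers x))
    ((inf_le_inf_right _ (map_subtype_le _)).trans hfix) g hg

end CfsgLib.Solvable.PrimeAction
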