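import Cfsg.Agent.Lib.PGroup.CyclicMaximal
import Cfsg.Agent.Lib.Solvable.CoprimeGeneration
import Mathlib.GroupTheory.SpecificGroups.Quaternion
import Mathlib.Tactic.Ring

/-!
A finite 2-group with a unique involution is cyclic or generalised quaternion.
-/

set_option autoImplicit false
open Subgroup

namespace CfsgLib.Solvable

/-- A group generated by a cyclic subgroup of order `2n` and an element inverting it with square
the involution of that subgroup is a (generalised) quaternion group. -/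
theorem nonempty_mulEquiv_quaternionGroup {G : Type*} [Group G] [Finite G] {n : ℕ} [NeZero n]
    (a x : G) (ha : orderOf a = 2 * n) (hxa : x * a * x⁻¹ = a⁻¹) (hx : x ^ 2 = a ^ n)
    (hxA : x ∉ zpowers a) (hidx : (zpowers a).index = 2) :
    Nonempty (G ≃* QuaternionGroup n) := by
  have key : ∀ u v : ℤ, (u : ZMod (2 * n)) = v → a ^ u = a ^ v := by
    intro u v h
    rw [← orderOf_dvd_sub_iff_zpow_eq_zpow, ha]
    exact (ZMod.intCast_eq_intCast_iff_dvd_sub u v (2 * n)).mp h |> fun h => by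
      have := dvd_neg.mpr h; simpa using this
  let f : QuaternionGroup n → G := fun q => match q with
    | .a i => a ^ (i.val : ℤ)
    | .xa i => x * a ^ (i.val : ℤ)
  have hmul : ∀ i j : ZMod (2 * n), a ^ ((i + j).val : ℤ) = a ^ (i.val : ℤ) * a ^ (j.val : ℤ) := by
    intro i j
    rw [← zpow_add]
    exact key _ _ (by simp)
  have hcomm : ∀ k : ℤ, a ^ k * x = x * a ^ (-k) := by
    intro k
    have h : x * a ^ (-k) * x⁻¹ = a ^ k := by
      rw [← conj_zpow, hxa, inv_zpow, zpow_neg, inv_inv]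
    calc a ^ k * x = x * a ^ (-k) * x⁻¹ * x := by rw [h]
      _ = x * a ^ (-k) := by rw [inv_mul_cancel_right]
  have hf : ∀ p q, f (p * q) = f p * f q := by
    rintro (i | i) (j | j)
    · exact hmul i j
    · change x * a ^ (((j - i : ZMod (2 * n)).val : ℤ)) = a ^ (i.val : ℤ) * (x * a ^ (j.val : ℤ))
      rw [← mul_assoc, hcomm, mul_assoc, ← zpow_add]
      congr 1
      exact key _ _ (by simp; ring)
    · change x * a ^ (((i + j : ZMod (2 * n)).val : ℤ)) = x * a ^ (i.val : ℤ) * a ^ (j.val : ℤ)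
      rw [hmul, mul_assoc]
    · change a ^ ((((n : ZMod (2 * n)) + j - i : ZMod (2 * n)).val : ℤ)) =
        x * a ^ (i.val : ℤ) * (x * a ^ (j.val : ℤ))
      rw [mul_assoc x, ← mul_assoc (a ^ (i.val : ℤ)), hcomm, mul_assoc x, ← mul_assoc x x, ← pow_two,
        hx, ← zpow_natCast, ← zpow_add, ← zpow_add]
      exact key _ _ (by simp; ring)
  let F : QuaternionGroup n →* G := MonoidHom.mk' f hf
  have hinj : Function.Injective F := by
    rw [injective_iff_map_eq_one]
    rintro (i | i) h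
    · change a ^ (i.val : ℤ) = 1 at h
      rw [zpow_natCast] at h
      have hd := orderOf_dvd_of_pow_eq_one h
      rw [ha] at hd
      have h0 := Nat.eq_zero_of_dvd_of_lt hd (ZMod.val_lt i)
      rw [(ZMod.val_eq_zero i).mp h0]
      rfl
    · change x * a ^ (i.val : ℤ) = 1 at h
      exact absurd (eq_inv_of_mul_eq_one_left h ▸ inv_mem (zpow_mem (mem_zpowers a) _)) hxA
  refine ⟨(MulEquiv.ofBijective F ((Nat.bijective_iff_injective_and_card _).mpr ⟨hinj, ?_⟩)).symm⟩
  rw [Nat.card_eq_fintype_card, QuaternionGroup.card, ← card_mul_index (zpowers a), hidx,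
    Nat.card_zpowers, ha]
  ring

/-- A finite 2-group with at most one involution is cyclic or generalised quaternion. -/
theorem isCyclic_or_quaternion_of_unique_involution {G : Type*} [Group G] [Finite G]
    (hG : IsPGroup 2 G) (huniq : ∀ u v : G, u ^ 2 = 1 → u ≠ 1 → v ^ 2 = 1 → v ≠ 1 → u = v) :
    IsCyclic G ∨ ∃ k : ℕ, Nonempty (G ≃* QuaternionGroup (2 ^ k)) := by
  have : Fact (Nat.Prime 2) := ⟨Nat.prime_two⟩
  rcases subsingleton_or_nontrivial G with h | h
  · exact Or.inl inferInstance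
  obtain ⟨A, -, hAmax⟩ := exists_maximal_ge_of_wellFoundedGT
    (fun B : Subgroup G => B.Normal ∧ IsMulCommutative B) ⊥ ⟨inferInstance, inferInstance⟩
  obtain ⟨hAn, hAc⟩ := hAmax.prop
  have hC := CfsgLib.PGroup.centralizer_eq_of_maximal_normal_abelian hG A hAc
    (fun B hB hBc hle => le_antisymm (hAmax.2 ⟨hB, hBc⟩ hle) hle)
  have hAcyc : IsCyclic A := by
    let instA : CommGroup A :=
      { (inferInstance : Group A) with mul_comm := mul_comm' }
    refine isCyclic_of_card_pow_prime_le fun q hq => ?_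
    by_cases hq2 : q = 2
    · subst hq2
      by_cases hall : ∀ u ∈ (powMonoidHom 2 : A →* A).ker, u = 1
      · rw [(eq_bot_iff_forall _).mpr hall, card_bot]; norm_num
      push Not at hall
      obtain ⟨u, hu, hu1⟩ := hall
      have hle : (powMonoidHom 2 : A →* A).ker ≤ zpowers u := by
        intro v hv
        by_cases hv1 : v = 1
        · rw [hv1]; exact one_mem _
        have : (v : G) = u := huniq v u (congr_arg Subtype.val hv) (fun h => hv1 (Subtype.ext h))
          (congr_arg Subtype.val hu) (fun h => hu1 (Subtype.ext h))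
        rw [Subtype.ext this]
        exact mem_zpowers u
      exact (card_le_of_le hle).trans
        ((Nat.card_zpowers u).le.trans (Nat.le_of_dvd two_pos (orderOf_dvd_of_pow_eq_one hu)))
    · obtain ⟨m, hm⟩ := (hG.to_subgroup A).exists_card_eq
      have : (powMonoidHom q : A →* A).ker = ⊥ := by
        rw [eq_bot_iff]
        intro u hu
        have hco : (Nat.card A).Coprime q := by
          rw [hm]; exact Nat.Coprime.pow_left m ((Nat.coprime_primes Nat.prime_two hq).mpr (Ne.symm hq2))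
        exact mem_bot.mpr ((powCoprime hco).injective ((show u ^ q = 1 from hu).trans (one_pow q).symm))
      rw [this, card_bot]
      exact hq.one_le
  obtain ⟨a₀, ha₀⟩ := hAcyc.exists_generator
  set a : G := (a₀ : G) with hadef
  have hAa : A = zpowers a := by
    refine le_antisymm (fun y hy => ?_) (zpowers_le.mpr a₀.2)
    obtain ⟨k, hk⟩ := mem_zpowers_iff.mp (ha₀ ⟨y, hy⟩)
    exact ⟨k, by simpa using congr_arg Subtype.val hk⟩
  by_cases hAtop : A = ⊤
  · exact Or.inl (isCyclic_of_surjective A.subtype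
      (MonoidHom.range_eq_top.mp (by rw [range_subtype, hAtop])))
  right
  obtain ⟨m, hm⟩ := IsPGroup.iff_orderOf.mp hG a
  have hcent : ∀ g, g * a * g⁻¹ = a → g ∈ A := by
    intro g hg
    rw [← hC]
    intro y hy
    rw [SetLike.mem_coe, hAa] at hy
    obtain ⟨k, rfl⟩ := mem_zpowers_iff.mp hy
    exact ((show Commute g a from mul_inv_eq_iff_eq_mul.mp hg).zpow_right k).symm
  have hexp : ∀ g : G, ∃ s : ℤ, g * a * g⁻¹ = a ^ s := by
    intro g
    have h1 : g * a * g⁻¹ ∈ A := hAn.conj_mem a a₀.2 g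
    rw [hAa, mem_zpowers_iff] at h1
    obtain ⟨s, hs⟩ := h1
    exact ⟨s, hs.symm⟩
  have hdvd : ∀ u v : ℤ, ((2 : ℤ) ^ m) ∣ u - v ↔ a ^ v = a ^ u := by
    intro u v
    rw [← orderOf_dvd_sub_iff_zpow_eq_zpow, hm, ← dvd_neg]
    simp
  -- `m ≥ 2`
  have hm2 : 2 ≤ m := by
    by_contra hlt
    refine hAtop (eq_top_iff.mpr fun g _ => hcent g ?_)
    have h1 : g * a * g⁻¹ ∈ A := hAn.conj_mem a a₀.2 g
    rw [hAa, mem_zpowers_iff] at h1
    obtain ⟨s, hs⟩ := h1
    by_cases ha1 : a = 1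
    · simp [ha1]
    have hdv : orderOf a ∣ 2 := by
      rw [hm]
      interval_cases m <;> norm_num
    have ha2 : a ^ 2 = 1 := orderOf_dvd_iff_pow_eq_one.mp hdv
    have hne : g * a * g⁻¹ ≠ 1 := fun h => ha1 (conj_eq_one_iff.mp h)
    have hsq : (g * a * g⁻¹) ^ 2 = 1 := by rw [conj_pow, ha2]; simp
    exact huniq _ _ hsq hne ha2 ha1
  have hinv : ∀ u : G, u ^ 2 = 1 → u ∈ A := by
    intro u hu
    by_cases hu1 : u = 1
    · rw [hu1]; exact one_mem _
    have hp : a ^ 2 ^ (m - 1) ≠ 1 := by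
      intro h
      have hle := Nat.le_of_dvd (by positivity) (orderOf_dvd_of_pow_eq_one h)
      rw [hm] at hle
      exact absurd hle (not_le.mpr (Nat.pow_lt_pow_right one_lt_two (show m - 1 < m by omega)))
    have hsq : (a ^ 2 ^ (m - 1)) ^ 2 = 1 := by
      rw [← pow_mul, ← pow_succ, show m - 1 + 1 = m by omega, ← hm, pow_orderOf_eq_one]
    rw [huniq u _ hu hu1 hsq hp]
    exact pow_mem a₀.2 _
  -- an element squaring into `A` inverts `a`
  have hinverts : ∀ y : G, y ∉ A → y ^ 2 ∈ A →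
      y * a * y⁻¹ = a⁻¹ ∧ y ^ 2 = a ^ 2 ^ (m - 1) := by
    intro y hyA hy2
    obtain ⟨M, hM⟩ : ∃ M, M + 2 = m := ⟨m - 2, by omega⟩
    obtain ⟨s, hs⟩ := hexp y
    rw [hAa, mem_zpowers_iff] at hy2
    obtain ⟨e, he⟩ := hy2
    have hsk : ∀ k : ℤ, y * a ^ k * y⁻¹ = a ^ (s * k) := fun k => by
      rw [← conj_zpow, hs, ← zpow_mul]
    have hss : (2 : ℤ) ^ m ∣ s * s - 1 := by
      rw [hdvd, zpow_one]
      have h1 : y ^ 2 * a * (y ^ 2)⁻¹ = a := by
        rw [← he, ((Commute.refl a).zpow_left e).eq, mul_inv_cancel_right]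
      rw [← hsk s, ← hs]
      calc a = y ^ 2 * a * (y ^ 2)⁻¹ := h1.symm
        _ = y * (y * a * y⁻¹) * y⁻¹ := by simp [pow_two, mul_assoc]
    have hse : (2 : ℤ) ^ m ∣ s * e - e := by
      rw [hdvd, ← hsk, he]
      simp [pow_two, mul_assoc]
    have hcases : (2 : ℤ) ^ (M + 1) ∣ s - 1 ∨ (2 : ℤ) ^ (M + 1) ∣ s + 1 := by
      have hodd : Odd s := by
        by_contra hev
        rw [Int.not_odd_iff_even] at hev
        obtain ⟨t, rfl⟩ := hev
        have : (2 : ℤ) ∣ 1 := by
          have h2 : (2 : ℤ) ∣ 2 ^ m := dvd_pow_self 2 (by omega)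
          have := dvd_sub (Dvd.intro (t * (t + t)) (by ring) : (2 : ℤ) ∣ (t + t) * (t + t))
            (h2.trans hss)
          simpa using this
        norm_num at this
      obtain ⟨t, rfl⟩ := hodd
      rw [← hM] at hss
      have h4 : (2 : ℤ) ^ (M + 2) ∣ 4 * (t * (t + 1)) := by
        convert hss using 1; ring
      rw [show (2 : ℤ) ^ (M + 2) = 4 * 2 ^ M by ring] at h4
      have h5 : (2 : ℤ) ^ M ∣ t * (t + 1) := (mul_dvd_mul_iff_left (by norm_num)).mp h4
      rcases Int.even_or_odd t with ⟨q, hq⟩ | ⟨q, hq⟩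
      · left
        have : (2 : ℤ) ^ M ∣ t := (IsCoprime.pow_left ⟨-q, 1, by rw [hq]; ring⟩ :
          IsCoprime ((2 : ℤ) ^ M) (t + 1)).dvd_of_dvd_mul_right h5
        rw [pow_succ, show 2 * t + 1 - 1 = t * 2 by ring]
        exact mul_dvd_mul_right this 2
      · right
        have : (2 : ℤ) ^ M ∣ t + 1 := (IsCoprime.pow_left ⟨-q, 1, by rw [hq]; ring⟩ :
          IsCoprime ((2 : ℤ) ^ M) t).dvd_of_dvd_mul_left h5
        rw [pow_succ, show 2 * t + 1 + 1 = (t + 1) * 2 by ring]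
        exact mul_dvd_mul_right this 2
    have hprod : ∀ j : ℤ, (y * a ^ j) ^ 2 = a ^ (s * j + e + j) := by
      intro j
      have : (y * a ^ j) ^ 2 = (y * a ^ j * y⁻¹) * y ^ 2 * a ^ j := by simp [pow_two, mul_assoc]
      rw [this, hsk, ← he, ← zpow_add, ← zpow_add]
    have hbad : ∀ j : ℤ, ¬ (2 : ℤ) ^ m ∣ s * j + e + j := by
      intro j hj
      have h0 : (y * a ^ j) ^ 2 = 1 := by
        rw [hprod j, ← zpow_zero a]
        exact ((hdvd _ 0).mp (by simpa using hj)).symm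
      exact hyA ((mul_mem_cancel_right (zpow_mem a₀.2 j)).mp (hinv _ h0))
    have hneg : (2 : ℤ) ^ m ∣ s + 1 → y * a * y⁻¹ = a⁻¹ := fun h => by
      rw [hs, ← zpow_neg_one]
      exact ((hdvd s (-1)).mp (by simpa using h)).symm
    have hinverted : y * a * y⁻¹ = a⁻¹ := by
      rcases hcases with ⟨c, hc⟩ | ⟨c, hc⟩
      · rcases Int.even_or_odd c with ⟨d, rfl⟩ | ⟨d, rfl⟩
        · -- `y` would centralise `a`
          exfalso
          refine hyA (hcent y ?_)
          have hd : (2 : ℤ) ^ m ∣ s - 1 := ⟨d, by rw [hc, ← hM]; ring⟩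
          calc y * a * y⁻¹ = a ^ s := hs
            _ = a ^ (1 : ℤ) := ((hdvd s 1).mp hd).symm
            _ = a := zpow_one a
        · rcases Nat.eq_zero_or_pos M with rfl | hMpos
          · exact hneg ⟨d + 1, by rw [← hM]; linear_combination hc⟩
          · exfalso
            -- `s ≡ 1 + 2^(m-1)`: solve `(y a^j)^2 = 1`
            have he2 : (2 : ℤ) ∣ e := by
              have h1 : (2 : ℤ) ^ (M + 1) * 2 ∣ 2 ^ (M + 1) * ((2 * d + 1) * e) := by
                rw [← pow_succ, show M + 1 + 1 = m by omega, ← mul_assoc, ← hc, sub_mul, one_mul]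
                exact hse
              have h2 := (mul_dvd_mul_iff_left (pow_ne_zero _ two_ne_zero)).mp h1
              exact (show IsCoprime (2 : ℤ) (2 * d + 1) from ⟨-d, 1, by ring⟩).dvd_of_dvd_mul_left h2
            obtain ⟨i, rfl⟩ := he2
            obtain ⟨N, rfl⟩ : ∃ N, M = N + 1 := ⟨M - 1, by omega⟩
            refine hbad (-(i * (1 - 2 ^ (N + 1) * (2 * d + 1)))) ⟨2 ^ N * i * (2 * d + 1) ^ 2, ?_⟩
            rw [← hM]
            linear_combination (-(i * (1 - 2 ^ (N + 1) * (2 * d + 1)))) * hc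
      · rcases Int.even_or_odd c with ⟨d, rfl⟩ | ⟨d, rfl⟩
        · exact hneg ⟨d, by rw [hc, ← hM]; ring⟩
        · rcases Nat.eq_zero_or_pos M with rfl | hMpos
          · exfalso
            refine hyA (hcent y ?_)
            have hd : (2 : ℤ) ^ m ∣ s - 1 := ⟨d, by rw [← hM]; linear_combination hc⟩
            calc y * a * y⁻¹ = a ^ s := hs
              _ = a ^ (1 : ℤ) := ((hdvd s 1).mp hd).symm
              _ = a := zpow_one a
          · exfalso
            obtain ⟨N, rfl⟩ : ∃ N, M = N + 1 := ⟨M - 1, by omega⟩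
            -- `s ≡ -1 + 2^(m-1)`
            have he2 : (2 : ℤ) ^ (N + 2) ∣ e := by
              rw [← hM] at hse
              obtain ⟨q, hq⟩ := hse
              have h1 : (2 : ℤ) ^ (N + 2) ∣ (2 ^ (N + 1) * (2 * d + 1) - 1) * e := ⟨q, by
                have : (2 : ℤ) * ((2 ^ (N + 1) * (2 * d + 1) - 1) * e) = 2 * (2 ^ (N + 2) * q) := by
                  linear_combination hq - e * hc
                linarith⟩
              exact (IsCoprime.pow_left ⟨2 ^ N * (2 * d + 1), -1, by ring⟩ :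
                IsCoprime ((2 : ℤ) ^ (N + 2)) (2 ^ (N + 1) * (2 * d + 1) - 1)).dvd_of_dvd_mul_left h1
            obtain ⟨q, rfl⟩ := he2
            rcases Int.even_or_odd q with ⟨r, rfl⟩ | ⟨r, rfl⟩
            · exact hbad 0 ⟨r, by rw [← hM]; ring⟩
            · exact hbad 1 ⟨r + d + 1, by rw [← hM]; linear_combination hc⟩
    refine ⟨hinverted, ?_⟩
    have hfix : (2 : ℤ) ^ (M + 1) ∣ e := by
      have h : a ^ e = a ^ (-e) := by
        calc a ^ e = y * a ^ e * y⁻¹ := by rw [he]; simp [pow_two, mul_assoc]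
          _ = a ^ (-e) := by rw [← conj_zpow, hinverted, inv_zpow, zpow_neg]
      have h2 : (2 : ℤ) ^ m ∣ (-e) - e := (hdvd (-e) e).mpr h
      rw [← hM, show -e - e = -(e * 2) by ring, dvd_neg, show M + 2 = M + 1 + 1 by rfl, pow_succ]
        at h2
      exact (mul_dvd_mul_iff_right two_ne_zero).mp h2
    obtain ⟨q, rfl⟩ := hfix
    rcases Int.even_or_odd q with ⟨r, rfl⟩ | ⟨r, rfl⟩
    · exfalso
      exact hbad 0 ⟨r, by rw [← hM]; ring⟩
    · rw [← he, ← zpow_natCast]
      refine ((hdvd _ _).mp ?_).symm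
      rw [← hM, show M + 2 - 1 = M + 1 by omega]
      exact ⟨r, by push_cast; ring⟩
  -- every element squares into `A`
  have hsq : ∀ g : G, g ^ 2 ∈ A := by
    intro g
    by_contra hg
    have hex : ∃ k, (g ^ 2) ^ 2 ^ k ∈ A := by
      obtain ⟨k, hk⟩ := hG (g ^ 2)
      exact ⟨k, by rw [hk]; exact one_mem _⟩
    classical
    have hk := Nat.find_spec hex
    obtain ⟨j, hj⟩ : ∃ j, Nat.find hex = j + 1 := Nat.exists_eq_succ_of_ne_zero fun h => hg (by
      rw [h, pow_zero, pow_one] at hk; exact hk)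
    have hj' : (g ^ 2) ^ 2 ^ j ∉ A := Nat.find_min hex (by omega)
    rw [hj, pow_succ 2 j, pow_mul] at hk
    obtain ⟨hy, -⟩ := hinverts _ hj' hk
    obtain ⟨t, ht⟩ := hexp (g ^ 2 ^ j)
    have hyy : (g ^ 2) ^ 2 ^ j = g ^ 2 ^ j * g ^ 2 ^ j := by
      rw [← pow_mul, ← pow_add]; ring_nf
    have h2 : a ^ (t * t) = a ^ (-1 : ℤ) := by
      rw [zpow_neg_one, ← hy, hyy]
      calc a ^ (t * t) = g ^ 2 ^ j * (g ^ 2 ^ j * a * (g ^ 2 ^ j)⁻¹) * (g ^ 2 ^ j)⁻¹ := by
            rw [ht, ← conj_zpow, ht, ← zpow_mul]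
        _ = _ := by simp [mul_assoc]
    have h3 : (2 : ℤ) ^ m ∣ t * t - (-1) := (hdvd _ _).mpr h2.symm
    have h4 : (4 : ℤ) ∣ t * t + 1 := by
      obtain ⟨M, rfl⟩ : ∃ M, m = M + 2 := ⟨m - 2, by omega⟩
      rw [sub_neg_eq_add] at h3
      exact (Dvd.intro_left (2 ^ M) (by ring)).trans h3
    rcases Int.even_or_odd t with ⟨q, rfl⟩ | ⟨q, rfl⟩
    · obtain ⟨r, hr⟩ := h4
      ring_nf at hr; omega
    · obtain ⟨r, hr⟩ := h4
      ring_nf at hr; omega
  obtain ⟨x, hx⟩ : ∃ x, x ∉ A := by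
    by_contra hno
    push Not at hno
    exact hAtop (eq_top_iff.mpr fun g _ => hno g)
  have hidx : (zpowers a).index = 2 := by
    rw [← hAa, index_eq_two_iff]
    refine ⟨x, fun g => ?_⟩
    by_cases hg : g ∈ A
    · exact Or.inr ⟨hg, fun h => hx ((mul_mem_cancel_left hg).mp h)⟩
    · refine Or.inl ⟨hcent _ ?_, hg⟩
      obtain ⟨h1, -⟩ := hinverts g hg (hsq g)
      obtain ⟨h2, -⟩ := hinverts x hx (hsq x)
      calc g * x * a * (g * x)⁻¹ = g * (x * a * x⁻¹) * g⁻¹ := by simp [mul_assoc]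
        _ = g * a⁻¹ * g⁻¹ := by rw [h2]
        _ = (g * a * g⁻¹)⁻¹ := by simp [mul_assoc]
        _ = a := by rw [h1, inv_inv]
  obtain ⟨h1, h2⟩ := hinverts x hx (hsq x)
  refine ⟨m - 1, ?_⟩
  have : NeZero (2 ^ (m - 1)) := ⟨pow_ne_zero _ two_ne_zero⟩
  exact nonempty_mulEquiv_quaternionGroup a x
    (by rw [hm, ← pow_succ', show m - 1 + 1 = m by omega]) h1 h2 (hAa ▸ hx) hidx

end CfsgLib.Solvable
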