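import Cfsg.Agent.Lib.Solvable.Core
import Cfsg.Agent.Lib.Frobenius.Basic
import Mathlib.GroupTheory.IndexNormal
import Mathlib.GroupTheory.SpecificGroups.Cyclic
import Mathlib.Data.Set.Finite.Lemmas

/-!
Solvability of groups of order `p^m * q` and `p^2 * q^2`, without character theory.
-/

set_option autoImplicit false
set_option linter.style.haveILetI false

open scoped Pointwise

namespace CfsgLib.Solvable

theorem isSolvable_of_isPGroup {G : Type*} [Group G] [Finite G] {p : ℕ} [Fact p.Prime]
    (h : IsPGroup p G) : Group.IsSolvable G := by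
  haveI := h.isNilpotent
  infer_instance

theorem isSolvable_of_normal {G : Type*} [Group G] (N : Subgroup G) [N.Normal]
    (h1 : Group.IsSolvable N) (h2 : Group.IsSolvable (G ⧸ N)) : Group.IsSolvable G := by
  haveI := h1
  haveI := h2
  exact Group.isSolvable_of_ker_le_range N.subtype (QuotientGroup.mk' N)
    (by rw [QuotientGroup.ker_mk', Subgroup.range_subtype])

/-- A group of order `p^m * q` is solvable. -/
theorem isSolvable_of_card_pow_mul_prime : ∀ (n : ℕ) (G : Type*) [Group G] [Finite G] (p q m : ℕ),
    Nat.card G ≤ n → p.Prime → q.Prime → Nat.card G = p ^ m * q → Group.IsSolvable G := by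
  intro n
  induction n with
  | zero => intro G _ _ p q m h; have := (Nat.card_pos : 0 < Nat.card G); omega
  | succ n ih =>
    intro G _ _ p q m hn hp hq hG
    haveI : Fact p.Prime := ⟨hp⟩
    haveI : Fact q.Prime := ⟨hq⟩
    by_cases hpq : p = q
    · subst hpq
      exact isSolvable_of_isPGroup (IsPGroup.of_card (n := m + 1) (by rw [hG, pow_succ]))
    have hcP : ∀ P : Sylow p G, Nat.card P = p ^ m := fun P => by
      rw [P.card_eq_multiplicity, hG, Nat.factorization_mul (pow_ne_zero _ hp.ne_zero) hq.ne_zero,
        Finsupp.add_apply, hp.factorization_pow, hq.factorization, Finsupp.single_eq_same,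
        Finsupp.single_eq_of_ne hpq, add_zero]
    have hiP : ∀ P : Sylow p G, (P : Subgroup G).index = q := fun P => by
      have h := (P : Subgroup G).card_mul_index
      rw [hcP P, hG] at h
      exact Nat.eq_of_mul_eq_mul_left (pow_pos hp.pos m) h
    have hsolP : ∀ P : Sylow p G, Group.IsSolvable P := fun P => isSolvable_of_isPGroup P.isPGroup'
    have hqsol : ∀ (H : Type _) [Group H] [Finite H], Nat.card H = q → Group.IsSolvable H :=
      fun H _ _ h => isSolvable_of_isPGroup (p := q) (IsPGroup.of_card (n := 1) (by rw [h, pow_one]))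
    -- a nontrivial normal p-subgroup finishes the proof
    have hred : ∀ N : Subgroup G, N.Normal → N ≠ ⊥ → IsPGroup p N → Group.IsSolvable G := by
      intro N hN hne hNp
      haveI := hN
      refine isSolvable_of_normal N (isSolvable_of_isPGroup hNp) ?_
      obtain ⟨k, hk⟩ := IsPGroup.iff_card.1 hNp
      have h1 := N.card_eq_card_quotient_mul_card_subgroup
      obtain ⟨P, hP⟩ := hNp.exists_le_sylow
      have hkm : k ≤ m := (Nat.pow_dvd_pow_iff_le_right hp.one_lt).1 (by
        rw [← hk, ← hcP P]; exact Subgroup.card_dvd_of_le hP)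
      have hk0 : k ≠ 0 := fun h0 => hne (Subgroup.card_eq_one.1 (by rw [hk, h0, pow_zero]))
      have hq' : Nat.card (G ⧸ N) = p ^ (m - k) * q := by
        apply Nat.eq_of_mul_eq_mul_right (pow_pos hp.pos k)
        rw [← hk, ← h1, hG, hk, mul_right_comm, ← pow_add, Nat.sub_add_cancel hkm]
      refine ih (G ⧸ N) p q (m - k) ?_ hp hq hq'
      have h2 : 2 ≤ Nat.card N := (Subgroup.one_lt_card_iff_ne_bot N).2 hne
      have h3 : Nat.card (G ⧸ N) * 2 ≤ Nat.card G := h1 ▸ Nat.mul_le_mul_left _ h2
      have h4 : 0 < Nat.card (G ⧸ N) := Nat.card_pos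
      omega
    by_cases hnorm : Nat.card (Sylow p G) = 1
    · let P : Sylow p G := default
      haveI : Subsingleton (Sylow p G) := (Nat.card_eq_one_iff_unique.1 hnorm).1
      haveI : (P : Subgroup G).Normal := Sylow.normal_of_subsingleton P
      exact isSolvable_of_normal _ (hsolP P) (hqsol _ (by rw [← Subgroup.index_eq_card, hiP P]))
    have hnp : Nat.card (Sylow p G) = q :=
      ((Nat.dvd_prime hq).1 (hiP default ▸ (default : Sylow p G).card_dvd_index)).resolve_left hnorm
    by_cases hTI : ∀ S T : Sylow p G, S ≠ T → (S : Subgroup G) ⊓ T = ⊥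
    · -- counting: there is room for only one Sylow q-subgroup
      classical
      haveI : Fintype G := Fintype.ofFinite G
      haveI : Fintype (Sylow p G) := Fintype.ofFinite _
      have hcQ : ∀ Q : Sylow q G, Nat.card Q = q := fun Q => by
        rw [Q.card_eq_multiplicity, hG, Nat.factorization_mul (pow_ne_zero _ hp.ne_zero) hq.ne_zero,
          Finsupp.add_apply, hp.factorization_pow, hq.factorization, Finsupp.single_eq_same,
          Finsupp.single_eq_of_ne (Ne.symm hpq), zero_add, pow_one]
      let U : Finset G := Finset.univ.biUnion fun P : Sylow p G =>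
        (Finset.univ.filter (fun x => x ∈ (P : Subgroup G))).erase 1
      have hU : U.card = q * (p ^ m - 1) := by
        rw [Finset.card_biUnion]
        · have : ∀ P : Sylow p G,
              ((Finset.univ.filter (fun x => x ∈ (P : Subgroup G))).erase 1).card = p ^ m - 1 := by
            intro P
            rw [Finset.card_erase_of_mem (by simp [(P : Subgroup G).one_mem]), ← hcP P,
              Nat.card_eq_fintype_card, Fintype.card_subtype]
          rw [Finset.sum_congr rfl fun P _ => this P, Finset.sum_const, Finset.card_univ,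
            ← Nat.card_eq_fintype_card, hnp, smul_eq_mul]
        · intro S _ T _ hST
          simp only [Finset.disjoint_left, Finset.mem_erase, Finset.mem_filter, Finset.mem_univ,
            true_and]
          rintro x ⟨hx1, hxS⟩ ⟨-, hxT⟩
          have : x ∈ (S : Subgroup G) ⊓ T := ⟨hxS, hxT⟩
          rw [hTI S T hST, Subgroup.mem_bot] at this
          exact hx1 this
      have hQU : ∀ Q : Sylow q G, ∀ x ∈ (Q : Subgroup G), x ∉ U := by
        intro Q x hxQ hxU
        simp only [U, Finset.mem_biUnion, Finset.mem_erase, Finset.mem_filter, Finset.mem_univ,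
          true_and] at hxU
        obtain ⟨P, hx1, hxP⟩ := hxU
        exact hx1 (orderOf_eq_one_iff.1 (Nat.eq_one_of_dvd_coprimes
          (((Nat.coprime_primes hp hq).2 hpq).pow_left m)
          (hcP P ▸ Subgroup.orderOf_dvd_natCard _ hxP)
          (hcQ Q ▸ Subgroup.orderOf_dvd_natCard _ hxQ)))
      have hrest : (Uᶜ).card = q := by
        rw [Finset.card_compl, ← Nat.card_eq_fintype_card, hG, hU, Nat.mul_sub, mul_one,
          mul_comm q]
        have : q ≤ p ^ m * q := Nat.le_mul_of_pos_left _ (pow_pos hp.pos m)
        omega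
      have heq : ∀ Q : Sylow q G, Finset.univ.filter (fun x => x ∈ (Q : Subgroup G)) = Uᶜ := by
        intro Q
        refine Finset.eq_of_subset_of_card_le (fun x hx => ?_) ?_
        · simp only [Finset.mem_filter, Finset.mem_univ, true_and] at hx
          exact Finset.mem_compl.2 (hQU Q x hx)
        · rw [hrest]
          exact le_of_eq ((hcQ Q).symm.trans (by rw [Nat.card_eq_fintype_card, Fintype.card_subtype]))
      haveI : Subsingleton (Sylow q G) := ⟨fun Q R => Sylow.ext (Subgroup.ext fun x => by
        have := Finset.ext_iff.1 ((heq Q).trans (heq R).symm) x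
        simpa using this)⟩
      let Q : Sylow q G := default
      haveI : (Q : Subgroup G).Normal := Sylow.normal_of_subsingleton Q
      refine isSolvable_of_normal _ (isSolvable_of_isPGroup Q.isPGroup') (isSolvable_of_isPGroup
        (p := p) (IsPGroup.of_card (n := m) ?_))
      rw [← Subgroup.index_eq_card]
      have h := (Q : Subgroup G).card_mul_index
      rw [hcQ Q, hG, mul_comm] at h
      exact Nat.eq_of_mul_eq_mul_right hq.pos h
    · push Not at hTI
      obtain ⟨S₀, T₀, hne₀, hinf₀⟩ := hTI
      classical
      haveI : Finite (Sylow p G × Sylow p G) := inferInstance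
      obtain ⟨⟨S, T⟩, hne, hmax⟩ := Set.exists_max_image {st : Sylow p G × Sylow p G | st.1 ≠ st.2}
        (fun st => Nat.card ((st.1 : Subgroup G) ⊓ st.2 : Subgroup G)) (Set.toFinite _)
        ⟨(S₀, T₀), hne₀⟩
      set D := (S : Subgroup G) ⊓ T with hD
      have hDne : D ≠ ⊥ := by
        intro h
        have h1 : Nat.card ((S₀ : Subgroup G) ⊓ T₀ : Subgroup G) ≤ Nat.card D := hmax (S₀, T₀) hne₀
        rw [h, Subgroup.card_bot] at h1
        exact hinf₀ (Subgroup.eq_bot_of_card_le _ h1)
      set N := Subgroup.normalizer (D : Set G) with hN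
      have hDS : ∀ R : Sylow p G, D ≤ R → D ≠ R → D < N ⊓ R := by
        intro R hR hneR
        haveI : Group.IsNilpotent R := R.isPGroup'.isNilpotent
        have hlt : D.subgroupOf R < Subgroup.normalizer ((D.subgroupOf R) : Set R) :=
          normalizerCondition_of_isNilpotent _ (lt_top_iff_ne_top.2 fun h =>
            hneR (le_antisymm hR (Subgroup.subgroupOf_eq_top.1 h)))
        obtain ⟨x, hx, hxD⟩ := SetLike.exists_of_lt hlt
        refine lt_of_le_not_ge (le_inf Subgroup.le_normalizer hR) fun hle =>
          hxD (Subgroup.mem_subgroupOf.2 (hle ⟨?_, x.2⟩))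
        show (x : G) ∈ Subgroup.normalizer (D : Set G)
        rw [Subgroup.mem_normalizer_iff]
        intro y
        rw [Subgroup.mem_normalizer_iff] at hx
        constructor
        · intro hy
          have := (hx ⟨y, hR hy⟩).1 hy
          simpa [Subgroup.mem_subgroupOf] using this
        · intro hy
          have hyR : y ∈ (R : Subgroup G) := by
            have := mul_mem (mul_mem (inv_mem x.2) (hR hy)) x.2
            simpa [mul_assoc] using this
          exact (hx ⟨y, hyR⟩).2 (by simpa [Subgroup.mem_subgroupOf] using hy)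
      have hqN : q ∣ Nat.card N := by
        by_contra hqN
        have hNp : IsPGroup p N := by
          refine IsPGroup.of_card_dvd_pow (n := m) ?_
          have h : Nat.card N ∣ p ^ m * q := hG ▸ Subgroup.card_subgroup_dvd_card N
          exact (Nat.Coprime.dvd_mul_right ((hq.coprime_iff_not_dvd.2 hqN).symm)).1 h
        obtain ⟨R, hR⟩ := hNp.exists_le_sylow
        have hboth : ∀ W : Sylow p G, D ≤ W → D ≠ W → W = R := by
          intro W hW hneW
          by_contra hWR
          have h1 : Nat.card ((W : Subgroup G) ⊓ R : Subgroup G) ≤ Nat.card D := hmax (W, R) hWR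
          have h2 := hDS W hW hneW
          have h3 : N ⊓ W ≤ (W : Subgroup G) ⊓ R := le_inf inf_le_right (inf_le_left.trans hR)
          exact h2.ne (Subgroup.eq_of_le_of_card_ge h2.le (le_trans (Subgroup.card_le_of_le h3) h1))
        have hS : D ≠ S := fun h => hne (Sylow.ext (Subgroup.eq_of_le_of_card_ge
          (h ▸ inf_le_right : (S : Subgroup G) ≤ T) (by rw [hcP, hcP])))
        have hT : D ≠ T := fun h => hne (Sylow.ext (Subgroup.eq_of_le_of_card_ge
          (h ▸ inf_le_left : (T : Subgroup G) ≤ S) (by rw [hcP, hcP])).symm)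
        exact hne ((hboth S inf_le_left hS).trans (hboth T inf_le_right hT).symm)
      obtain ⟨x, hx⟩ := exists_prime_orderOf_dvd_card' (G := N) q hqN
      have hcompl : Subgroup.IsComplement' (S : Subgroup G) (Subgroup.zpowers (x : G)) := by
        have hc : Nat.card (Subgroup.zpowers (x : G)) = q := by
          rw [Nat.card_zpowers, Subgroup.orderOf_coe, hx]
        refine Subgroup.isComplement'_of_coprime (by rw [hcP, hc, hG]) ?_
        rw [hcP, hc]
        exact ((Nat.coprime_primes hp hq).2 hpq).pow_left m
      have hcl : Subgroup.normalClosure (D : Set G) ≤ S := by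
        rw [Subgroup.normalClosure, Subgroup.closure_le]
        intro y hy
        rw [Group.mem_conjugatesOfSet_iff] at hy
        obtain ⟨d, hd, hyd⟩ := hy
        obtain ⟨g, rfl⟩ := isConj_iff.1 hyd
        obtain ⟨⟨⟨s, hs⟩, ⟨z, hz⟩⟩, rfl⟩ := hcompl.2 g
        have hzN : z ∈ N := (Subgroup.zpowers_le.2 x.2) hz
        have hd' : z * d * z⁻¹ ∈ (S : Subgroup G) :=
          (Subgroup.mem_normalizer_iff.1 hzN d).1 hd |>.1
        have := mul_mem (mul_mem hs hd') (inv_mem hs)
        show _ ∈ (S : Subgroup G)
        convert this using 1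
        simp [mul_assoc]
      refine hred _ Subgroup.normalClosure_normal (fun h => hDne ?_) (S.isPGroup'.to_le hcl)
      exact eq_bot_iff.2 (le_trans Subgroup.subset_normalClosure (le_of_eq h))

/-- A group of order `p^2 * q^2` is solvable. -/
theorem isSolvable_of_card_sq_mul_sq {G : Type*} [Group G] [Finite G] (p q : ℕ) (hp : p.Prime)
    (hq : q.Prime) (hG : Nat.card G = p ^ 2 * q ^ 2) : Group.IsSolvable G := by
  wlog hle : q ≤ p generalizing p q
  · exact this q p hq hp (by rw [hG, mul_comm]) (le_of_not_ge hle)
  haveI : Fact p.Prime := ⟨hp⟩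
  haveI : Fact q.Prime := ⟨hq⟩
  rcases hle.eq_or_lt with rfl | hlt
  · exact isSolvable_of_isPGroup (IsPGroup.of_card (n := 4) (by rw [hG, ← pow_add]))
  let P : Sylow p G := default
  have hcP : Nat.card P = p ^ 2 := by
    rw [P.card_eq_multiplicity, hG, Nat.factorization_mul (pow_ne_zero _ hp.ne_zero)
      (pow_ne_zero _ hq.ne_zero), Finsupp.add_apply, hp.factorization_pow, hq.factorization_pow,
      Finsupp.single_eq_same, Finsupp.single_eq_of_ne hlt.ne', add_zero]
  have hiP : (P : Subgroup G).index = q ^ 2 := by
    have h := (P : Subgroup G).card_mul_index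
    rw [hcP, hG] at h
    exact Nat.eq_of_mul_eq_mul_left (pow_pos hp.pos 2) h
  by_cases hnorm : (P : Subgroup G).Normal
  · haveI := hnorm
    exact isSolvable_of_normal _ (isSolvable_of_isPGroup P.isPGroup') (isSolvable_of_isPGroup
      (p := q) (IsPGroup.of_card (n := 2) (by rw [← Subgroup.index_eq_card, hiP])))
  -- `p = 3`, `q = 2`
  have hn : Nat.card (Sylow p G) = q ^ 2 := by
    have hd : Nat.card (Sylow p G) ∣ q ^ 2 := hiP ▸ P.card_dvd_index
    have hmod : Nat.card (Sylow p G) % p = 1 % p := card_sylow_modEq_one p G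
    rw [Nat.mod_eq_of_lt hp.one_lt] at hmod
    obtain ⟨i, hi, hi'⟩ := (Nat.dvd_prime_pow hq).1 hd
    interval_cases i
    · exfalso
      apply hnorm
      haveI : Subsingleton (Sylow p G) := (Nat.card_eq_one_iff_unique.1 (by simpa using hi')).1
      exact Sylow.normal_of_subsingleton P
    · rw [hi', pow_one, Nat.mod_eq_of_lt hlt] at hmod
      exact absurd hmod hq.one_lt.ne'
    · exact hi'
  have hp3 : p = 3 ∧ q = 2 := by
    have hmod : q ^ 2 % p = 1 % p := hn ▸ card_sylow_modEq_one p G
    have hdiv : p ∣ q ^ 2 - 1 :=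
      (Nat.modEq_iff_dvd' (Nat.one_le_pow _ _ hq.pos)).1 (Eq.symm hmod)
    rw [show q ^ 2 - 1 = (q + 1) * (q - 1) by rw [← Nat.sq_sub_sq, one_pow]] at hdiv
    rcases hp.dvd_mul.1 hdiv with h | h
    · have h1 := Nat.le_of_dvd (by omega) h
      have h2 : p = q + 1 := by omega
      rcases hq.eq_two_or_odd with h3 | h3
      · exact ⟨by omega, h3⟩
      · rcases hp.eq_two_or_odd with h4 | h4
        · have := hq.two_le; omega
        · omega
    · have := hq.two_le
      have h1 := Nat.le_of_dvd (by omega) h
      omega
  obtain ⟨rfl, rfl⟩ := hp3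
  -- the action on the four Sylow 3-subgroups
  let f : G →* Equiv.Perm (Sylow 3 G) := MulAction.toPermHom G (Sylow 3 G)
  have hr : Nat.card f.range ∣ 24 := by
    have := f.range.card_subgroup_dvd_card
    rw [Nat.card_perm, hn] at this
    simpa [Nat.factorial] using this
  have hk : Nat.card f.ker * Nat.card f.range = 36 := by
    rw [← Subgroup.index_ker f, Subgroup.card_mul_index, hG]; norm_num
  have hr1 : Nat.card f.range ≠ 1 := by
    intro h
    apply hnorm
    haveI : Subsingleton f.range := (Nat.card_eq_one_iff_unique.1 h).1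
    have hfix : ∀ g : G, g • P = P := fun g => by
      have h1 : (⟨f g, g, rfl⟩ : f.range) = 1 := Subsingleton.elim _ _
      have h2 := congrArg (fun σ : Equiv.Perm (Sylow 3 G) => σ P) (congrArg Subtype.val h1)
      simpa [f] using h2
    rw [← Subgroup.normalizer_eq_top_iff, eq_top_iff]
    intro g _
    exact Sylow.smul_eq_iff_mem_normalizer.1 (hfix g)
  have hdr : Nat.card f.range ∈ Nat.divisors 12 := by
    refine Nat.mem_divisors.2 ⟨?_, by norm_num⟩
    have h36 : Nat.card f.range ∣ 36 := hk ▸ dvd_mul_left _ _
    simpa using Nat.dvd_gcd hr h36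
  have small : ∀ (H : Type _) [Group H] [Finite H],
      Nat.card H ∈ ({2, 3, 4, 6, 9, 12, 18} : Finset ℕ) → Group.IsSolvable H := by
    intro H _ _ hH
    simp only [Finset.mem_insert, Finset.mem_singleton] at hH
    rcases hH with h | h | h | h | h | h | h
    · exact isSolvable_of_card_pow_mul_prime _ H 2 2 0 le_rfl Nat.prime_two Nat.prime_two (by rw [h]; rfl)
    · exact isSolvable_of_card_pow_mul_prime _ H 2 3 0 le_rfl Nat.prime_two Nat.prime_three (by rw [h]; rfl)
    · exact isSolvable_of_card_pow_mul_prime _ H 2 2 1 le_rfl Nat.prime_two Nat.prime_two (by rw [h]; rfl)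
    · exact isSolvable_of_card_pow_mul_prime _ H 2 3 1 le_rfl Nat.prime_two Nat.prime_three (by rw [h]; rfl)
    · exact isSolvable_of_card_pow_mul_prime _ H 3 3 1 le_rfl Nat.prime_three Nat.prime_three (by rw [h]; rfl)
    · exact isSolvable_of_card_pow_mul_prime _ H 2 3 2 le_rfl Nat.prime_two Nat.prime_three (by rw [h]; rfl)
    · exact isSolvable_of_card_pow_mul_prime _ H 3 2 2 le_rfl Nat.prime_three Nat.prime_two (by rw [h]; rfl)
  refine isSolvable_of_normal f.ker (small _ ?_) (small _ ?_)
  all_goals
    first
      | rw [Nat.card_congr (QuotientGroup.quotientKerEquivRange f).toEquiv]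
      | skip
    rw [show Nat.divisors 12 = {1, 2, 3, 4, 6, 12} by decide] at hdr
    simp only [Finset.mem_insert, Finset.mem_singleton] at hdr ⊢
    rcases hdr with h | h | h | h | h | h
    · exact absurd h hr1
    all_goals
      rw [h] at hk
      omega

end CfsgLib.Solvable
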