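import Cfsg.Agent.Lib.Solvable.CoprimeGeneration
import Mathlib.GroupTheory.SemidirectProduct

/-!
Coprime action in the `MulDistribMulAction A K` form, derived from the ambient form through
`K ⋊ A`.
-/

set_option autoImplicit false
open scoped Pointwise
open Subgroup SemidirectProduct

namespace CfsgLib.Solvable

variable (A K : Type*) [Group A] [Group K] [MulDistribMulAction A K]

/-- The semidirect product of an action by automorphisms. -/
abbrev ActSemi := K ⋊[MulDistribMulAction.toMulAut A K] A

variable {A K}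

/-- The copy of `K` in `K ⋊ A`. -/
abbrev actKer : Subgroup (ActSemi A K) := (inl : K →* ActSemi A K).range

/-- The copy of `A` in `K ⋊ A`. -/
abbrev actTop : Subgroup (ActSemi A K) := (inr : A →* ActSemi A K).range

theorem finite_actSemi [Finite A] [Finite K] : Finite (ActSemi A K) :=
  Finite.of_equiv (K × A) SemidirectProduct.equivProd.symm

theorem inr_mul_inl_mul_inv (a : A) (k : K) :
    (inr a : ActSemi A K) * inl k * (inr a)⁻¹ = inl (a • k) := by
  rw [← map_inv, ← inl_aut]
  rfl

theorem actTop_le_normalizer : (actTop : Subgroup (ActSemi A K)) ≤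
    normalizer ((actKer : Subgroup (ActSemi A K)) : Set (ActSemi A K)) := by
  rw [le_normalizer_iff]
  rintro _ ⟨a, rfl⟩ _ ⟨k, rfl⟩
  exact ⟨a • k, (inr_mul_inl_mul_inv a k).symm⟩

theorem actTop_le_normalizer_map {D : Subgroup K} (hD : ∀ a : A, ∀ d ∈ D, a • d ∈ D) :
    (actTop : Subgroup (ActSemi A K)) ≤
      normalizer ((D.map (inl : K →* ActSemi A K) : Subgroup (ActSemi A K)) : Set _) := by
  rw [le_normalizer_iff]
  rintro _ ⟨a, rfl⟩ _ ⟨d, hd, rfl⟩
  exact ⟨a • d, hD a d hd, (inr_mul_inl_mul_inv a d).symm⟩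

theorem smul_mem_of_actTop_le_normalizer {D : Subgroup K}
    (hD : (actTop : Subgroup (ActSemi A K)) ≤
      normalizer ((D.map (inl : K →* ActSemi A K) : Subgroup (ActSemi A K)) : Set _))
    (a : A) {d : K} (hd : d ∈ D) : a • d ∈ D := by
  obtain ⟨e, he, heq⟩ := le_normalizer_iff.mp hD _ ⟨a, rfl⟩ _ (mem_map_of_mem _ hd)
  rw [inr_mul_inl_mul_inv] at heq
  exact inl_injective heq ▸ he

theorem mem_centralizer_actTop {k : K} :
    (inl k : ActSemi A K) ∈ centralizer ((actTop : Subgroup (ActSemi A K)) : Set _) ↔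
      ∀ a : A, a • k = k := by
  constructor
  · intro h a
    apply inl_injective (φ := MulDistribMulAction.toMulAut A K)
    rw [← inr_mul_inl_mul_inv, h (inr a) ⟨a, rfl⟩, mul_inv_cancel_right]
  · rintro h _ ⟨a, rfl⟩
    have := inr_mul_inl_mul_inv a k
    rw [h a, mul_inv_eq_iff_eq_mul] at this
    exact this

theorem card_actKer : Nat.card (actKer : Subgroup (ActSemi A K)) = Nat.card K :=
  (Nat.card_congr (MonoidHom.ofInjective inl_injective).toEquiv).symm

theorem card_actTop : Nat.card (actTop : Subgroup (ActSemi A K)) = Nat.card A :=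
  (Nat.card_congr (MonoidHom.ofInjective inr_injective).toEquiv).symm

theorem solvable_act (hsolv : Group.IsSolvable A ∨ Group.IsSolvable K) :
    Group.IsSolvable (actTop : Subgroup (ActSemi A K)) ∨
      Group.IsSolvable (actKer : Subgroup (ActSemi A K)) := by
  rcases hsolv with h | h
  · exact Or.inl (Group.isSolvable_of_surjective (inr : A →* ActSemi A K).rangeRestrict_surjective)
  · exact Or.inr (Group.isSolvable_of_surjective (inl : K →* ActSemi A K).rangeRestrict_surjective)

variable [Finite A] [Finite K]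

/-- A coset `x D` fixed by `A` contains a fixed point. -/
theorem exists_smul_fixed_mem_coset (hcop : (Nat.card A).Coprime (Nat.card K))
    (hsolv : Group.IsSolvable A ∨ Group.IsSolvable K) {D : Subgroup K}
    (hD : ∀ a : A, ∀ d ∈ D, a • d ∈ D) {x : K} (hx : ∀ a : A, x⁻¹ * (a • x) ∈ D) :
    ∃ d ∈ D, ∀ a : A, a • (x * d) = x * d := by
  have := finite_actSemi (A := A) (K := K)
  obtain ⟨_, ⟨d, hd, rfl⟩, h⟩ := exists_fixed_mem_coset (A := (actTop : Subgroup (ActSemi A K)))
    (K := actKer) (D := D.map inl) actTop_le_normalizer (map_le_range _ _)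
    (actTop_le_normalizer_map hD) (by rw [card_actTop, card_actKer]; exact hcop)
    (solvable_or_of_le (map_le_range _ _) (solvable_act hsolv)) (x := inl x) ⟨x, rfl⟩ (by
      rintro _ ⟨a, rfl⟩
      rw [inr_mul_inl_mul_inv, ← map_inv, ← map_mul]
      exact mem_map_of_mem _ (hx a))
  rw [← map_mul] at h
  exact ⟨d, hd, mem_centralizer_actTop.mp (mem_inf.mp h).2⟩

/-- Glauberman's lemma for compatible actions. -/
theorem exists_smul_fixed_point (hcop : (Nat.card A).Coprime (Nat.card K))
    (hsolv : Group.IsSolvable A ∨ Group.IsSolvable K) {Ω : Type*} [Nonempty Ω]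
    [MulAction A Ω] [MulAction K Ω]
    (hcompat : ∀ (a : A) (k : K) (w : Ω), a • k • w = (a • k) • a • w)
    [MulAction.IsPretransitive K Ω] : ∃ w : Ω, ∀ a : A, a • w = w := by
  have := finite_actSemi (A := A) (K := K)
  let _ : MulAction (ActSemi A K) Ω :=
    { smul := fun g w => g.left • g.right • w
      one_smul := fun w => by
        change (1 : ActSemi A K).left • (1 : ActSemi A K).right • w = w
        rw [one_left, one_right, one_smul, one_smul]
      mul_smul := fun g h w => by
        change (g * h).left • (g * h).right • w = g.left • g.right • h.left • h.right • w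
        rw [mul_left, mul_right, hcompat g.right h.left, ← mul_smul, ← mul_smul]
        rfl }
  have hl : ∀ (k : K) (w : Ω), (inl k : ActSemi A K) • w = k • w := fun k w => by
    change k • (1 : A) • w = _
    rw [one_smul]
  have hr : ∀ (a : A) (w : Ω), (inr a : ActSemi A K) • w = a • w := fun a w => by
    change (1 : K) • a • w = _
    rw [one_smul]
  obtain ⟨w, -, hw⟩ := exists_fixed_point_of_transitive
    (A := (actTop : Subgroup (ActSemi A K))) (K := actKer) actTop_le_normalizer
    (by rw [card_actTop, card_actKer]; exact hcop) (solvable_act hsolv) (S := (Set.univ : Set Ω))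
    Set.univ_nonempty (fun _ _ _ _ => Set.mem_univ _) (fun _ _ _ _ => Set.mem_univ _)
    (fun v _ w _ => by
      obtain ⟨k, hk⟩ := MulAction.exists_smul_eq K v w
      exact ⟨inl k, ⟨k, rfl⟩, (hl k v).trans hk⟩)
  exact ⟨w, fun a => (hr a w).symm.trans (hw _ ⟨a, rfl⟩)⟩

theorem exists_smul_invariant_sylow (hcop : (Nat.card A).Coprime (Nat.card K))
    (hsolv : Group.IsSolvable A ∨ Group.IsSolvable K) (p : ℕ) [Fact p.Prime] {U : Subgroup K}
    (hU : IsPGroup p U) (hUA : ∀ a : A, ∀ u ∈ U, a • u ∈ U) :
    ∃ P : Sylow p K, U ≤ P ∧ ∀ a : A, ∀ x ∈ (P : Subgroup K), a • x ∈ (P : Subgroup K) := by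
  have := finite_actSemi (A := A) (K := K)
  obtain ⟨P, hle, hP⟩ := exists_invariant_sylow_ge (A := (actTop : Subgroup (ActSemi A K)))
    (K := actKer) actTop_le_normalizer (by rw [card_actTop, card_actKer]; exact hcop)
    (solvable_act hsolv) p (map_le_range _ _) (hU.map inl) (actTop_le_normalizer_map hUA)
  set Q := ((P : Subgroup (actKer : Subgroup (ActSemi A K))).map
    (actKer : Subgroup (ActSemi A K)).subtype) with hQ
  have hQK : Q ≤ actKer := map_subtype_le _
  have hQeq : (Q.comap (inl : K →* ActSemi A K)).map inl = Q := map_comap_eq_self hQK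
  refine ⟨Sylow.ofCard (Q.comap inl) ?_, ?_, ?_⟩
  · rw [← Subgroup.card_map_of_injective
      (f := (inl : K →* ActSemi A K)) inl_injective, hQeq, hQ, Subgroup.card_subtype,
      P.card_eq_multiplicity, card_actKer]
  · rw [Sylow.coe_ofCard, ← map_le_iff_le_comap]
    exact hle
  · intro a x hx
    rw [Sylow.coe_ofCard] at hx ⊢
    exact smul_mem_of_actTop_le_normalizer (by rw [hQeq]; exact hP) a hx

theorem exists_smul_fixed_conj_sylow (hcop : (Nat.card A).Coprime (Nat.card K))
    (hsolv : Group.IsSolvable A ∨ Group.IsSolvable K) {p : ℕ} [Fact p.Prime] (P Q : Sylow p K)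
    (hP : ∀ a : A, ∀ x ∈ (P : Subgroup K), a • x ∈ (P : Subgroup K))
    (hQ : ∀ a : A, ∀ x ∈ (Q : Subgroup K), a • x ∈ (Q : Subgroup K)) :
    ∃ c : K, (∀ a : A, a • c = c) ∧ c • P = Q := by
  have := finite_actSemi (A := A) (K := K)
  obtain ⟨k, hk⟩ := MulAction.exists_smul_eq K P Q
  have h := congr_arg (fun R : Sylow p K => (R : Subgroup K).map (inl : K →* ActSemi A K)) hk
  change (MulAut.conj k • (P : Subgroup K)).map inl = _ at h
  rw [map_conj_smul] at h
  obtain ⟨_, hc, hPQ⟩ := exists_centralizer_conj_eq_of_invariant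
    (A := (actTop : Subgroup (ActSemi A K))) (K := actKer) actTop_le_normalizer
    (by rw [card_actTop, card_actKer]; exact hcop) (solvable_act hsolv)
    (actTop_le_normalizer_map hP) (actTop_le_normalizer_map hQ) ⟨k, rfl⟩ h
  obtain ⟨⟨c, rfl⟩, hcA⟩ := mem_inf.mp hc
  refine ⟨c, mem_centralizer_actTop.mp hcA, Sylow.ext (map_injective
    (f := (inl : K →* ActSemi A K)) inl_injective ?_)⟩
  change (MulAut.conj c • (P : Subgroup K)).map inl = _
  rw [map_conj_smul]
  exact hPQ

/-- A noncyclic abelian group acting coprimely: the fixed points of nonidentity elements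
generate. -/
theorem eq_top_of_smul_fixed_mem [IsMulCommutative A] (hA : ¬ IsCyclic A)
    (hcop : (Nat.card A).Coprime (Nat.card K)) (W : Subgroup K)
    (hW : ∀ a : A, a ≠ 1 → ∀ k : K, a • k = k → k ∈ W) : W = ⊤ := by
  have := finite_actSemi (A := A) (K := K)
  have e : A ≃* (actTop : Subgroup (ActSemi A K)) := MonoidHom.ofInjective inr_injective
  have : IsMulCommutative (actTop : Subgroup (ActSemi A K)) := ⟨⟨fun x y => e.symm.injective (by
    rw [map_mul, map_mul, mul_comm'])⟩⟩
  have h := le_of_centralizer_le (A := (actTop : Subgroup (ActSemi A K))) (K := actKer)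
    (W := W.map inl) (fun h => hA (isCyclic_of_surjective e.symm e.symm.surjective))
    actTop_le_normalizer (by rw [card_actTop, card_actKer]; exact hcop) (by
      rintro _ ⟨a, rfl⟩ ha1 x hx
      obtain ⟨⟨k, rfl⟩, hk⟩ := mem_inf.mp hx
      refine mem_map_of_mem _ (hW a (fun h => ha1 (by rw [h, map_one])) k ?_)
      apply inl_injective (φ := MulDistribMulAction.toMulAut A K)
      rw [← inr_mul_inl_mul_inv, ← (mem_centralizer_singleton_iff.mp hk), mul_inv_cancel_right])
  rw [eq_top_iff]
  intro k _
  obtain ⟨w, hw, hwk⟩ := h ⟨k, rfl⟩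
  exact inl_injective hwk ▸ hw

/-- An action trivial modulo the Frattini subgroup and coprime to it is trivial. -/
theorem smul_eq_self_of_trivial_on_frattini_quotient
    (hcop : (Nat.card A).Coprime (Nat.card (frattini K)))
    (htriv : ∀ (a : A) (k : K), k⁻¹ * (a • k) ∈ frattini K) (a : A) (k : K) : a • k = k := by
  have := finite_actSemi (A := A) (K := K)
  let e : K ≃* (actKer : Subgroup (ActSemi A K)) := MonoidHom.ofInjective inl_injective
  have hfr : (frattini (actKer : Subgroup (ActSemi A K))) = (frattini K).map e.toMonoidHom := by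
    refine le_antisymm ?_ ?_
    · have := frattini_le_comap_frattini_of_surjective (φ := e.symm.toMonoidHom) e.symm.surjective
      intro x hx
      exact ⟨e.symm x, this hx, e.apply_symm_apply x⟩
    · rw [map_le_iff_le_comap]
      exact frattini_le_comap_frattini_of_surjective e.surjective
  have hnorm : (frattini K).Normal := inferInstance
  have h := le_centralizer_of_trivial_on_frattini_quotient
    (A := (actTop : Subgroup (ActSemi A K))) (K := actKer)
    (by rw [card_actTop, hfr, Subgroup.card_map_of_injective (f := e.toMonoidHom) e.injective]; exact hcop) (by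
      rintro _ ⟨a, rfl⟩ _ ⟨k, rfl⟩
      refine ⟨e ((a • k) * k⁻¹), ?_, ?_⟩
      · rw [hfr]
        refine mem_map_of_mem _ ?_
        simpa [mul_assoc] using hnorm.conj_mem _ (htriv a k) k
      · change inl ((a • k) * k⁻¹) = _
        rw [map_mul, map_inv, inr_mul_inl_mul_inv])
  exact mem_centralizer_actTop.mp (le_centralizer_iff.mp h ⟨k, rfl⟩) a

end CfsgLib.Solvable
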