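import Cfsg.Agent.Lib.Solvable.Core
import Mathlib.GroupTheory.Frattini
import Mathlib.GroupTheory.SchurZassenhaus
import Mathlib.GroupTheory.Complement
import Mathlib.Algebra.IsPrimePow

/-!
Frattini subgroup: nilpotency modulo the Frattini subgroup, complements of abelian minimal normal
subgroups, maximal subgroups of solvable groups.
-/

set_option autoImplicit false
set_option linter.style.haveILetI false

open scoped Pointwise

namespace CfsgLib.Solvable

variable {G : Type*} [Group G]

/-- If `N` and `D ≤ Φ(G)` are normal and the image of `N` in `G ⧸ D` is nilpotent, then `N` is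
nilpotent. -/
theorem isNilpotent_of_map_mk'_isNilpotent [Finite G] (N D : Subgroup G) [N.Normal] [D.Normal]
    (hD : D ≤ frattini G) (h : Group.IsNilpotent (N.map (QuotientGroup.mk' D))) :
    Group.IsNilpotent N := by
  have q := (Group.isNilpotent_of_finite_tfae (G := N)).out 0 3
  rw [q]; clear q
  intro p hp P
  set f := QuotientGroup.mk' D
  have hf : Function.Surjective f := QuotientGroup.mk'_surjective D
  set P' := (P : Subgroup N).map N.subtype with hP'
  -- the image of `P` is normal in `G ⧸ D`
  let g : N →* N.map f := f.subgroupMap N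
  have hg : Function.Surjective g := f.subgroupMap_surjective N
  haveI := h
  haveI : ((P.mapSurjective hg : Sylow p (N.map f)) : Subgroup (N.map f)).Characteristic :=
    Sylow.characteristic_of_normal _ inferInstance
  have hnorm : (P'.map f).Normal := by
    have heq : P'.map f = (((P : Subgroup N).map g)).map (N.map f).subtype := by
      rw [hP', Subgroup.map_map, Subgroup.map_map]
      rfl
    rw [heq, ← Sylow.coe_mapSurjective hg P]
    exact normal_map_subtype_of_characteristic _ _
  haveI hM : ((P'.map f).comap f).Normal := hnorm.comap f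
  have hMeq : (P'.map f).comap f = P' ⊔ D := by
    rw [Subgroup.comap_map_eq, QuotientGroup.ker_mk']
  set L := (P'.map f).comap f ⊓ N with hL
  have hP'L : P' ≤ L := le_inf (by rw [hMeq]; exact le_sup_left) (Subgroup.map_subtype_le _)
  -- `P'` is a Sylow subgroup of `L`
  have hcard : (P' : Subgroup G).relIndex L ∣ (P : Subgroup N).index := by
    have h1 : P'.relIndex N = (P : Subgroup N).index := by
      rw [Subgroup.relIndex, Subgroup.subgroupOf, hP',
        Subgroup.comap_map_eq_self_of_injective N.subtype_injective]
    rw [← h1]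
    exact Dvd.intro _ (Subgroup.relIndex_mul_relIndex P' L N hP'L inf_le_right)
  have hPL : IsPGroup p (P'.subgroupOf L) := (P.isPGroup'.map N.subtype).comap_subtype
  let Q : Sylow p L := hPL.toSylow fun hd => P.not_dvd_index (hd.trans hcard)
  have hQ : ((Q : Subgroup L).map L.subtype) = P' := by
    rw [IsPGroup.toSylow_coe, Subgroup.map_subgroupOf_eq_of_le hP'L]
  have hfrat := Sylow.normalizer_sup_eq_top Q
  rw [hQ] at hfrat
  have htop : Subgroup.normalizer (P' : Set G) = ⊤ := by
    apply frattini_nongenerating
    rw [eq_top_iff, ← hfrat]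
    refine sup_le le_sup_left (le_trans inf_le_left ?_)
    rw [hMeq]
    exact sup_le (le_trans Subgroup.le_normalizer le_sup_left) (le_trans hD le_sup_right)
  haveI : P'.Normal := Subgroup.normalizer_eq_top_iff.1 htop
  exact Subgroup.Normal.of_map_subtype this

/-- `F(G ⧸ Φ(G)) = F(G) / Φ(G)`. -/
theorem fittingSubgroup_quotient_frattini [Finite G] :
    Cfsg.fittingSubgroup (G ⧸ frattini G) =
      (Cfsg.fittingSubgroup G).map (QuotientGroup.mk' (frattini G)) := by
  have hf := QuotientGroup.mk'_surjective (frattini G)
  refine le_antisymm ?_ (map_fittingSubgroup_le_of_surjective hf)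
  haveI := fittingSubgroup_normal (G ⧸ frattini G)
  set M := (Cfsg.fittingSubgroup (G ⧸ frattini G)).comap (QuotientGroup.mk' (frattini G)) with hM
  have hmap : M.map (QuotientGroup.mk' (frattini G)) = Cfsg.fittingSubgroup (G ⧸ frattini G) :=
    Subgroup.map_comap_eq_self_of_surjective hf _
  have hnil : Group.IsNilpotent M := by
    refine isNilpotent_of_map_mk'_isNilpotent M (frattini G) le_rfl ?_
    rw [hmap]
    exact fittingSubgroup_isNilpotent _
  rw [← hmap]
  exact Subgroup.map_mono (le_fittingSubgroup inferInstance hnil)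

theorem frattini_le_fittingSubgroup [Finite G] : frattini G ≤ Cfsg.fittingSubgroup G :=
  le_fittingSubgroup inferInstance frattini_nilpotent

/-- Every prime dividing `|G|` divides `|G : Φ(G)|`. -/
theorem prime_dvd_index_frattini [Finite G] {p : ℕ} (hp : p.Prime) (hdvd : p ∣ Nat.card G) :
    p ∣ (frattini G).index := by
  haveI : Fact p.Prime := ⟨hp⟩
  by_contra hnd
  haveI := frattini_nilpotent (G := G)
  let P : Sylow p (frattini G) := default
  haveI : (P : Subgroup (frattini G)).Characteristic :=
    Sylow.characteristic_of_normal P inferInstance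
  let P' : Subgroup G := (P : Subgroup (frattini G)).map (frattini G).subtype
  haveI : P'.Normal := normal_map_subtype_of_characteristic _ _
  have hidx : ¬ p ∣ P'.index := by
    rw [← Subgroup.relIndex_mul_index (Subgroup.map_subtype_le (P : Subgroup (frattini G)))]
    intro hd
    rcases hp.dvd_mul.1 hd with hd | hd
    · rw [Subgroup.relIndex, Subgroup.subgroupOf,
        Subgroup.comap_map_eq_self_of_injective (frattini G).subtype_injective] at hd
      exact P.not_dvd_index hd
    · exact hnd hd
  obtain ⟨n, hn⟩ := IsPGroup.iff_card.1 (P.isPGroup'.map (frattini G).subtype)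
  have hcop : (Nat.card P').Coprime P'.index := by
    rw [hn]
    exact ((hp.coprime_iff_not_dvd).2 hidx).pow_left n
  obtain ⟨H, hH⟩ := Subgroup.exists_right_complement'_of_coprime hcop
  have hHtop : H = ⊤ := by
    apply frattini_nongenerating
    rw [eq_top_iff, ← hH.sup_eq_top]
    exact sup_le (le_trans (Subgroup.map_subtype_le _) le_sup_right) le_sup_left
  subst hHtop
  have hbot : P' = ⊥ := by simpa using hH.disjoint
  have h1 := P'.card_mul_index
  rw [hbot, Subgroup.card_bot, one_mul] at h1
  rw [hbot, h1] at hidx
  exact hidx hdvd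

/-- An abelian minimal normal subgroup not contained in the maximal subgroup `M` is complemented
by it. -/
theorem isComplement'_of_not_le [Finite G] (N : Subgroup G) [N.Normal] [IsMulCommutative N]
    (hmin : ∀ M : Subgroup G, M.Normal → M ≤ N → M = ⊥ ∨ M = N)
    {M : Subgroup G} (hM : IsCoatom M) (hle : ¬ N ≤ M) : Subgroup.IsComplement' N M := by
  have hsup : N ⊔ M = ⊤ := hM.2 _ (lt_of_le_not_ge le_sup_right fun h => hle (le_trans le_sup_left h))
  have hn : (N ⊓ M).Normal := by
    rw [← Subgroup.normalizer_eq_top_iff, eq_top_iff, ← hsup]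
    refine sup_le ?_ ?_
    · refine le_trans ?_ (Subgroup.centralizer_le_normalizer _)
      exact le_trans (Subgroup.le_centralizer N) (Subgroup.centralizer_le inf_le_left)
    · intro m hm
      rw [Subgroup.mem_normalizer_iff]
      intro x
      simp only [Subgroup.mem_inf]
      constructor
      · exact fun h => ⟨Subgroup.Normal.conj_mem ‹_› x h.1 m,
          M.mul_mem (M.mul_mem hm h.2) (M.inv_mem hm)⟩
      · intro h
        refine ⟨?_, ?_⟩
        · have := Subgroup.Normal.conj_mem ‹N.Normal› _ h.1 m⁻¹
          simpa [mul_assoc] using this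
        · have := M.mul_mem (M.mul_mem (M.inv_mem hm) h.2) hm
          simpa [mul_assoc] using this
  have hbot : N ⊓ M = ⊥ :=
    (hmin _ hn inf_le_left).resolve_right fun h => hle (inf_eq_left.1 h)
  refine Subgroup.isComplement'_of_disjoint_and_mul_eq_univ (disjoint_iff.2 hbot) ?_
  rw [← Subgroup.normal_mul, hsup, Subgroup.coe_top]

/-- An abelian minimal normal subgroup is complemented iff it is not in the Frattini subgroup. -/
theorem complemented_iff_not_le_frattini [Finite G] (N : Subgroup G) [N.Normal] [IsMulCommutative N]
    (hN : N ≠ ⊥) (hmin : ∀ M : Subgroup G, M.Normal → M ≤ N → M = ⊥ ∨ M = N) :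
    (∃ H : Subgroup G, Subgroup.IsComplement' N H) ↔ ¬ N ≤ frattini G := by
  constructor
  · rintro ⟨H, hH⟩ hle
    have hHtop : H = ⊤ := by
      apply frattini_nongenerating
      rw [eq_top_iff, ← hH.sup_eq_top]
      exact sup_le (le_trans hle le_sup_right) le_sup_left
    subst hHtop
    exact hN (by simpa using hH.disjoint)
  · intro hle
    by_contra h
    push Not at h
    refine hle ?_
    simp only [frattini, Order.radical, le_iInf_iff]
    intro M hM
    by_contra hNM
    exact h M (isComplement'_of_not_le N hmin hM hNM)

/-- Maximal subgroups of finite solvable groups have prime power index. -/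
theorem isPrimePow_index_of_isCoatom_aux : ∀ (n : ℕ) (G : Type*) [Group G] [Finite G]
    [Group.IsSolvable G], Nat.card G ≤ n → ∀ M : Subgroup G, IsCoatom M → IsPrimePow M.index := by
  intro n
  induction n with
  | zero => intro G _ _ _ h; have := (Nat.card_pos : 0 < Nat.card G); omega
  | succ n ih =>
    intro G _ _ _ hcard M hM
    haveI : Nontrivial G := by
      by_contra hnt
      rw [not_nontrivial_iff_subsingleton] at hnt
      exact hM.1 (Subsingleton.elim _ _)
    obtain ⟨N, hNn, hN, -, hmin⟩ := exists_minimal_normal_le (⊤ : Subgroup G) top_ne_bot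
    haveI := hNn
    obtain ⟨hc, p, hp, hexp⟩ := minimal_normal_elementary_abelian N hN hmin
    haveI := hc
    by_cases hle : N ≤ M
    · have hf := QuotientGroup.mk'_surjective N
      have hker : (QuotientGroup.mk' N).ker ≤ M := by rwa [QuotientGroup.ker_mk']
      rw [← Subgroup.index_map_eq M hf hker]
      have hlt : Nat.card (G ⧸ N) ≤ n := by
        have h1 := N.card_eq_card_quotient_mul_card_subgroup
        have h2 : 2 ≤ Nat.card N := (Subgroup.one_lt_card_iff_ne_bot N).2 hN
        have h3 : Nat.card (G ⧸ N) * 2 ≤ Nat.card G := h1 ▸ Nat.mul_le_mul_left _ h2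
        have h4 : 0 < Nat.card (G ⧸ N) := Nat.card_pos
        omega
      refine ih (G ⧸ N) hlt _ ⟨fun h => hM.1 ?_, fun K hK => ?_⟩
      · rw [← Subgroup.comap_map_eq_self hker, h, Subgroup.comap_top]
      · have h2 : M < K.comap (QuotientGroup.mk' N) := by
          rw [← Subgroup.comap_map_eq_self hker]
          exact (Subgroup.comap_lt_comap_of_surjective hf).2 hK
        rw [← Subgroup.map_comap_eq_self_of_surjective hf K, hM.2 _ h2,
          Subgroup.map_top_of_surjective _ hf]
    · rw [(isComplement'_of_not_le N hmin hM hle).index_eq_card]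
      haveI : Fact p.Prime := ⟨hp⟩
      obtain ⟨k, hk⟩ := IsPGroup.iff_card.1 (show IsPGroup p N from fun x =>
        ⟨1, Subtype.ext (by rw [Subgroup.coe_pow, pow_one, hexp x.1 x.2, Subgroup.coe_one])⟩)
      refine (isPrimePow_nat_iff _).2 ⟨p, k, hp, Nat.pos_of_ne_zero fun h0 => hN ?_, hk.symm⟩
      rw [← Subgroup.card_eq_one, hk, h0, pow_zero]

theorem isPrimePow_index_of_isCoatom [Finite G] [Group.IsSolvable G] {M : Subgroup G}
    (hM : IsCoatom M) : IsPrimePow M.index :=
  isPrimePow_index_of_isCoatom_aux _ G le_rfl M hM

end CfsgLib.Solvable
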