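import Mathlib

/-!
A finite group with a fixed-point-free automorphism of order three is `2`-Engel, hence, having no
`3`-torsion, nilpotent of class at most two.
-/

set_option autoImplicit false

open scoped commutatorElement

namespace CfsgLib.Solvable.FpfThree

variable {T : Type*} [Group T]

/-- Every element commutes with its conjugates. -/
def SelfConjCommute (T : Type*) [Group T] : Prop := ∀ x g : T, Commute x (g * x * g⁻¹)

section Engel

variable (h : SelfConjCommute T)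
include h

theorem conj_commute (x g k : T) : Commute (g * x * g⁻¹) (k * x * k⁻¹) := by
  have h1 := (h x (g⁻¹ * k)).map (MulAut.conj g).toMonoidHom
  simpa [mul_assoc] using h1

theorem comm_commute_left (x y : T) : Commute x ⁅x, y⁆ := by
  rw [show ⁅x, y⁆ = x * (y * x⁻¹ * y⁻¹) by rw [commutatorElement_def]; group]
  refine (Commute.refl x).mul_right ?_
  have h1 := (h x y).inv_right
  simpa [mul_assoc] using h1

theorem comm_commute_right (x y : T) : Commute y ⁅x, y⁆ := by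
  have h1 := (comm_commute_left h y x).inv_right
  rwa [commutatorElement_inv] at h1

omit h in
theorem conj_comm (x y z : T) : z * ⁅x, y⁆ * z⁻¹ = ⁅z * x * z⁻¹, z * y * z⁻¹⁆ :=
  map_commutatorElement (MulAut.conj z) x y

theorem triple_eq (x y z : T) :
    ⁅⁅x, y⁆, z⁆ = (⁅⁅x, z⁆, y⁆)⁻¹ ∧ ⁅⁅y, x⁆, z⁆ = (⁅⁅x, y⁆, z⁆)⁻¹ ∧ Commute x ⁅⁅x, y⁆, z⁆ ∧
      Commute y ⁅⁅x, y⁆, z⁆ ∧ Commute z ⁅⁅x, y⁆, z⁆ := by
  set p := ⁅x, y⁆ with hp
  set q := ⁅x, z⁆ with hq
  set α := p⁻¹ * (z * p * z⁻¹) with hα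
  set β := q⁻¹ * (y * q * y⁻¹) with hβ
  have hA1 : ∀ a b c d : T, Commute (a * ⁅x, b⁆ * a⁻¹) (c * ⁅x, d⁆ * c⁻¹) := by
    intro a b c d
    rw [show a * ⁅x, b⁆ * a⁻¹ = (a * x * a⁻¹) * ((a * b) * x⁻¹ * (a * b)⁻¹) by
        rw [commutatorElement_def]; group,
      show c * ⁅x, d⁆ * c⁻¹ = (c * x * c⁻¹) * ((c * d) * x⁻¹ * (c * d)⁻¹) by
        rw [commutatorElement_def]; group]
    have e : ∀ u v : T, Commute (u * x⁻¹ * u⁻¹) (v * x * v⁻¹) := fun u v => by
      have := (conj_commute h x u v).inv_left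
      simpa [mul_assoc] using this
    have e' : ∀ u v : T, Commute (u * x⁻¹ * u⁻¹) (v * x⁻¹ * v⁻¹) := fun u v => by
      have := (e u v).inv_right
      simpa [mul_assoc] using this
    exact ((conj_commute h x a c).mul_right (e _ a).symm).mul_left ((e _ c).mul_right (e' _ _))
  have hpp : Commute p (z * p * z⁻¹) := by simpa using hA1 1 y z y
  have hαz : Commute z α := by
    have h1 := comm_commute_right h p⁻¹ z
    rwa [show ⁅p⁻¹, z⁆ = α by rw [hα, commutatorElement_def]; group] at h1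
  have hβy : Commute y β := by
    have h1 := comm_commute_right h q⁻¹ y
    rwa [show ⁅q⁻¹, y⁆ = β by rw [hβ, commutatorElement_def]; group] at h1
  have hzp : z * p * z⁻¹ = p * α := by rw [hα]; group
  have hyq : y * q * y⁻¹ = q * β := by rw [hβ]; group
  have hpy : y * p * y⁻¹ = p := by rw [(comm_commute_right h x y).eq, mul_inv_cancel_right]
  have hqz : z * q * z⁻¹ = q := by rw [(comm_commute_right h x z).eq, mul_inv_cancel_right]
  have hfix : (y * z) * ⁅x, y * z⁆ * (y * z)⁻¹ = ⁅x, y * z⁆ := by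
    rw [(comm_commute_right h x (y * z)).eq, mul_inv_cancel_right]
  have hexp : ⁅x, y * z⁆ = p * (q * β) := by
    rw [← hyq, hp, hq, commutatorElement_def, commutatorElement_def, commutatorElement_def]; group
  have hαq : Commute α q := by
    have e1 : Commute p q := by simpa using hA1 1 y 1 z
    have e2 : Commute (z * p * z⁻¹) q := by simpa using hA1 z y 1 z
    exact e1.inv_left.mul_left e2
  have hab : y * (α * z * β * z⁻¹) * y⁻¹ = 1 := by
    have h1 : (y * z) * ⁅x, y * z⁆ * (y * z)⁻¹ = p * (q * β) * (y * (α * z * β * z⁻¹) * y⁻¹) := by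
      rw [hexp]
      calc y * z * (p * (q * β)) * (y * z)⁻¹
          = y * ((z * p * z⁻¹) * (z * q * z⁻¹) * (z * β * z⁻¹)) * y⁻¹ := by group
        _ = y * (p * (α * q) * (z * β * z⁻¹)) * y⁻¹ := by rw [hzp, hqz]; group
        _ = y * (p * (q * α) * (z * β * z⁻¹)) * y⁻¹ := by rw [hαq.eq]
        _ = (y * p * y⁻¹) * (y * q * y⁻¹) * (y * (α * z * β * z⁻¹) * y⁻¹) := by group
        _ = _ := by rw [hpy, hyq]
    rw [hfix, hexp] at h1
    exact (left_eq_mul.mp h1)
  have hαβ : α * (z * β * z⁻¹) = 1 := by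
    have h1 : α * z * β * z⁻¹ = 1 := conj_eq_one_iff.mp hab
    rw [← h1]; group
  have hβ' : β = α⁻¹ := by
    have h1 : z * β * z⁻¹ = z * α⁻¹ * z⁻¹ := by
      rw [eq_inv_of_mul_eq_one_right hαβ, hαz.inv_right.eq, mul_inv_cancel_right]
    exact mul_left_cancel (mul_right_cancel h1)
  have hT : ⁅p, z⁆ = α⁻¹ := by
    rw [show ⁅p, z⁆ = p * (z * p * z⁻¹)⁻¹ by rw [commutatorElement_def]; group, hpp.inv_right.eq, hα]
    group
  have hqq : Commute q (y * q * y⁻¹) := by simpa using hA1 1 z y z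
  have hT' : ⁅q, y⁆ = β⁻¹ := by
    rw [show ⁅q, y⁆ = q * (y * q * y⁻¹)⁻¹ by rw [commutatorElement_def]; group, hqq.inv_right.eq, hβ]
    group
  have hxα : Commute x α := by
    have hxp : Commute x p := comm_commute_left h x y
    refine hxp.inv_right.mul_right ?_
    rw [hp, show z * ⁅x, y⁆ * z⁻¹ = (z * x * z⁻¹) * ((z * y) * x⁻¹ * (z * y)⁻¹) by
        rw [commutatorElement_def]; group]
    refine (h x z).mul_right ?_
    have := (h x (z * y)).inv_right
    simpa [mul_assoc] using this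
  refine ⟨by rw [hT, hT', hβ', inv_inv], ?_, by rw [hT]; exact hxα.inv_right, ?_,
    by rw [hT]; exact hαz.inv_right⟩
  · rw [hT, inv_inv, ← commutatorElement_inv x y, ← hp, commutatorElement_def, hα]
    group
  · rw [hT]
    rw [hβ'] at hβy
    exact hβy

theorem triple_cube (x y z : T) : ⁅⁅x, y⁆, z⁆ ^ 3 = 1 := by
  set t := ⁅⁅x, y⁆, z⁆ with ht
  have hinv : ∀ a b c : T, ⁅⁅a⁻¹, b⁆, c⁆ = (⁅⁅a, b⁆, c⁆)⁻¹ := by
    intro a b c
    have h1 : ⁅a⁻¹, b⁆ = ⁅b, a⁆ := by
      have hc : Commute a ⁅b, a⁆ := comm_commute_right h b a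
      rw [show ⁅a⁻¹, b⁆ = a⁻¹ * ⁅b, a⁆ * a by rw [commutatorElement_def, commutatorElement_def]; group,
        hc.inv_left.eq, inv_mul_cancel_right]
    rw [h1, (triple_eq h a b c).2.1]
  have e1 : ⁅⁅z, x⁆, y⁆ = t := by
    rw [(triple_eq h x z y).2.1, (triple_eq h x z y).1, inv_inv]
  have e2 : ⁅⁅y, z⁆, x⁆ = t := by
    rw [(triple_eq h y z x).1, (triple_eq h x y z).2.1, inv_inv]
  obtain ⟨-, -, cx, cy, cz⟩ := triple_eq h x y z
  rw [← ht] at cx cy cz
  have hw := conj_commutatorElement_left_commutatorElement_mul x y z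
  rw [hinv, hinv, hinv, e1, e2, ← ht] at hw
  have hfix : ∀ a : T, Commute a t → a * t⁻¹ * a⁻¹ = t⁻¹ := fun a ha => by
    rw [ha.inv_right.eq, mul_inv_cancel_right]
  have h' : (x * t⁻¹ * x⁻¹) * (z * t⁻¹ * z⁻¹) * (y * t⁻¹ * y⁻¹) = 1 := by
    rw [← hw]; group
  rw [hfix x cx, hfix y cy, hfix z cz] at h'
  rw [← inv_eq_one, ← inv_pow, pow_succ, pow_two]
  exact h'

end Engel

theorem selfConjCommute_of_fpf [Finite T] {ρ : MulAut T} (h3 : ∀ y, ρ (ρ (ρ y)) = y)
    (hfp : ∀ y, ρ y = y → y = 1) : SelfConjCommute T := by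
  have hρ2 : ∀ z, ρ (ρ z) = z → z = 1 := fun z hz => by
    have := congrArg ρ hz
    rw [h3] at this
    exact hfp z this.symm
  have hprod : ∀ y : T, y * ρ y * ρ (ρ y) = 1 := fun y => by
    obtain ⟨u, rfl⟩ := (MonoidHom.FixedPointFree.commutatorMap_surjective (φ := ρ) (fun g hg => hfp g hg)) y
    simp [MonoidHom.commutatorMap_apply, div_eq_mul_inv, mul_assoc, h3]
  have hprod2 : ∀ y : T, y * ρ (ρ y) * ρ y = 1 := fun y => by
    have hsurj := MonoidHom.FixedPointFree.commutatorMap_surjective (φ := ρ.trans ρ) (fun g hg => hρ2 g hg)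
    obtain ⟨u, rfl⟩ := hsurj y
    simp [MonoidHom.commutatorMap_apply, div_eq_mul_inv, mul_assoc, h3]
  -- conjugation of `ρ` by an arbitrary element
  have key : ∀ y k : T, Commute y (k * ρ y * k⁻¹) := by
    intro y k
    obtain ⟨u, hu⟩ := (MonoidHom.FixedPointFree.commutatorMap_surjective (φ := ρ) (fun g hg => hfp g hg)) k
    simp only [MonoidHom.commutatorMap_apply, MulEquiv.coe_toMonoidHom, div_eq_mul_inv] at hu
    subst hu
    have hc : Commute (u⁻¹ * y * u) (ρ (u⁻¹ * y * u)) := by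
      set w := u⁻¹ * y * u
      have e1 : ρ (ρ w) = (w * ρ w)⁻¹ := eq_inv_of_mul_eq_one_right (hprod w)
      have e2 := hprod2 w
      rw [e1] at e2
      show w * ρ w = ρ w * w
      calc w * ρ w = ρ w * (w * (w * ρ w)⁻¹ * ρ w)⁻¹ * w := by group
        _ = ρ w * w := by rw [e2, inv_one, mul_one]
    have := hc.map (MulAut.conj u).toMonoidHom
    simpa [mul_assoc] using this
  intro x g
  have h1 : Commute x (g * ρ x * g⁻¹) := key x g
  have h2 : Commute x (g * ρ (ρ x) * g⁻¹) := by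
    have h4 := (key (ρ (ρ x)) g⁻¹).map (MulAut.conj g).toMonoidHom
    rw [h3] at h4
    simp only [MulEquiv.coe_toMonoidHom, MulAut.conj_apply] at h4
    refine Commute.symm ?_
    simpa [mul_assoc] using h4
  have h5 : g * x * g⁻¹ = ((g * ρ x * g⁻¹) * (g * ρ (ρ x) * g⁻¹))⁻¹ := by
    rw [eq_inv_iff_mul_eq_one, show g * x * g⁻¹ * (g * ρ x * g⁻¹ * (g * ρ (ρ x) * g⁻¹)) =
      g * (x * ρ x * ρ (ρ x)) * g⁻¹ by group, hprod]
    group
  rw [h5]
  exact (h1.mul_right h2).inv_right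

/-- Class at most two when there is no `3`-torsion. -/
theorem class_two [Finite T] {ρ : MulAut T} (h3 : ∀ y, ρ (ρ (ρ y)) = y)
    (hfp : ∀ y, ρ y = y → y = 1) (h3T : ∀ y : T, y ^ 3 = 1 → y = 1) (x y z : T) :
    Commute ⁅x, y⁆ z := by
  have := h3T _ (triple_cube (selfConjCommute_of_fpf h3 hfp) x y z)
  exact commutatorElement_eq_one_iff_commute.mp this

end CfsgLib.Solvable.FpfThree
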