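import Mathlib.GroupTheory.PGroup
import Mathlib.Algebra.Group.Subgroup.Finite
import Mathlib.Data.SetLike.Fintype
import Mathlib.Data.Nat.Prime.Int
import Mathlib.RingTheory.Int.Basic
import Mathlib.Order.WellFoundedSet
import Mathlib.GroupTheory.Index
import Mathlib.Algebra.Group.End
import Mathlib.Order.Atoms
import Mathlib.Tactic.Group
import Mathlib.Algebra.BigOperators.Group.Finset.Basic
import Mathlib.Data.Fintype.EquivFin
import Mathlib.Data.Fintype.BigOperators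

/-!
A finite abelian `p`-group with a coprime group of automorphisms: Maschke for elementary sections,
and indecomposable = `Ω₁` irreducible.
-/

set_option autoImplicit false

open Subgroup

namespace CfsgLib.Solvable.AbelianModule

variable {A : Type*} [CommGroup A] [Finite A] {p : ℕ} [hp : Fact p.Prime]

/-- Invariance under a set of automorphisms. -/
def Inv (X : Subgroup (MulAut A)) (B : Subgroup A) : Prop := ∀ x ∈ X, ∀ b ∈ B, x b ∈ B

variable {X : Subgroup (MulAut A)}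

omit [Finite A] in
theorem inv_iff {B : Subgroup A} : Inv X B ↔ ∀ x ∈ X, B.map x.toMonoidHom = B := by
  refine ⟨fun h x hx => le_antisymm (map_le_iff_le_comap.mpr fun b hb => h x hx b hb) fun b hb => ?_,
    fun h x hx b hb => (h x hx).le (mem_map_of_mem x.toMonoidHom hb)⟩
  exact ⟨x⁻¹ b, h _ (inv_mem hx) b hb, x.apply_symm_apply b⟩

omit [Finite A] in
theorem Inv.map_pow {B : Subgroup A} (h : Inv X B) (n : ℕ) : Inv X (B.map (powMonoidHom n)) := by
  rintro x hx _ ⟨b, hb, rfl⟩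
  exact ⟨x b, h x hx b hb, (_root_.map_pow x b n).symm⟩

omit [Finite A] in
theorem Inv.comap_pow {B : Subgroup A} (h : Inv X B) (n : ℕ) :
    Inv X (B.comap (powMonoidHom n)) := fun x hx b hb => by
  show (x b) ^ n ∈ B
  rw [← _root_.map_pow]
  exact h x hx _ hb

omit [Finite A] in
theorem Inv.inf {B C : Subgroup A} (hB : Inv X B) (hC : Inv X C) : Inv X (B ⊓ C) :=
  fun x hx b hb => ⟨hB x hx b hb.1, hC x hx b hb.2⟩

omit [Finite A] in
theorem Inv.sup {B C : Subgroup A} (hB : Inv X B) (hC : Inv X C) : Inv X (B ⊔ C) := by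
  intro x hx b hb
  obtain ⟨u, hu, v, hv, rfl⟩ := mem_sup.mp hb
  rw [map_mul]
  exact mul_mem_sup (hB x hx u hu) (hC x hx v hv)

omit [Finite A] in
theorem inv_bot : Inv X (⊥ : Subgroup A) := fun x _ b hb => by
  rw [mem_bot] at hb ⊢
  rw [hb, map_one]

omit [Finite A] in
theorem inv_top : Inv X (⊤ : Subgroup A) := fun _ _ _ _ => mem_top _

omit [Finite A] in
theorem mem_of_pow_mem {C : Subgroup A} {w : A} {m : ℕ} (hm : m.Coprime p) (h1 : w ^ m ∈ C)
    (h2 : w ^ p ∈ C) : w ∈ C := by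
  have h3 : w ^ (m.gcd p : ℕ) ∈ C := by
    rw [← zpow_natCast, Nat.gcd_eq_gcd_ab, zpow_add, zpow_mul, zpow_mul, zpow_natCast, zpow_natCast]
    exact mul_mem (zpow_mem h1 _) (zpow_mem h2 _)
  rwa [hm, pow_one] at h3

/-- **Maschke** for an elementary section `W / C`. -/
theorem exists_inv_compl (hX : (Nat.card X).Coprime p) {C D W : Subgroup A} (hC : Inv X C)
    (hD : Inv X D) (hW : Inv X W) (hCD : C ≤ D) (hDW : D ≤ W) (hel : ∀ w ∈ W, w ^ p ∈ C) :
    ∃ C' : Subgroup A, Inv X C' ∧ C' ⊓ D = C ∧ C' ⊔ D = W := by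
  classical
  obtain ⟨E, -, hE⟩ := (Set.toFinite {E : Subgroup A | C ≤ E ∧ E ≤ W ∧ E ⊓ D ≤ C}).exists_le_maximal
    (a := C) ⟨le_rfl, hCD.trans hDW, inf_le_left⟩
  obtain ⟨hCE, hEW, hED⟩ := hE.prop
  have hsup : ∀ w ∈ W, w ∈ E ⊔ D := by
    intro w hw
    by_contra hn
    have h1 : E ⊔ zpowers w ≤ E := hE.2 ⟨hCE.trans le_sup_left,
      sup_le hEW (zpowers_le.mpr hw), ?_⟩ le_sup_left
    · exact hn (mem_sup_left (h1 (mem_sup_right (mem_zpowers w))))
    rintro x ⟨hx, hxD⟩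
    obtain ⟨e, he, y, hy, rfl⟩ := mem_sup.mp hx
    obtain ⟨j, rfl⟩ := mem_zpowers_iff.mp hy
    by_cases hj : (p : ℤ) ∣ j
    · obtain ⟨i, rfl⟩ := hj
      have hyC : w ^ ((p : ℤ) * i) ∈ C := by
        rw [zpow_mul, zpow_natCast]
        exact zpow_mem (hel w hw) _
      exact hED ⟨mul_mem he (hCE hyC), hxD⟩
    · exfalso
      refine hn ?_
      have h2 : w ^ j ∈ E ⊔ D := by
        have := mul_mem (mem_sup_left (T := D) (inv_mem he)) (mem_sup_right (S := E) hxD)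
        simpa using this
      obtain ⟨a, b, hab⟩ := (Nat.prime_iff_prime_int.mp hp.out).coprime_iff_not_dvd.mpr hj
      have h3 : w ^ (a * (p : ℤ) + b * j) ∈ E ⊔ D := by
        rw [zpow_add, mul_comm a, mul_comm b, zpow_mul, zpow_mul, zpow_natCast]
        exact mul_mem (zpow_mem (mem_sup_left (hCE (hel w hw))) _) (zpow_mem h2 _)
      rwa [hab, zpow_one] at h3
  have hd : ∀ w : A, ∃ d : A, w ∈ W → d ∈ D ∧ w * d⁻¹ ∈ E := by
    intro w
    by_cases hw : w ∈ W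
    · obtain ⟨e, he, d, hd, rfl⟩ := mem_sup.mp (hsup w hw)
      exact ⟨d, fun _ => ⟨hd, by simpa using he⟩⟩
    · exact ⟨1, fun h => absurd h hw⟩
  choose d hd using hd
  let _ : Fintype X := Fintype.ofFinite X
  set f := QuotientGroup.mk' C with hf
  have heq : ∀ {u v : A}, u * v⁻¹ ∈ C → f u = f v := fun {u v} h => by
    refine div_eq_one.mp ?_
    rw [div_eq_mul_inv, ← map_inv, ← map_mul]
    exact (QuotientGroup.eq_one_iff _).mpr h
  have hdu : ∀ {w c : A}, w ∈ W → c ∈ D → w * c⁻¹ ∈ E → f (d w) = f c := fun {w c} hw hc he => by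
    refine heq (hED (Subgroup.mem_inf.mpr ⟨?_, mul_mem (hd w hw).1 (inv_mem hc)⟩))
    have e : d w * c⁻¹ = (w * (d w)⁻¹)⁻¹ * (w * c⁻¹) := by group
    rw [e]
    exact mul_mem (inv_mem (hd w hw).2) he
  let σ : A → A := fun w => ∏ x : X, (x : MulAut A) (d ((x : MulAut A)⁻¹ w))
  have hWi : ∀ (x : X) {w : A}, w ∈ W → (x : MulAut A)⁻¹ w ∈ W := fun x w hw =>
    hW _ (inv_mem x.2) w hw
  have hσD : ∀ w ∈ W, σ w ∈ D := fun w hw =>
    prod_mem fun x _ => hD x x.2 _ (hd _ (hWi x hw)).1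
  have hfix : ∀ (x : X) {u v : A}, f u = f v → f ((x : MulAut A) u) = f ((x : MulAut A) v) := by
    intro x u v h
    refine heq ?_
    have h1 : u * v⁻¹ ∈ C := by
      rw [← QuotientGroup.eq_one_iff]
      show f (u * v⁻¹) = 1
      rw [map_mul, map_inv, h, mul_inv_cancel]
    simpa using hC x x.2 _ h1
  have hσmul : ∀ u ∈ W, ∀ v ∈ W, f (σ (u * v)) = f (σ u) * f (σ v) := by
    intro u hu v hv
    simp only [σ, map_prod]
    rw [← Finset.prod_mul_distrib]
    refine Finset.prod_congr rfl fun x _ => ?_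
    rw [← map_mul f, ← map_mul (x : MulAut A)]
    refine hfix x (hdu (hWi x (mul_mem hu hv)) (mul_mem (hd _ (hWi x hu)).1 (hd _ (hWi x hv)).1) ?_)
    rw [map_mul]
    have := mul_mem (hd _ (hWi x hu)).2 (hd _ (hWi x hv)).2
    simpa [mul_comm, mul_left_comm, mul_assoc] using this
  have hσid : ∀ w ∈ D, f (σ w) = f w ^ Nat.card X := by
    intro w hw
    simp only [σ, map_prod]
    rw [Finset.prod_congr rfl (g := fun _ => f w) fun x _ => ?_, Finset.prod_const, Finset.card_univ,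
      Nat.card_eq_fintype_card]
    have h1 : f (d ((x : MulAut A)⁻¹ w)) = f ((x : MulAut A)⁻¹ w) :=
      hdu (hWi x (hDW hw)) (hD _ (inv_mem x.2) w hw) (by simp)
    rw [hfix x h1]
    congr 1
    exact (x : MulAut A).apply_symm_apply w
  let C' : Subgroup A :=
    { carrier := {w | w ∈ W ∧ f (σ w) = 1}
      one_mem' := ⟨one_mem W, by rw [hσid 1 (one_mem D), map_one, one_pow]⟩
      mul_mem' := fun {u v} hu hv => ⟨mul_mem hu.1 hv.1, by
        rw [hσmul u hu.1 v hv.1, hu.2, hv.2, one_mul]⟩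
      inv_mem' := fun {u} hu => ⟨inv_mem hu.1, by
        have h := hσmul u hu.1 u⁻¹ (inv_mem hu.1)
        rw [mul_inv_cancel, hσid 1 (one_mem D), map_one, one_pow, hu.2, one_mul] at h
        exact h.symm⟩ }
  refine ⟨C', ?_, le_antisymm ?_ ?_, le_antisymm (sup_le (fun w hw => hw.1) hDW) ?_⟩
  · rintro y hy w ⟨hw, hσ⟩
    refine ⟨hW y hy w hw, ?_⟩
    have e : σ (y w) = y (σ w) := by
      simp only [σ, map_prod]
      refine Fintype.prod_equiv (Equiv.mulLeft (⟨y, hy⟩ : X)⁻¹) _ _ fun x => ?_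
      simp [MulAut.mul_apply]
    rw [e]
    have h1 := hfix ⟨y, hy⟩ (show f (σ w) = f 1 by rw [hσ, map_one])
    simpa using h1
  · rintro w ⟨⟨hw, hσ⟩, hwD⟩
    rw [hσid w hwD, ← _root_.map_pow] at hσ
    exact mem_of_pow_mem hX ((QuotientGroup.eq_one_iff _).mp hσ) (hel w hw)
  · intro w hw
    refine ⟨⟨hDW (hCD hw), ?_⟩, hCD hw⟩
    rw [hσid w (hCD hw), show f w = 1 from (QuotientGroup.eq_one_iff w).mpr hw, one_pow]
  · intro w hw
    set s := σ w with hs
    obtain ⟨k, hk⟩ := Nat.exists_mul_mod_eq_one_of_coprime hX hp.out.one_lt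
    have hsD : s ∈ D := hσD w hw
    have hsW := hDW hsD
    suffices h : w * (s ^ k)⁻¹ ∈ C' by
      have := mul_mem (mem_sup_left (T := D) h) (mem_sup_right (S := C') (pow_mem hsD k))
      simpa using this
    refine ⟨mul_mem hw (inv_mem (pow_mem hsW k)), ?_⟩
    rw [hσmul w hw _ (inv_mem (pow_mem hsW k)), hσid _ (inv_mem (pow_mem hsD k)), ← hs, map_inv,
      _root_.map_pow, inv_pow, ← pow_mul, mul_inv_eq_one]
    have hp1 : f s ^ p = 1 := by
      rw [← _root_.map_pow]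
      exact (QuotientGroup.eq_one_iff _).mpr (hel s hsW)
    rw [pow_eq_pow_mod _ hp1, mul_comm k, hk.2, pow_one]

omit [Finite A] hp in
theorem card_map_mul_card_inf_ker {B : Subgroup A} (f : A →* A) :
    Nat.card (B.map f) * Nat.card (B ⊓ f.ker : Subgroup A) = Nat.card B := by
  have h := Subgroup.card_mul_index (f.comp B.subtype).ker
  rw [index_ker] at h
  have e1 : (f.comp B.subtype).range = B.map f := by
    rw [MonoidHom.range_comp, range_subtype]
  have e2 : (f.comp B.subtype).ker.map B.subtype = B ⊓ f.ker := by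
    rw [← MonoidHom.comap_ker, map_comap_eq, range_subtype]
  rw [e1, ← card_subtype B (f.comp B.subtype).ker, e2, mul_comm] at h
  exact h

/-- If `Ω₁` is reducible, the module decomposes. -/
theorem exists_decomposition (hA : IsPGroup p A) (hX : (Nat.card X).Coprime p) {U₀ : Subgroup A}
    (hU₀ : Inv X U₀) (hU₀p : ∀ u ∈ U₀, u ^ p = 1) (hne : U₀ ≠ ⊥)
    (hnt : ¬ ∀ a : A, a ∈ U₀ ↔ a ^ p = 1) :
    ∃ B C : Subgroup A, B ≠ ⊥ ∧ C ≠ ⊥ ∧ Inv X B ∧ Inv X C ∧ B ⊓ C = ⊥ ∧ B ⊔ C = ⊤ := by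
  classical
  obtain ⟨N, hN⟩ := IsPGroup.iff_card.mp hA
  have hex : ∃ e, ∀ a : A, a ^ p ^ e = 1 := ⟨N, fun a => by rw [← hN, pow_card_eq_one']⟩
  obtain ⟨e, he, hemin⟩ : ∃ e, (∀ a : A, a ^ p ^ (e + 1) = 1) ∧ ∃ a : A, a ^ p ^ e ≠ 1 := by
    have h1 := Nat.find_spec hex
    have h0 : Nat.find hex ≠ 0 := fun h => by
      rw [h] at h1
      exact hne ((eq_bot_iff_forall _).mpr fun u _ => by simpa using h1 u)
    obtain ⟨e, he⟩ := Nat.exists_eq_succ_of_ne_zero h0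
    refine ⟨e, by rwa [he] at h1, ?_⟩
    by_contra hc
    simp only [not_exists, not_not] at hc
    exact Nat.find_min hex (by omega : e < Nat.find hex) hc
  set φ : A →* A := powMonoidHom (p ^ e) with hφ
  have hφp : ∀ a : A, φ a ^ p = 1 := fun a => by
    rw [hφ, powMonoidHom_apply, ← pow_mul, ← pow_succ, he a]
  obtain ⟨U, hUle, hU⟩ := exists_minimal_le_of_wellFoundedLT
    (fun U : Subgroup A => Inv X U ∧ U ≠ ⊥) φ.range
    ⟨by rw [MonoidHom.range_eq_map]; exact inv_top.map_pow _, fun h => by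
      obtain ⟨a, ha⟩ := hemin
      exact ha (mem_bot.mp (h ▸ MonoidHom.mem_range.mpr ⟨a, rfl⟩ : φ a ∈ (⊥ : Subgroup A)))⟩
  obtain ⟨hUi, hUne⟩ := hU.prop
  have hUp : ∀ u ∈ U, u ^ p = 1 := fun u hu => by
    obtain ⟨a, rfl⟩ := hUle hu
    exact hφp a
  have hUnot : ¬ ∀ a : A, a ^ p = 1 → a ∈ U := fun h => by
    have hle : U₀ ≤ U := fun u hu => h u (hU₀p u hu)
    have heq : U₀ = U := le_antisymm hle (hU.2 ⟨hU₀, hne⟩ hle)
    exact hnt fun a => ⟨hU₀p a, fun ha => heq ▸ h a ha⟩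
  obtain ⟨B, -, hB⟩ := exists_minimal_le_of_wellFoundedLT
    (fun B : Subgroup A => Inv X B ∧ U ≤ B.map φ) ⊤
    ⟨inv_top, hUle.trans (MonoidHom.range_eq_map φ).le⟩
  obtain ⟨hBi, hUB⟩ := hB.prop
  have hBP : B ≤ U.comap φ := by
    refine (hB.2 ⟨hBi.inf (hUi.comap_pow _), fun u hu => ?_⟩ inf_le_left).trans inf_le_right
    obtain ⟨b, hb, rfl⟩ := hUB hu
    exact ⟨b, ⟨hb, hu⟩, rfl⟩
  have hBU : B.map φ = U := le_antisymm (map_le_iff_le_comap.mpr hBP) hUB
  set Bp := B.map (powMonoidHom p : A →* A) with hBp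
  have hBpB : Bp ≤ B := map_le_iff_le_comap.mpr fun b hb => pow_mem hb p
  set K := B ⊓ φ.ker with hK
  have hKi : Inv X K := by
    refine hBi.inf fun x hx b hb => ?_
    rw [MonoidHom.mem_ker, hφ, powMonoidHom_apply] at hb ⊢
    rw [← _root_.map_pow, hb, map_one]
  have hBpK : Bp ≤ K := le_inf hBpB (map_le_iff_le_comap.mpr fun b _ => by
    show (b ^ p) ^ p ^ e = 1
    rw [← pow_mul, ← pow_succ', he b])
  obtain ⟨L, hLi, hLK, hLB⟩ := exists_inv_compl hX (hBi.map_pow p) hKi hBi hBpK inf_le_left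
    fun b hb => ⟨b, hb, rfl⟩
  have hBL : B ≤ L := by
    refine hB.2 ⟨hLi, ?_⟩ (le_sup_left.trans hLB.le)
    rw [← hBU]
    conv_lhs => rw [← hLB]
    rw [Subgroup.map_sup, show K.map φ = ⊥ from (Subgroup.map_eq_bot_iff K).mpr inf_le_right,
      sup_bot_eq]
  have hKeq : K = Bp := le_antisymm ((le_inf (inf_le_left.trans hBL) le_rfl).trans hLK.le) hBpK
  have hUleB : U ≤ B := hBU ▸ map_le_iff_le_comap.mpr fun b hb => pow_mem hb _
  have hB1 : B ⊓ (powMonoidHom p : A →* A).ker = U := by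
    refine (eq_of_le_of_card_ge (le_inf hUleB fun u hu => MonoidHom.mem_ker.mpr (hUp u hu)) ?_).symm
    have h1 := card_map_mul_card_inf_ker (B := B) (powMonoidHom p)
    have h2 := card_map_mul_card_inf_ker (B := B) φ
    rw [hBU, ← hK, hKeq] at h2
    rw [← h2, ← hBp, mul_comm] at h1
    exact (Nat.eq_of_mul_eq_mul_right Nat.card_pos h1).le
  obtain ⟨C, -, hC⟩ := (Set.toFinite {C : Subgroup A | Inv X C ∧ C ⊓ B = ⊥}).exists_le_maximal
    (a := ⊥) ⟨inv_bot, bot_inf_eq _⟩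
  obtain ⟨hCi, hCB⟩ := hC.prop
  have htop : B ⊔ C = ⊤ := by
    by_contra hne'
    obtain ⟨a₀, ha₀⟩ := SetLike.exists_not_mem_of_ne_top (B ⊔ C) hne'
    -- the first layer above `B ⊔ C`
    obtain ⟨a, ha, hap⟩ : ∃ a : A, a ∉ B ⊔ C ∧ a ^ p ∈ B ⊔ C := by
      have hex' : ∃ k, a₀ ^ p ^ k ∈ B ⊔ C := ⟨e + 1, by rw [he]; exact one_mem _⟩
      have h0 : Nat.find hex' ≠ 0 := fun h => ha₀ (by simpa [h] using Nat.find_spec hex')
      obtain ⟨k, hk⟩ := Nat.exists_eq_succ_of_ne_zero h0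
      refine ⟨a₀ ^ p ^ k, Nat.find_min hex' (by omega : k < Nat.find hex'), ?_⟩
      rw [← pow_mul, ← pow_succ]
      have hs := Nat.find_spec hex'
      rwa [hk] at hs
    obtain ⟨b, hb, c, hc, hbc⟩ := mem_sup.mp hap
    have hbK : b ∈ K := by
      refine ⟨hb, MonoidHom.mem_ker.mpr ?_⟩
      have h1 : φ b * φ c = 1 := by
        rw [← map_mul, hbc]
        show (a ^ p) ^ p ^ e = 1
        rw [← pow_mul, ← pow_succ', he a]
      have h2 : φ b ∈ C ⊓ B := by
        refine Subgroup.mem_inf.mpr ⟨?_, pow_mem hb _⟩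
        rw [eq_inv_of_mul_eq_one_left h1]
        exact inv_mem (pow_mem hc _)
      exact mem_bot.mp (hCB ▸ h2)
    rw [hKeq] at hbK
    obtain ⟨b₁, hb₁, rfl⟩ := hbK
    set W := C.comap (powMonoidHom p : A →* A) with hW
    have hCW : C ≤ W := fun x hx => pow_mem hx p
    have hmem : a * b₁⁻¹ ∈ W := by
      show (a * b₁⁻¹) ^ p ∈ C
      rw [mul_pow, ← hbc, inv_pow, powMonoidHom_apply, mul_comm (b₁ ^ p) c, mul_inv_cancel_right]
      exact hc
    obtain ⟨C', hC'i, hC'D, hC'W⟩ := exists_inv_compl hX hCi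
      ((hBi.sup hCi).inf (hCi.comap_pow p)) (hCi.comap_pow p) (le_inf le_sup_right hCW) inf_le_right
      (fun w hw => hw)
    have hC'le : C ≤ C' := hC'D.ge.trans inf_le_left
    have hC'B : C' ⊓ B = ⊥ := by
      refine le_bot_iff.mp (le_trans ?_ hCB.le)
      refine le_inf ?_ inf_le_right
      rintro x ⟨hx, hxB⟩
      refine hC'D.le ⟨hx, mem_sup_left hxB, ?_⟩
      exact hC'W.le (mem_sup_left hx)
    have hC'eq : C' ≤ C := hC.2 ⟨hC'i, hC'B⟩ hC'le
    have h2 : a * b₁⁻¹ ∈ B ⊔ C := by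
      have h3 := hC'W.ge hmem
      exact (sup_le (hC'eq.trans le_sup_right) inf_le_left : C' ⊔ ((B ⊔ C) ⊓ W) ≤ B ⊔ C) h3
    exact ha (by simpa using mul_mem h2 (mem_sup_left (T := C) hb₁))
  refine ⟨B, C, fun h => hUne (le_bot_iff.mp (h ▸ hUleB)), ?_, hBi, hCi, inf_comm C B ▸ hCB, htop⟩
  rintro rfl
  rw [sup_bot_eq] at htop
  exact hUnot fun a ha => hB1.le ⟨htop ▸ mem_top a, MonoidHom.mem_ker.mpr ha⟩

/-- With `Ω₁` irreducible every invariant subgroup is some `Ω_i`. -/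
theorem eq_omega_of_irreducible
    (h : ∀ B : Subgroup A, Inv X B → (∀ b ∈ B, b ^ p = 1) → B = ⊥ ∨ ∀ a : A, a ∈ B ↔ a ^ p = 1) :
    ∀ (i : ℕ) (B : Subgroup A), Inv X B → (∀ b ∈ B, b ^ p ^ i = 1) →
      ∃ j : ℕ, ∀ a : A, a ∈ B ↔ a ^ p ^ j = 1 := by
  intro i
  induction i with
  | zero =>
    exact fun B _ hB => ⟨0, fun a => ⟨hB a, fun ha => by rw [pow_zero, pow_one] at ha; rw [ha]; exact one_mem B⟩⟩
  | succ i ih =>
    intro B hBi hB
    obtain ⟨j, hj⟩ := ih (B.map (powMonoidHom p)) (hBi.map_pow p) (by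
      rintro _ ⟨b, hb, rfl⟩
      show (b ^ p) ^ p ^ i = 1
      rw [← pow_mul, ← pow_succ', hB b hb])
    rcases h (B ⊓ (powMonoidHom p : A →* A).ker)
        (hBi.inf fun x hx b hb => by
          rw [MonoidHom.mem_ker, powMonoidHom_apply] at hb ⊢
          rw [← _root_.map_pow, hb, map_one])
        (fun b hb => MonoidHom.mem_ker.mp hb.2) with h0 | h1
    · refine ⟨0, fun a => ⟨fun ha => ?_, fun ha => by rw [pow_zero, pow_one] at ha; rw [ha]; exact one_mem B⟩⟩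
      rw [pow_zero, pow_one]
      by_contra hne
      obtain ⟨k, hk, hk'⟩ : ∃ k, a ^ p ^ k ≠ 1 ∧ a ^ p ^ (k + 1) = 1 := by
        classical
        have hex : ∃ k, a ^ p ^ k = 1 := ⟨i + 1, hB a ha⟩
        have hk0 : Nat.find hex ≠ 0 := fun h => hne (by simpa [h] using Nat.find_spec hex)
        obtain ⟨k, hk⟩ := Nat.exists_eq_succ_of_ne_zero hk0
        exact ⟨k, Nat.find_min hex (by omega : k < Nat.find hex), by have hs := Nat.find_spec hex; rwa [hk] at hs⟩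
      refine hk (mem_bot.mp (h0 ▸ (⟨pow_mem ha _, MonoidHom.mem_ker.mpr ?_⟩ :
        a ^ p ^ k ∈ B ⊓ (powMonoidHom p : A →* A).ker)))
      rw [powMonoidHom_apply, ← pow_mul, ← pow_succ]
      exact hk'
    · refine ⟨j + 1, fun a => ⟨fun ha => ?_, fun ha => ?_⟩⟩
      · rw [pow_succ', pow_mul]
        exact (hj _).mp ⟨a, ha, rfl⟩
      · rw [pow_succ', pow_mul] at ha
        obtain ⟨b, hb, hba⟩ := (hj _).mpr ha
        have h2 : a * b⁻¹ ∈ B := ((h1 _).mpr (by
          rw [mul_pow, inv_pow, show b ^ p = a ^ p from hba, mul_inv_cancel])).1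
        simpa using mul_mem h2 hb

end CfsgLib.Solvable.AbelianModule
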