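import Mathlib.GroupTheory.Complement
import Mathlib.GroupTheory.Index
import Mathlib.GroupTheory.OrderOfElement
import Mathlib.Algebra.BigOperators.Group.Finset.Basic
import Mathlib.Algebra.Group.Subgroup.Pointwise
import Mathlib.Tactic.Group

/-!
Gaschütz' theorem: existence and conjugacy of complements of an abelian normal subgroup.
-/

set_option autoImplicit false
set_option linter.style.haveILetI false

open scoped Pointwise

namespace CfsgLib.Solvable

variable {G : Type*} [Group G] (K A : Subgroup G) [K.Normal]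

/-- Conjugation by `g` on the normal subgroup `K`. -/
def conjK (g : G) : K →* K where
  toFun x := ⟨g * x * g⁻¹, Subgroup.Normal.conj_mem inferInstance _ x.2 g⟩
  map_one' := Subtype.ext (by simp)
  map_mul' x y := Subtype.ext (by simp only [Subgroup.coe_mul]; group)

theorem conjK_conjK (g h : G) (x : K) : conjK K g (conjK K h x) = conjK K (g * h) x :=
  Subtype.ext (by simp only [conjK, MonoidHom.coe_mk, OneHom.coe_mk]; group)

theorem exists_component (g : G) :
    ∃ k : K, g ∈ K ⊔ A → ((k : G))⁻¹ * g ∈ A := by
  by_cases h : g ∈ K ⊔ A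
  · obtain ⟨y, hy, z, hz, rfl⟩ := Subgroup.mem_sup_of_normal_left.1 h
    exact ⟨⟨y, hy⟩, fun _ => by simpa using hz⟩
  · exact ⟨1, fun h' => absurd h' h⟩

/-- The `K`-component of an element of `K ⊔ A`. -/
noncomputable def component (g : G) : K := (exists_component K A g).choose

variable {K A}

theorem component_spec {g : G} (hg : g ∈ K ⊔ A) : ((component K A g : K) : G)⁻¹ * g ∈ A :=
  (exists_component K A g).choose_spec hg

theorem component_eq (hAK : A ⊓ K = ⊥) {g : G} (hg : g ∈ K ⊔ A) {k : K} (hk : (k : G)⁻¹ * g ∈ A) :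
    component K A g = k := by
  have h1 : (k : G)⁻¹ * component K A g ∈ A := by
    have := A.mul_mem hk (A.inv_mem (component_spec hg))
    simpa [mul_assoc] using this
  have h2 : (k : G)⁻¹ * component K A g ∈ A ⊓ K := ⟨h1, K.mul_mem (K.inv_mem k.2) (component K A g).2⟩
  rw [hAK, Subgroup.mem_bot, inv_mul_eq_one] at h2
  exact (Subtype.ext h2).symm

theorem component_mul [IsMulCommutative K] (hAK : A ⊓ K = ⊥) {g h : G} (hg : g ∈ K ⊔ A)
    (hh : h ∈ K ⊔ A) : component K A (g * h) = component K A g * conjK K g (component K A h) := by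
  refine component_eq hAK (mul_mem hg hh) ?_
  set k := (component K A g : G) with hk
  set l := (component K A h : G) with hl
  have hkK : k ∈ K := (component K A g).2
  have hlK : l ∈ K := (component K A h).2
  have hc : g * l * g⁻¹ * k = k * (g * l * g⁻¹) :=
    setLike_mul_comm (Subgroup.Normal.conj_mem inferInstance _ hlK g) hkK
  have e : ((component K A g * conjK K g (component K A h) : K) : G) = k * (g * l * g⁻¹) := rfl
  rw [e, ← hc]
  have := A.mul_mem (component_spec hg) (component_spec hh)
  convert this using 1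
  rw [← hk, ← hl]
  group

theorem component_of_mem (hAK : A ⊓ K = ⊥) {g : G} (hg : g ∈ K) : component K A g = ⟨g, hg⟩ :=
  component_eq hAK (Subgroup.mem_sup_left hg) (by simp [A.one_mem])

theorem component_eq_one_of_mem (hAK : A ⊓ K = ⊥) {g : G} (hg : g ∈ A) : component K A g = 1 :=
  component_eq hAK (Subgroup.mem_sup_right hg) (by simpa using hg)

/-- Gaschütz: an abelian normal subgroup of order prime to the index of `U` has a complement if it
has one in `U`. -/
theorem exists_isComplement'_of_le [Finite G] [IsMulCommutative K] {U : Subgroup G} (hKU : K ≤ U)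
    (hcop : (Nat.card K).Coprime U.index) (hAK : A ⊓ K = ⊥) (hKA : K ⊔ A = U) :
    ∃ H : Subgroup G, Subgroup.IsComplement' K H := by
  classical
  haveI : Fintype (G ⧸ U) := Fintype.ofFinite _
  letI : CommGroup K :=
    { (inferInstance : Group K) with mul_comm := fun a b => Subtype.ext (setLike_mul_comm a.2 b.2) }
  let u : G → G ⧸ U → G := fun g q => (g • q).out⁻¹ * g * q.out
  have hu : ∀ g q, u g q ∈ U := fun g q => by
    have : QuotientGroup.mk (s := U) (g • q).out = QuotientGroup.mk (g * q.out) := by
      rw [QuotientGroup.out_eq', ← smul_eq_mul, MulAction.Quotient.coe_smul_out]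
    simpa [u, mul_assoc] using QuotientGroup.eq.1 this
  let D : G → K := fun g => ∏ q, conjK K (g • q).out (component K A (u g q))
  have hD : ∀ g h, D (g * h) = D g * conjK K g (D h) := by
    intro g h
    simp only [D, map_prod]
    rw [← Equiv.prod_comp (MulAction.toPerm h) (fun q => conjK K (g • q).out (component K A (u g q))),
      ← Finset.prod_mul_distrib]
    refine Finset.prod_congr rfl fun q _ => ?_
    have hdec : u (g * h) q = u g (h • q) * u h q := by
      simp only [u, mul_smul]; group
    simp only [MulAction.toPerm_apply]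
    rw [hdec, component_mul hAK (by rw [hKA]; exact hu _ _) (by rw [hKA]; exact hu _ _), map_mul, conjK_conjK, conjK_conjK,
      mul_smul]
    congr 2
    simp only [u]
    group
  have hfix : ∀ k ∈ K, ∀ q : G ⧸ U, k • q = q := by
    intro k hk q
    conv_lhs => rw [← QuotientGroup.out_eq' q]
    rw [← MulAction.Quotient.coe_smul_out]
    conv_rhs => rw [← QuotientGroup.out_eq' q]
    refine QuotientGroup.eq.2 ?_
    rw [QuotientGroup.out_eq']
    have := hKU (Subgroup.Normal.conj_mem ‹K.Normal› _ (K.inv_mem hk) q.out⁻¹)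
    simpa [mul_assoc] using this
  have hDK : ∀ k : K, D (k : G) = k ^ U.index := by
    intro k
    simp only [D]
    rw [Subgroup.index_eq_card, Nat.card_eq_fintype_card, ← Finset.card_univ, ← Finset.prod_const]
    refine Finset.prod_congr rfl fun q _ => ?_
    simp only [u, hfix _ k.2 q]
    rw [component_of_mem hAK (by
      simpa using Subgroup.Normal.conj_mem ‹K.Normal› _ k.2 q.out⁻¹)]
    exact Subtype.ext (by simp only [conjK, MonoidHom.coe_mk, OneHom.coe_mk]; group)
  let P := powCoprime hcop
  let f : G → K := fun g => P.symm (D g)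
  have hf : ∀ g h, f (g * h) = f g * conjK K g (f h) := by
    intro g h
    apply P.injective
    simp only [f, Equiv.apply_symm_apply, P, powCoprime_apply, mul_pow, ← map_pow, hD]
    simp only [← powCoprime_apply hcop, Equiv.apply_symm_apply]
  have hfK : ∀ k : K, f (k : G) = k := fun k => by
    simp only [f, hDK, P, ← powCoprime_apply hcop, Equiv.symm_apply_apply]
  have hf1 : f 1 = 1 := hfK 1
  let H : Subgroup G :=
    { carrier := {g | f g = 1}
      one_mem' := hf1
      mul_mem' := fun {a b} ha hb => by
        show f (a * b) = 1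
        rw [hf, ha, hb, map_one, mul_one]
      inv_mem' := fun {a} ha => by
        show f a⁻¹ = 1
        have h := hf a⁻¹ a
        rw [inv_mul_cancel, hf1, show f a = 1 from ha, map_one, mul_one] at h
        exact h.symm }
  refine ⟨H, Subgroup.isComplement'_of_disjoint_and_mul_eq_univ ?_ (Set.eq_univ_of_forall fun g => ?_)⟩
  · rw [Subgroup.disjoint_def]
    intro x hx hxH
    have h := hfK ⟨x, hx⟩
    rw [show f x = 1 from hxH] at h
    exact congrArg Subtype.val h.symm
  · refine ⟨f g, (f g).2, ((f g : K) : G)⁻¹ * g, ?_, mul_inv_cancel_left _ _⟩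
    show f _ = 1
    rw [← Subgroup.coe_inv, hf, hfK]
    have hc : conjK K ((f g)⁻¹ : K) (f g) = f g :=
      Subtype.ext (by simp only [conjK, MonoidHom.coe_mk, OneHom.coe_mk, Subgroup.coe_inv]; group)
    rw [hc, inv_mul_cancel]

/-- Gaschütz: complements of an abelian normal subgroup which agree inside `U` are conjugate. -/
theorem exists_conj_eq_of_inf_eq [Finite G] [IsMulCommutative K] {U : Subgroup G} (hKU : K ≤ U)
    (hcop : (Nat.card K).Coprime U.index) {H₀ H₁ : Subgroup G} (h₀ : Subgroup.IsComplement' K H₀)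
    (h₁ : Subgroup.IsComplement' K H₁) (hU : H₀ ⊓ U = H₁ ⊓ U) :
    ∃ g : G, MulAut.conj g • H₀ = H₁ := by
  classical
  haveI : Fintype (G ⧸ U) := Fintype.ofFinite _
  letI : CommGroup K :=
    { (inferInstance : Group K) with mul_comm := fun a b => Subtype.ext (setLike_mul_comm a.2 b.2) }
  have b₀ : H₀ ⊓ K = ⊥ := disjoint_iff.1 h₀.disjoint.symm
  have b₁ : H₁ ⊓ K = ⊥ := disjoint_iff.1 h₁.disjoint.symm
  have m₀ : ∀ g : G, g ∈ K ⊔ H₀ := fun g => h₀.sup_eq_top ▸ Subgroup.mem_top g
  have m₁ : ∀ g : G, g ∈ K ⊔ H₁ := fun g => h₁.sup_eq_top ▸ Subgroup.mem_top g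
  let d : G → K := fun g => component K H₀ g * (component K H₁ g)⁻¹
  have hd : ∀ g h, d (g * h) = d g * conjK K g (d h) := by
    intro g h
    simp only [d, component_mul b₀ (m₀ g) (m₀ h), component_mul b₁ (m₁ g) (m₁ h), map_mul, map_inv,
      mul_inv]
    exact mul_mul_mul_comm _ _ _ _
  have hdU : ∀ u ∈ U, d u = 1 := by
    intro u hu
    have hk : ((component K H₀ u : K) : G)⁻¹ * u ∈ H₁ ⊓ U := by
      rw [← hU]
      exact ⟨component_spec (m₀ u), U.mul_mem (U.inv_mem (hKU (component K H₀ u).2)) hu⟩
    simp only [d, component_eq b₁ (m₁ u) hk.1, mul_inv_cancel]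
  have hdq : ∀ g, d g = d (QuotientGroup.mk (s := U) g).out := by
    intro g
    obtain ⟨u, hu⟩ := QuotientGroup.mk_out_eq_mul U g
    rw [hu, hd, hdU u u.2, map_one, mul_one]
  let x : K := ∏ q : G ⧸ U, d q.out
  have hx : ∀ g, d g ^ U.index * conjK K g x = x := by
    intro g
    simp only [x, map_prod]
    rw [Subgroup.index_eq_card, Nat.card_eq_fintype_card, ← Finset.card_univ, ← Finset.prod_const,
      ← Finset.prod_mul_distrib]
    refine Fintype.prod_equiv (MulAction.toPerm g) _ _ fun q => ?_
    simp only [MulAction.toPerm_apply]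
    rw [← hd, hdq (g * q.out), ← smul_eq_mul, MulAction.Quotient.coe_smul_out]
  let P := powCoprime hcop
  let y : K := P.symm x
  have hy : ∀ g, d g * conjK K g y = y := by
    intro g
    apply P.injective
    simp only [P, powCoprime_apply, mul_pow, ← map_pow]
    simp only [← powCoprime_apply hcop, y, P, Equiv.apply_symm_apply]
    exact hx g
  refine ⟨(y : G), Subgroup.eq_of_le_of_card_ge ?_ ?_⟩
  · intro z hz
    rw [Subgroup.mem_pointwise_smul_iff_inv_smul_mem] at hz
    set g := (MulAut.conj (y : G))⁻¹ • z with hg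
    have hzg : z = (y : G) * g * (y : G)⁻¹ := by
      simp only [hg, MulAut.smul_def, MulAut.conj_inv_apply]; group
    have h := congrArg Subtype.val (hy g)
    simp only [d, component_eq_one_of_mem b₀ hz, one_mul] at h
    have h' : ((component K H₁ g : K) : G)⁻¹ * (g * y * g⁻¹) = y := h
    have hmem := component_spec (m₁ g)
    have hc : ((component K H₁ g : K) : G) = g * y * g⁻¹ * (y : G)⁻¹ := by
      rw [← mul_inv_eq_iff_eq_mul.2 (inv_mul_eq_iff_eq_mul.1 h'), ]
    rw [hc] at hmem
    rw [hzg]
    convert hmem using 1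
    group
  · rw [Nat.card_congr (Subgroup.equivSMul (MulAut.conj (y : G)) H₀).toEquiv.symm]
    exact le_of_eq (h₁.symm.index_eq_card.symm.trans h₀.symm.index_eq_card)

end CfsgLib.Solvable
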