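import Cfsg.Agent.Lib.Solvable.SchurZassenhaus
import Cfsg.Agent.Lib.Solvable.Hall

/-!
Hall's theorems for `π`-separable groups, relative to the hypothesis `hFT` that groups of odd
order are solvable.
-/

set_option autoImplicit false
open scoped Pointwise
open Subgroup

namespace CfsgLib.Solvable

universe u

/-- All prime divisors of `n` lie in `π`. -/
def PrimesIn (π : Set ℕ) (n : ℕ) : Prop := ∀ q : ℕ, q.Prime → q ∣ n → q ∈ π

/-- All prime divisors of `n` lie outside `π`. -/
def PrimesOut (π : Set ℕ) (n : ℕ) : Prop := ∀ q : ℕ, q.Prime → q ∣ n → q ∉ π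

/-- A normal series with all indices `π`-numbers or `π'`-numbers. -/
def IsPiSeparable (π : Set ℕ) (G : Type u) [Group G] : Prop :=
  ∃ (n : ℕ) (H : Fin (n + 1) → Subgroup G), H 0 = ⊥ ∧ H (Fin.last n) = ⊤ ∧ Monotone H ∧
    (∀ i, (H i).Normal) ∧ ∀ i : Fin n, PrimesIn π ((H i.castSucc).relIndex (H i.succ)) ∨
      PrimesOut π ((H i.castSucc).relIndex (H i.succ))

theorem IsPiSeparable.quotient {π : Set ℕ} {G : Type u} [Group G] [Finite G]
    (hG : IsPiSeparable π G) (N : Subgroup G) [N.Normal] : IsPiSeparable π (G ⧸ N) := by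
  obtain ⟨n, H, h0, hl, hm, hn, hfac⟩ := hG
  have hsurj := QuotientGroup.mk'_surjective N
  refine ⟨n, fun i => (H i).map (QuotientGroup.mk' N), by simp [h0], by
    simp [hl, Subgroup.map_top_of_surjective _ hsurj], fun i j hij => map_mono (hm hij),
    fun i => (hn i).map _ hsurj, fun i => ?_⟩
  have := hn i.castSucc
  have hd : ((H i.castSucc).map (QuotientGroup.mk' N)).relIndex
      ((H i.succ).map (QuotientGroup.mk' N)) ∣ (H i.castSucc).relIndex (H i.succ) := by
    rw [Subgroup.relIndex_map_map, QuotientGroup.ker_mk']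
    have : (H i.castSucc ⊔ N).Normal := inferInstance
    have h1 : (H i.castSucc ⊔ N).relIndex (H i.succ ⊔ N) =
        (H i.castSucc ⊔ N).relIndex (H i.succ) := by
      rw [← Subgroup.relIndex_sup_right (H i.succ) (H i.castSucc ⊔ N)]
      congr 1
      rw [← sup_assoc, sup_eq_left.mpr (hm (Fin.castSucc_le_succ i))]
    rw [h1]
    exact Subgroup.relIndex_dvd_of_le_left _ le_sup_left
  rcases hfac i with h | h
  · exact Or.inl fun q hq hd' => h q hq (hd'.trans hd)
  · exact Or.inr fun q hq hd' => h q hq (hd'.trans hd)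

theorem exists_normal_primesIn_or_out {π : Set ℕ} {G : Type u} [Group G] [Finite G] [Nontrivial G]
    (hG : IsPiSeparable π G) :
    ∃ N : Subgroup G, N.Normal ∧ N ≠ ⊥ ∧ (PrimesIn π (Nat.card N) ∨ PrimesOut π (Nat.card N)) := by
  obtain ⟨n, S, h0, hl, -, hn, hfac⟩ := hG
  by_contra hne
  simp only [not_exists, not_and, not_or] at hne
  have hall : ∀ i, S i = ⊥ := by
    refine Fin.induction h0 fun i hi => ?_
    by_contra h
    obtain ⟨h1, h2⟩ := hne (S i.succ) (hn _) h
    have hi' := hfac i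
    rw [hi, relIndex_bot_left] at hi'
    exact hi'.elim h1 h2
  exact top_ne_bot (hl ▸ hall (Fin.last n))

theorem coprime_of_primesIn_out {π : Set ℕ} {a b : ℕ} (ha : PrimesOut π a) (hb : PrimesIn π b) :
    a.Coprime b :=
  Nat.coprime_of_dvd fun q hq h1 h2 => ha q hq h1 (hb q hq h2)

theorem solvable_or_of_coprime
    (hFT : ∀ (X : Type u) [Group X] [Finite X], Odd (Nat.card X) → Group.IsSolvable X)
    {G : Type u} [Group G] [Finite G] (A B : Subgroup G)
    (h : (Nat.card A).Coprime (Nat.card B)) : Group.IsSolvable A ∨ Group.IsSolvable B := by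
  rcases Nat.even_or_odd (Nat.card A) with ha | ha
  · refine Or.inr (hFT B ?_)
    by_contra hb
    rw [Nat.not_odd_iff_even] at hb
    exact absurd (Nat.eq_one_of_dvd_coprimes h (even_iff_two_dvd.1 ha) (even_iff_two_dvd.1 hb))
      (by norm_num)
  · exact Or.inl (hFT A ha)

/-- **Hall–Čunihin**: a `π`-separable group has a Hall `π`-subgroup containing a conjugate of
every `π`-subgroup. -/
theorem exists_piSeparable_hall_dominant
    (hFT : ∀ (X : Type u) [Group X] [Finite X], Odd (Nat.card X) → Group.IsSolvable X)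
    (π : Set ℕ) : ∀ (n : ℕ) (G : Type u) [Group G] [Finite G], Nat.card G = n →
    IsPiSeparable π G → ∃ H : Subgroup G, Cfsg.IsPiHall π H ∧
      ∀ K : Subgroup G, PrimesIn π (Nat.card K) → ∃ g : G, MulAut.conj g • K ≤ H := by
  intro n
  induction n using Nat.strong_induction_on with
  | _ n ih =>
  intro G _ _ hn hG
  rcases subsingleton_or_nontrivial G with h1 | h1
  · refine ⟨⊥, ⟨fun p hp h => ?_, fun p hp _ h => ?_⟩, fun K _ => ⟨1, ?_⟩⟩
    · rw [card_bot, Nat.dvd_one] at h
      exact absurd h hp.ne_one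
    · rw [index_bot, Nat.card_unique, Nat.dvd_one] at h
      exact absurd h hp.ne_one
    · exact fun x _ => mem_bot.mpr (Subsingleton.elim x 1)
  obtain ⟨N, hNn, hN1, hN⟩ := exists_normal_primesIn_or_out hG
  have hlt : Nat.card (G ⧸ N) < n := by
    rw [← hn, ← index_eq_card, ← card_mul_index N]
    exact lt_mul_of_one_lt_left (Nat.pos_of_ne_zero index_ne_zero_of_finite)
      (N.one_lt_card_iff_ne_bot.mpr hN1)
  obtain ⟨Hb, ⟨hHb1, hHb2⟩, hdom⟩ := ih _ hlt (G ⧸ N) rfl (hG.quotient N)
  set f := QuotientGroup.mk' N with hf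
  have hsurj : Function.Surjective f := QuotientGroup.mk'_surjective N
  set L := Hb.comap f with hL
  have key : ∀ K : Subgroup G, PrimesIn π (Nat.card K) →
      ∃ g : G, MulAut.conj g • K ≤ L := by
    intro K hK
    obtain ⟨g, hg⟩ := hdom (K.map f) fun q hq h => hK q hq (h.trans (card_map_dvd _ f))
    obtain ⟨g, rfl⟩ := hsurj g
    rw [← map_conj_smul, map_le_iff_le_comap] at hg
    exact ⟨g, hg⟩
  have cL : Nat.card L = Nat.card N * Nat.card Hb := card_comap_mk' N Hb
  have iL : L.index = Hb.index := index_comap_of_surjective _ hsurj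
  rcases hN with hNi | hNo
  · refine ⟨L, ⟨fun q hq h => ?_, fun q hq hqπ h => hHb2 q hq hqπ (iL ▸ h)⟩, key⟩
    rw [cL] at h
    exact (hq.dvd_mul.mp h).elim (hNi q hq) (hHb1 q hq)
  have hNL : N ≤ L := by
    rw [hL, ← map_le_iff_le_comap, (Subgroup.map_eq_bot_iff N).mpr (QuotientGroup.ker_mk' N).ge]
    exact bot_le
  have cNL := Nat.card_congr (subgroupOfEquivOfLe hNL).toEquiv
  have hidx : (N.subgroupOf L).index = Nat.card Hb := by
    have h := card_mul_index (N.subgroupOf L)
    rw [cNL, cL] at h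
    exact Nat.eq_of_mul_eq_mul_left Nat.card_pos h
  have hcop : (Nat.card N).Coprime (Nat.card Hb) := coprime_of_primesIn_out hNo hHb1
  obtain ⟨C, hC⟩ := exists_right_complement'_of_coprime (N := N.subgroupOf L)
    (by rw [cNL, hidx]; exact hcop)
  set H := C.map L.subtype with hH
  have cH : Nat.card H = Nat.card Hb := by
    rw [hH, Subgroup.card_subtype, ← hidx, hC.symm.index_eq_card]
  have hHN : N ⊔ H = L := by
    rw [hH, ← map_subgroupOf_eq_of_le hNL, ← Subgroup.map_sup, hC.sup_eq_top,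
      ← MonoidHom.range_eq_map, range_subtype]
  refine ⟨H, ⟨fun q hq h => hHb1 q hq (cH ▸ h), fun q hq hqπ h => ?_⟩, fun K hK => ?_⟩
  · have hHi : H.index = Nat.card N * Hb.index := by
      refine Nat.eq_of_mul_eq_mul_left (Nat.card_pos (α := H)) ?_
      rw [card_mul_index, ← card_mul_index L, cL, iL, cH]
      ring
    rw [hHi] at h
    exact (hq.dvd_mul.mp h).elim (fun h => hNo q hq h hqπ) (hHb2 q hq hqπ)
  · obtain ⟨g, hg⟩ := key K hK
    rw [← hHN] at hg
    have hc1 : (Nat.card N).Coprime (Nat.card H) := cH ▸ hcop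
    obtain ⟨a, -, ha⟩ := exists_conj_le_of_coprime (N := N) le_normalizer_of_normal hg hc1
      (by rw [card_conj_smul]; exact coprime_of_primesIn_out hNo hK)
      (solvable_or_of_coprime hFT N H hc1)
    exact ⟨a * g, by rwa [← conj_smul_conj_smul]⟩

/-- Hall `π`-subgroups of a `π`-separable group: existence, conjugacy, domination. -/
theorem piSeparable_hall
    (hFT : ∀ (X : Type u) [Group X] [Finite X], Odd (Nat.card X) → Group.IsSolvable X)
    {π : Set ℕ} {G : Type u} [Group G] [Finite G] (hG : IsPiSeparable π G) :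
    (∃ K : Subgroup G, Cfsg.IsPiHall π K) ∧
      (∀ K L : Subgroup G, Cfsg.IsPiHall π K → Cfsg.IsPiHall π L →
        ∃ g : G, L = K.map (MulAut.conj g).toMonoidHom) ∧
      ∀ U : Subgroup G, PrimesIn π (Nat.card U) → ∃ K : Subgroup G, Cfsg.IsPiHall π K ∧ U ≤ K := by
  obtain ⟨D, hD, hdom⟩ := exists_piSeparable_hall_dominant hFT π _ G rfl hG
  refine ⟨⟨D, hD⟩, fun K L hK hL => ?_, fun U hU => ?_⟩
  · obtain ⟨a, ha⟩ := hdom K hK.1
    obtain ⟨b, hb⟩ := hdom L hL.1
    have ha' := eq_of_le_of_card_ge ha (by rw [card_conj_smul, card_eq_of_isPiHall hD hK])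
    have hb' := eq_of_le_of_card_ge hb (by rw [card_conj_smul, card_eq_of_isPiHall hD hL])
    refine ⟨b⁻¹ * a, ?_⟩
    rw [← conj_smul_eq_map, ← conj_smul_conj_smul, ha', ← hb', conj_smul_conj_smul,
      inv_mul_cancel, map_one, one_smul]
  · obtain ⟨g, hg⟩ := hdom U hU
    refine ⟨MulAut.conj g⁻¹ • D, isPiHall_conj_smul hD _, ?_⟩
    rw [map_inv]
    exact pointwise_smul_subset_iff.mp hg

end CfsgLib.Solvable
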