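import Cfsg.Agent.Lib.Solvable.Core
import Cfsg.Prelude.Def_LocalEven

/-!
# The Fitting subgroup and chief factors
-/

set_option autoImplicit false
set_option linter.style.haveILetI false

open scoped commutatorElement

namespace CfsgLib.Solvable

variable {G : Type*} [Group G]

theorem map_mk'_le_iff {U V : Subgroup G} [V.Normal] :
    U.map (QuotientGroup.mk' V) = ⊥ ↔ U ≤ V := by
  rw [Subgroup.map_eq_bot_iff, QuotientGroup.ker_mk']

/-- The Fitting subgroup centralizes every chief factor. -/
theorem commutator_chiefFactor_fitting_le [Finite G] {U V : Subgroup G}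
    (hc : Cfsg.IsChiefFactor U V) : ⁅U, Cfsg.fittingSubgroup G⁆ ≤ V := by
  haveI := hc.2.1
  haveI := hc.2.2.1
  haveI := fittingSubgroup_normal G
  haveI := fittingSubgroup_normal (G ⧸ V)
  have hπ : Function.Surjective (QuotientGroup.mk' V) := QuotientGroup.mk'_surjective V
  set π := QuotientGroup.mk' V with hπdef
  haveI hUn : (U.map π).Normal := hc.2.1.map _ hπ
  set F := Cfsg.fittingSubgroup (G ⧸ V) with hF
  rw [← map_mk'_le_iff, ← hπdef, Subgroup.map_commutator, eq_bot_iff]
  refine le_trans (Subgroup.commutator_mono le_rfl (map_fittingSubgroup_le_of_surjective hπ)) ?_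
  by_contra hne
  have hM : ⁅U.map π, F⁆ = U.map π := by
    have hVle : V ≤ (⁅U.map π, F⁆).comap π := fun v hv => by
      rw [Subgroup.mem_comap, hπdef, QuotientGroup.mk'_apply, (QuotientGroup.eq_one_iff v).2 hv]
      exact one_mem _
    have hleU : (⁅U.map π, F⁆).comap π ≤ U := by
      refine (Subgroup.comap_mono (Subgroup.commutator_le_left _ _)).trans ?_
      rw [Subgroup.comap_map_eq, QuotientGroup.ker_mk', sup_eq_left.2 hc.1.le]
    rcases hc.2.2.2 _ inferInstance hVle hleU with h | h
    · refine absurd ?_ hne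
      rw [← Subgroup.map_comap_eq_self_of_surjective hπ ⁅U.map π, F⁆, h, map_mk'_le_iff.2 le_rfl]
    · rw [← Subgroup.map_comap_eq_self_of_surjective hπ ⁅U.map π, F⁆, h]
  have hle : ∀ k, U.map π ≤ F.lowerCentralSeries k := by
    intro k
    induction k with
    | zero => exact hM ▸ Subgroup.commutator_le_right _ _
    | succ k ih => exact hM ▸ Subgroup.commutator_mono ih le_rfl
  obtain ⟨n, hn⟩ := (Subgroup.isNilpotent_iff_lowerCentralSeries F).1
    (fittingSubgroup_isNilpotent (G ⧸ V))
  have := hle n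
  rw [hn] at this
  exact hne ((Subgroup.commutator_le_left _ _).trans this)

/-- A subgroup centralizing all chief factors below a normal subgroup containing its derived
group is nilpotent. -/
theorem isNilpotent_of_commutator_chiefFactor [Finite G] {B D : Subgroup G} [D.Normal]
    (hB : ⁅B, B⁆ ≤ D)
    (h : ∀ U V : Subgroup G, Cfsg.IsChiefFactor U V → U ≤ D → ⁅U, B⁆ ≤ V) :
    Group.IsNilpotent B := by
  have key : ∀ m : ℕ, ∀ W : Subgroup G, Nat.card W ≤ m → W.Normal → W ≤ D →
      ∀ j, B.lowerCentralSeries j ≤ W → ∃ n, B.lowerCentralSeries n = ⊥ := by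
    intro m
    induction m with
    | zero => intro W hW; exact absurd hW (Nat.not_le.2 Nat.card_pos)
    | succ m ih =>
      intro W hm hWn hWD j hj
      by_cases hW : W = ⊥
      · exact ⟨j, eq_bot_iff.2 (hW ▸ hj)⟩
      obtain ⟨V, hV⟩ := (Set.toFinite {M : Subgroup G | M.Normal ∧ M < W}).exists_maximal
        ⟨⊥, inferInstance, bot_lt_iff_ne_bot.2 hW⟩
      have hc : Cfsg.IsChiefFactor W V := ⟨hV.1.2, hWn, hV.1.1, fun M hM hVM hMW => by
        rcases eq_or_lt_of_le hMW with h1 | h1
        · exact Or.inr h1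
        · exact Or.inl (le_antisymm (hV.2 ⟨hM, h1⟩ hVM) hVM)⟩
      refine ih V ?_ hV.1.1 (hV.1.2.le.trans hWD) (j + 1)
        ((Subgroup.commutator_mono hj le_rfl).trans (h W V hc hWD))
      have hlt : Nat.card V < Nat.card W := (Subgroup.card_le_of_le hV.1.2.le).lt_of_ne
        fun he => hV.1.2.ne (Subgroup.eq_of_le_of_card_ge hV.1.2.le he.ge)
      omega
  exact (Subgroup.isNilpotent_iff_lowerCentralSeries B).2
    (key _ D le_rfl inferInstance le_rfl 1 hB)

/-- In a solvable group a chief factor is abelian. -/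
theorem commutator_chiefFactor_self_le [Group.IsSolvable G] {U V : Subgroup G}
    (hc : Cfsg.IsChiefFactor U V) : ⁅U, U⁆ ≤ V := by
  haveI := hc.2.1
  haveI := hc.2.2.1
  have hπ : Function.Surjective (QuotientGroup.mk' V) := QuotientGroup.mk'_surjective V
  set π := QuotientGroup.mk' V with hπdef
  haveI hUn : (U.map π).Normal := hc.2.1.map _ hπ
  rcases hc.2.2.2 (⁅U, U⁆ ⊔ V) inferInstance le_sup_right
    (sup_le (Subgroup.commutator_le_left _ _) hc.1.le) with h | h
  · exact h ▸ le_sup_left
  · exfalso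
    have hM : ⁅U.map π, U.map π⁆ = U.map π := by
      have h1 := congrArg (Subgroup.map π) h
      rwa [Subgroup.map_sup, map_mk'_le_iff.2 (le_refl V), sup_bot_eq, Subgroup.map_commutator] at h1
    have hle : ∀ k, U.map π ≤ derivedSeries (G ⧸ V) k := by
      intro k
      induction k with
      | zero => exact le_top
      | succ k ih => exact hM ▸ Subgroup.commutator_mono ih ih
    haveI : Group.IsSolvable (G ⧸ V) := Group.isSolvable_of_surjective hπ
    obtain ⟨n, hn⟩ := (inferInstance : Group.IsSolvable (G ⧸ V)).solvable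
    exact hc.1.not_ge (map_mk'_le_iff.1 (eq_bot_iff.2 (hn ▸ hle n)))

/-- A normal subgroup centralizing all chief factors below the Fitting subgroup lying inside it is
nilpotent. -/
theorem le_fittingSubgroup_of_commutator_chiefFactor [Finite G] [Group.IsSolvable G]
    {C : Subgroup G} [C.Normal]
    (h : ∀ U V : Subgroup G, Cfsg.IsChiefFactor U V → U ≤ C ⊓ Cfsg.fittingSubgroup G →
      ⁅U, C⁆ ≤ V) : C ≤ Cfsg.fittingSubgroup G := by
  haveI := fittingSubgroup_normal G
  by_contra hne
  set D := C ⊓ Cfsg.fittingSubgroup G with hD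
  have hlt : D < C := lt_of_le_of_ne inf_le_left fun he => hne (he ▸ inf_le_right)
  obtain ⟨B, hB⟩ := (Set.toFinite {M : Subgroup G | M.Normal ∧ D < M ∧ M ≤ C}).exists_minimal
    ⟨C, inferInstance, hlt, le_rfl⟩
  haveI := hB.1.1
  have hc : Cfsg.IsChiefFactor B D := ⟨hB.1.2.1, hB.1.1, inferInstance, fun M hM hDM hMB => by
    rcases eq_or_lt_of_le hDM with h1 | h1
    · exact Or.inl h1.symm
    · exact Or.inr (le_antisymm hMB (hB.2 ⟨hM, h1, hMB.trans hB.1.2.2⟩ hMB))⟩
  have hnil : Group.IsNilpotent B := isNilpotent_of_commutator_chiefFactor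
    (commutator_chiefFactor_self_le hc)
    fun U V hUV hUD => (Subgroup.commutator_mono le_rfl hB.1.2.2).trans (h U V hUV hUD)
  exact hB.1.2.1.not_ge (le_inf hB.1.2.2 (le_fittingSubgroup hB.1.1 hnil))

end CfsgLib.Solvable
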