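import Cfsg.Agent.Lib.Solvable.Frattini
import Cfsg.Agent.Lib.Solvable.Basic
import Cfsg.Prelude.Def_SolvableStructure

/-!
Carter subgroups of finite solvable groups: existence, conjugacy, image in quotients.
-/

set_option autoImplicit false
set_option linter.style.haveILetI false

open scoped Pointwise
open Subgroup

namespace CfsgLib.Solvable

universe u

variable {G : Type u} [Group G]

/-- In a nilpotent group the only self-normalizing subgroup is the whole group. -/
theorem eq_top_of_normalizer_eq_self [Group.IsNilpotent G] {C : Subgroup G}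
    (h : normalizer (C : Set G) = C) : C = ⊤ := by
  by_contra hC
  exact (Group.normalizerCondition_of_isNilpotent C (lt_top_iff_ne_top.2 hC)).ne h.symm

theorem isCarter_subgroupOf {C R : Subgroup G} (hCR : C ≤ R) (h : Cfsg.IsCarterSubgroup C) :
    Cfsg.IsCarterSubgroup (C.subgroupOf R) := by
  haveI := h.1
  refine ⟨Group.nilpotent_of_mulEquiv (subgroupOfEquivOfLe hCR).symm, ?_⟩
  rw [← subgroupOf_normalizer_eq hCR, h.2]

theorem isCarter_conj {C : Subgroup G} (h : Cfsg.IsCarterSubgroup C) (g : G) :
    Cfsg.IsCarterSubgroup (MulAut.conj g • C) := by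
  haveI := h.1
  refine ⟨Group.nilpotent_of_mulEquiv (Subgroup.equivSMul (MulAut.conj g) C), ?_⟩
  rw [conj_smul_eq_map]
  rw [← map_normalizer_eq_of_bijective C (MulAut.conj g).bijective, h.2]

/-- The predicate proved by induction. -/
def CarterProperty (G : Type u) [Group G] : Prop :=
  (∃ C : Subgroup G, Cfsg.IsCarterSubgroup C) ∧
    ∀ C D : Subgroup G, Cfsg.IsCarterSubgroup C → Cfsg.IsCarterSubgroup D →
      ∃ g : G, MulAut.conj g • C = D

/-- Conjugacy of Carter subgroups inside a subgroup having the Carter property. -/
theorem exists_conj_of_carterProperty {C D R : Subgroup G} (hR : CarterProperty R) (hC : C ≤ R)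
    (hD : D ≤ R) (hC' : Cfsg.IsCarterSubgroup C) (hD' : Cfsg.IsCarterSubgroup D) :
    ∃ g ∈ R, MulAut.conj g • C = D := by
  obtain ⟨g, hg⟩ := hR.2 _ _ (isCarter_subgroupOf hC hC') (isCarter_subgroupOf hD hD')
  refine ⟨g, g.2, ?_⟩
  have := congrArg (Subgroup.map R.subtype) hg
  rwa [map_conj_smul, map_subgroupOf_eq_of_le hC, map_subgroupOf_eq_of_le hD] at this

theorem card_lt_of_ne_top [Finite G] {R : Subgroup G} (hR : R ≠ ⊤) : Nat.card R < Nat.card G := by
  rcases (Subgroup.card_le_card_group R).lt_or_eq with h | h
  · exact h
  · exact absurd (Subgroup.eq_top_of_card_eq R h) hR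

theorem carterProperty_aux : ∀ (n : ℕ) (G : Type u) [Group G] [Finite G] [Group.IsSolvable G],
    Nat.card G ≤ n → CarterProperty G := by
  intro n
  induction n with
  | zero => intro G _ _ _ hn; have := (Nat.card_pos : 0 < Nat.card G); omega
  | succ n ih =>
    intro G _ _ _ hn
    by_cases hnil : Group.IsNilpotent G
    · refine ⟨⟨⊤, Group.isNilpotent_top.2 hnil, eq_top_iff.2 le_normalizer⟩, fun C D hC hD => ⟨1, ?_⟩⟩
      rw [eq_top_of_normalizer_eq_self hC.2, eq_top_of_normalizer_eq_self hD.2, map_one, one_smul]
    haveI : Nontrivial G := by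
      by_contra h
      rw [not_nontrivial_iff_subsingleton] at h
      exact hnil inferInstance
    obtain ⟨N, hNn, hN, -, hmin⟩ := exists_minimal_normal_le (⊤ : Subgroup G) top_ne_bot
    haveI := hNn
    obtain ⟨hNc, p, hp, hexp⟩ := minimal_normal_elementary_abelian N hN hmin
    haveI := hNc
    haveI : Fact p.Prime := ⟨hp⟩
    have hNp : IsPGroup p N := fun x =>
      ⟨1, Subtype.ext (by rw [Subgroup.coe_pow, pow_one, hexp x.1 x.2, Subgroup.coe_one])⟩
    set f := QuotientGroup.mk' N with hf'
    have hf : Function.Surjective f := QuotientGroup.mk'_surjective N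
    have hker : f.ker = N := QuotientGroup.ker_mk' N
    have hsub : ∀ R : Subgroup G, R ≠ ⊤ → CarterProperty R := fun R hR =>
      ih R (by have := card_lt_of_ne_top hR; omega)
    have hQ : CarterProperty (G ⧸ N) := by
      refine ih (G ⧸ N) ?_
      have h1 := N.card_eq_card_quotient_mul_card_subgroup
      have h2 : 2 ≤ Nat.card N := (one_lt_card_iff_ne_bot N).2 hN
      have h3 : Nat.card (G ⧸ N) * 2 ≤ Nat.card G := h1 ▸ Nat.mul_le_mul_left _ h2
      have h4 : 0 < Nat.card (G ⧸ N) := Nat.card_pos
      omega
    -- images of Carter subgroups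
    have himage : ∀ C : Subgroup G, Cfsg.IsCarterSubgroup C → Cfsg.IsCarterSubgroup (C.map f) := by
      intro C hC
      haveI := hC.1
      refine ⟨Group.nilpotent_of_surjective (f.subgroupMap C) (f.subgroupMap_surjective C),
        le_antisymm ?_ le_normalizer⟩
      intro y hy
      obtain ⟨g, rfl⟩ := hf y
      by_cases hR : C ⊔ N = ⊤
      · rw [← mem_comap, comap_map_eq, hker, hR]; trivial
      have hg : g ∈ normalizer ((C ⊔ N : Subgroup G) : Set G) := by
        rw [← hker, ← comap_map_eq, ← comap_normalizer_eq_of_surjective _ hf]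
        exact hy
      have h1 : MulAut.conj g • C ≤ C ⊔ N :=
        le_trans (pointwise_smul_le_pointwise_smul_iff.2 le_sup_left)
          (le_of_eq (conj_smul_eq_self_iff.2 hg))
      obtain ⟨r, hr, hrC⟩ := exists_conj_of_carterProperty (hsub _ hR) le_sup_left h1 hC
        (isCarter_conj hC g)
      have hrg : r⁻¹ * g ∈ C := by
        have : MulAut.conj (r⁻¹ * g) • C = C := by
          rw [← conj_smul_conj_smul, ← hrC, conj_smul_conj_smul, inv_mul_cancel, map_one, one_smul]
        rw [← hC.2]
        exact conj_smul_eq_self_iff.1 this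
      rw [← mem_comap, comap_map_eq, hker]
      have := mul_mem hr (mem_sup_left hrg : r⁻¹ * g ∈ C ⊔ N)
      simpa using this
    refine ⟨?_, fun C D hC hD => ?_⟩
    · -- existence
      obtain ⟨Rb, hRb⟩ := hQ.1
      set R := Rb.comap f with hR'
      by_cases hR : R = ⊤
      · -- the quotient is nilpotent
        have hRb' : Rb = ⊤ := by rw [← map_comap_eq_self_of_surjective hf Rb, ← hR', hR, map_top_of_surjective f hf]
        have hQn : Group.IsNilpotent (G ⧸ N) := Group.isNilpotent_top.1 (hRb' ▸ hRb.1)
        have hNfr : ¬ N ≤ frattini G := by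
          intro hle
          haveI : Group.IsNilpotent ((⊤ : Subgroup G).map f) := by
            rw [map_top_of_surjective f hf]; exact Group.isNilpotent_top.2 hQn
          exact hnil (Group.isNilpotent_top.1 (isNilpotent_of_map_mk'_isNilpotent ⊤ N hle inferInstance))
        obtain ⟨M, hM, hNM⟩ : ∃ M, IsCoatom M ∧ ¬ N ≤ M := by
          by_contra h
          push Not at h
          exact hNfr (by simp only [frattini, Order.radical, le_iInf_iff]; exact h)
        have hc := isComplement'_of_not_le N hmin hM hNM
        let g : M →* G ⧸ N := f.comp M.subtype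
        have hginj : Function.Injective g := by
          rw [← MonoidHom.ker_eq_bot_iff, eq_bot_iff]
          intro x hx
          exact Subtype.ext (disjoint_def.1 hc.disjoint ((QuotientGroup.eq_one_iff _).1 hx) x.2)
        haveI hMn : Group.IsNilpotent M :=
          Subgroup.isNilpotent_of_ker_le_center g
            (by rw [(MonoidHom.ker_eq_bot_iff g).2 hginj]; exact bot_le)
        refine ⟨M, hMn, ?_⟩
        rcases eq_or_lt_of_le (le_normalizer (H := M)) with e | e
        · exact e.symm
        exfalso
        apply hnil
        haveI : M.Normal := normalizer_eq_top_iff.1 (hM.2 _ e)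
        haveI : Group.IsNilpotent N := hNp.isNilpotent
        exact Group.isNilpotent_top.1 (hc.sup_eq_top ▸
          isNilpotent_sup_of_normal N M inferInstance inferInstance inferInstance inferInstance)
      · obtain ⟨C', hC'⟩ := (hsub R hR).1
        set C := C'.map R.subtype with hC
        have hCR : C ≤ R := map_subtype_le C'
        have hCnil : Group.IsNilpotent C := by
          haveI := hC'.1
          exact Group.nilpotent_of_mulEquiv (C'.equivMapOfInjective _ R.subtype_injective)
        refine ⟨C, hCnil, le_antisymm ?_ le_normalizer⟩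
        intro g hg
        -- the image of `C` is all of `Rb`
        have hCRb : C.map f = Rb := by
          have hmapR : R.map f = Rb := map_comap_eq_self_of_surjective hf Rb
          let φ : R →* Rb := f.subgroupComap Rb
          have hφ : Function.Surjective φ := f.subgroupComap_surjective_of_surjective Rb hf
          haveI := hRb.1
          have hself : normalizer ((C'.map φ : Subgroup Rb) : Set Rb) = C'.map φ := by
            refine le_antisymm ?_ le_normalizer
            intro y hy
            obtain ⟨x, rfl⟩ := hφ y
            by_cases hNC : C' ⊔ φ.ker = ⊤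
            · rw [← mem_comap, comap_map_eq, hNC]; trivial
            have hx : x ∈ normalizer ((C' ⊔ φ.ker : Subgroup R) : Set R) := by
              rw [← comap_map_eq, ← comap_normalizer_eq_of_surjective _ hφ]; exact hy
            have hlt : Nat.card (C' ⊔ φ.ker : Subgroup R) ≤ n := by
              have := card_lt_of_ne_top hNC
              have := card_lt_of_ne_top hR
              omega
            have h1 : MulAut.conj x • C' ≤ C' ⊔ φ.ker :=
              le_trans (pointwise_smul_le_pointwise_smul_iff.2 le_sup_left)
                (le_of_eq (conj_smul_eq_self_iff.2 hx))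
            obtain ⟨r, hr, hrC⟩ := exists_conj_of_carterProperty (ih _ hlt) le_sup_left h1 hC'
              (isCarter_conj hC' x)
            have hrg : r⁻¹ * x ∈ C' := by
              have : MulAut.conj (r⁻¹ * x) • C' = C' := by
                rw [← conj_smul_conj_smul, ← hrC, conj_smul_conj_smul, inv_mul_cancel, map_one, one_smul]
              rw [← hC'.2]
              exact conj_smul_eq_self_iff.1 this
            rw [← mem_comap, comap_map_eq]
            have := mul_mem hr (mem_sup_left hrg : r⁻¹ * x ∈ C' ⊔ φ.ker)
            simpa using this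
          have htop := eq_top_of_normalizer_eq_self hself
          have := congrArg (Subgroup.map Rb.subtype) htop
          rw [map_map, ← MonoidHom.range_eq_map, range_subtype] at this
          rw [← this, hC, map_map]
          rfl
        have hgR : g ∈ R := by
          rw [hR', mem_comap, ← hRb.2, ← hCRb]
          exact le_normalizer_map f (mem_map_of_mem f hg)
        have h2 : (⟨g, hgR⟩ : R) ∈ normalizer (C' : Set R) := by
          have h3 : (⟨g, hgR⟩ : R) ∈ (normalizer (C : Set G)).subgroupOf R := mem_subgroupOf.2 hg
          rwa [subgroupOf_normalizer_eq hCR, hC, subgroupOf,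
            comap_map_eq_self_of_injective R.subtype_injective] at h3
        rw [hC'.2] at h2
        exact ⟨_, h2, rfl⟩
    · -- conjugacy
      obtain ⟨gb, hgb⟩ := hQ.2 _ _ (himage C hC) (himage D hD)
      obtain ⟨g, rfl⟩ := hf gb
      suffices key : ∀ A B : Subgroup G, Cfsg.IsCarterSubgroup A → Cfsg.IsCarterSubgroup B →
          A.map f = B.map f → ∃ g : G, MulAut.conj g • A = B by
        obtain ⟨h, hh⟩ := key _ _ (isCarter_conj hC g) hD (by rw [map_conj_smul, hgb])
        exact ⟨h * g, by rw [← conj_smul_conj_smul, hh]⟩
      intro A B hA hB hAB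
      have hAB' : A ⊔ N = B ⊔ N := by rw [← hker, ← comap_map_eq, ← comap_map_eq, hAB]
      by_cases hR : A ⊔ N = ⊤
      swap
      · obtain ⟨g, -, hg⟩ := exists_conj_of_carterProperty (hsub _ hR) le_sup_left
          (hAB'.symm ▸ le_sup_left) hA hB
        exact ⟨g, hg⟩
      have hR' : B ⊔ N = ⊤ := hAB' ▸ hR
      have hQn : Group.IsNilpotent (G ⧸ N) := by
        haveI := hA.1
        have h1 : A.map f = ⊤ := by
          exact comap_injective hf (by rw [comap_map_eq, hker, hR, comap_top])
        haveI := Group.nilpotent_of_surjective (f.subgroupMap A) (f.subgroupMap_surjective A)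
        exact Group.isNilpotent_top.1 (h1 ▸ this)
      have hcompl : ∀ E : Subgroup G, Cfsg.IsCarterSubgroup E → E ⊔ N = ⊤ →
          Subgroup.IsComplement' N E ∧ IsCoatom E := by
        intro E hE hEN
        have hne : E ≠ ⊤ := fun e => hnil (Group.isNilpotent_top.1 (e ▸ hE.1))
        obtain ⟨M, hM, hEM⟩ := (eq_top_or_exists_le_coatom E).resolve_left hne
        have hNM : ¬ N ≤ M := fun h => hM.1 (top_le_iff.1 (hEN ▸ sup_le hEM h))
        have hc := isComplement'_of_not_le N hmin hM hNM
        have hdis : Disjoint N E := hc.disjoint.mono_right hEM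
        have hcE : Subgroup.IsComplement' N E :=
          isComplement'_of_disjoint_and_mul_eq_univ hdis (by
            rw [← normal_mul, sup_comm, hEN, coe_top])
        have : E = M := eq_of_le_of_card_ge hEM (by
          rw [← hcE.symm.index_eq_card, ← hc.symm.index_eq_card])
        exact ⟨hcE, this ▸ hM⟩
      -- a Sylow subgroup which is not normal
      obtain ⟨q, hq, S, hS⟩ : ∃ (q : ℕ) (_ : Fact q.Prime) (S : Sylow q G), ¬ (S : Subgroup G).Normal := by
        by_contra h
        push Not at h
        have e := (Group.isNilpotent_of_finite_tfae (G := G)).out 0 3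
        exact hnil (e.2 fun q hq S => h q hq S)
      haveI := hq
      have hqp : q ≠ p := by
        rintro rfl
        apply hS
        haveI := hQn
        haveI : (S.mapSurjective hf : Subgroup (G ⧸ N)).Normal := inferInstance
        have h1 : ((S : Subgroup G).map f).Normal := by
          rw [← Sylow.coe_mapSurjective hf]; infer_instance
        have h2 := h1.comap f
        rwa [comap_map_eq, hker, sup_eq_left.2 (hNp.le_sylow_of_normal S)] at h2
      have hfind : ∀ E : Subgroup G, Cfsg.IsCarterSubgroup E → E ⊔ N = ⊤ →
          ∃ T : Sylow q G, (T : Subgroup G) ≤ E ∧ normalizer ((T : Subgroup G) : Set G) = E := by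
        intro E hE hEN
        obtain ⟨hc, hEc⟩ := hcompl E hE hEN
        haveI := hE.1
        let T' : Sylow q E := default
        haveI : (T' : Subgroup E).Normal := inferInstance
        have hidx : ¬ q ∣ ((T' : Subgroup E).map E.subtype).index := by
          rw [index_map_subtype, hc.index_eq_card]
          intro h
          rcases hq.out.dvd_mul.1 h with h | h
          · exact T'.not_dvd_index h
          · obtain ⟨k, hk⟩ := IsPGroup.iff_card.1 hNp
            rw [hk] at h
            exact hqp ((Nat.prime_dvd_prime_iff_eq hq.out hp).1 (hq.out.dvd_of_dvd_pow h))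
        let T : Sylow q G := (T'.isPGroup'.map E.subtype).toSylow hidx
        refine ⟨T, map_subtype_le _, ?_⟩
        have hle : E ≤ normalizer ((T : Subgroup G) : Set G) := by
          rw [IsPGroup.toSylow_coe]
          refine (normal_subgroupOf_iff_le_normalizer (map_subtype_le _)).1 ?_
          rw [subgroupOf, comap_map_eq_self_of_injective E.subtype_injective]
          infer_instance
        rcases eq_or_lt_of_le hle with e | e
        · exact e.symm
        · exfalso
          obtain ⟨g, hg⟩ := MulAction.exists_smul_eq G T S
          apply hS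
          haveI := normalizer_eq_top_iff.1 (hEc.2 _ e)
          rw [← hg, Sylow.smul_eq_of_normal]
          infer_instance
      obtain ⟨T₁, -, hT₁⟩ := hfind A hA hR
      obtain ⟨T₂, -, hT₂⟩ := hfind B hB hR'
      obtain ⟨g, hg⟩ := MulAction.exists_smul_eq G T₁ T₂
      refine ⟨g, ?_⟩
      rw [← hT₁, ← hT₂, ← hg, conj_smul_eq_map, Sylow.coe_subgroup_smul, conj_smul_eq_map]
      exact map_normalizer_eq_of_bijective _ (MulAut.conj g).bijective

/-- Carter's theorem. -/
theorem carterProperty (G : Type u) [Group G] [Finite G] [Group.IsSolvable G] : CarterProperty G :=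
  carterProperty_aux _ G le_rfl

end CfsgLib.Solvable
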