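import Cfsg.Agent.Lib.Solvable.CoprimeMulAction
import Cfsg.Agent.Lib.Fusion.GlaubermanThompson
import Cfsg.Agent.Lib.FGS73.MaximalNilpotent

/-!
Coprime action in which all proper invariant subgroups are nilpotent.
-/

set_option autoImplicit false
open scoped Pointwise
open Subgroup

namespace CfsgLib.Solvable

universe u v

variable {A : Type v} [Group A] [Finite A]

theorem invariantNil_all_of_maximal {G : Type u} [Group G] [Finite G] [MulDistribMulAction A G]
    (hmax : ∀ H : Subgroup G, H ≠ ⊤ → (∀ a : A, ∀ x ∈ H, a • x ∈ H) →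
      (∀ K : Subgroup G, H < K → (∀ a : A, ∀ x ∈ K, a • x ∈ K) → K = ⊤) → Group.IsNilpotent H)
    (H : Subgroup G) (hne : H ≠ ⊤) (hH : ∀ a : A, ∀ x ∈ H, a • x ∈ H) : Group.IsNilpotent H := by
  induction H using WellFoundedGT.induction with
  | _ H ih =>
  by_cases h : ∀ K : Subgroup G, H < K → (∀ a : A, ∀ x ∈ K, a • x ∈ K) → K = ⊤
  · exact hmax H hne hH h
  push Not at h
  obtain ⟨K, hHK, hK, hKne⟩ := h
  have := ih K hHK hKne hK
  exact Group.nilpotent_of_surjective (subgroupOfEquivOfLe hHK.le).toMonoidHom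
    (subgroupOfEquivOfLe hHK.le).surjective

theorem smul_mem_normalizer {G : Type u} [Group G] [MulDistribMulAction A G] {H : Subgroup G}
    (hH : ∀ a : A, ∀ x ∈ H, a • x ∈ H) :
    ∀ a : A, ∀ x ∈ normalizer (H : Set G), a • x ∈ normalizer (H : Set G) := by
  intro a x hx
  rw [mem_normalizer_iff]
  intro y
  have e : a • x * y * (a • x)⁻¹ = a • (x * (a⁻¹ • y) * x⁻¹) := by
    rw [smul_mul', smul_mul', smul_inv', smul_inv_smul]
  rw [e]
  constructor
  · intro hy
    exact hH a _ ((mem_normalizer_iff.1 hx _).1 (hH a⁻¹ y hy))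
  · intro hy
    have h1 := hH a⁻¹ _ hy
    rw [inv_smul_smul] at h1
    have h2 := hH a _ ((mem_normalizer_iff.1 hx _).2 h1)
    rwa [smul_inv_smul] at h2

/-- If all proper invariant subgroups under a coprime action are nilpotent, the group is
solvable. -/
theorem isSolvable_of_invariant_nilpotent : ∀ (n : ℕ) (G : Type u) [Group G] [Finite G]
    [MulDistribMulAction A G], Nat.card G = n → (Nat.card A).Coprime (Nat.card G) →
    (Group.IsSolvable A ∨ Group.IsSolvable G) →
    (∀ H : Subgroup G, H ≠ ⊤ → (∀ a : A, ∀ x ∈ H, a • x ∈ H) → Group.IsNilpotent H) →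
    Group.IsSolvable G := by
  intro n
  induction n using Nat.strong_induction_on with
  | _ n ih =>
  intro G _ _ _ hn hcop hsolv hnil
  by_cases hodd : ∃ p : ℕ, p.Prime ∧ p ≠ 2 ∧ p ∣ Nat.card G
  swap
  · push Not at hodd
    have h2 : IsPGroup 2 G := IsPGroup.of_card (n := (Nat.card G).primeFactorsList.length)
      (Nat.eq_prime_pow_of_unique_prime_dvd Nat.card_pos.ne' fun {q} hq hd => by
        by_contra hne
        exact hodd q hq hne hd)
    have := Fact.mk Nat.prime_two
    have := h2.isNilpotent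
    infer_instance
  obtain ⟨p, hp, hp2, hpG⟩ := hodd
  have := Fact.mk hp
  obtain ⟨P, -, hP⟩ := exists_smul_invariant_sylow (A := A) hcop hsolv p
    (U := (⊥ : Subgroup G)) IsPGroup.of_bot (fun a u hu => by
      rw [mem_bot] at hu ⊢
      rw [hu, smul_one])
  set Z := CfsgLib.ZJCenter.zj 0 (P : Subgroup G) with hZ
  have hZ1 : Z ≠ ⊥ := CfsgLib.ZJCenter.zj_ne_bot (Or.inl rfl) P.2 (P.ne_bot_of_dvd_card hpG)
  have hZinv : ∀ a : A, ∀ x ∈ Z, a • x ∈ Z := by
    intro a x hx
    have hPa : (P : Subgroup G).map (MulDistribMulAction.toMonoidHom G a) = (P : Subgroup G) :=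
      le_antisymm (by rintro _ ⟨y, hy, rfl⟩; exact hP a y hy)
        (fun y hy => ⟨a⁻¹ • y, hP a⁻¹ y hy, smul_inv_smul a y⟩)
    have e := CfsgLib.ZJCenter.zj_map (f := MulDistribMulAction.toMonoidHom G a)
      (MulAction.injective a) 0 (P : Subgroup G)
    rw [hPa] at e
    exact e.le ⟨x, hx, rfl⟩
  by_cases hN : normalizer (Z : Set G) = ⊤
  · have hZn : Z.Normal := normalizer_eq_top_iff.mp hN
    have hZp : IsPGroup p Z := P.2.to_le (CfsgLib.ZJCenter.zj_le 0 _)
    have := hZp.isNilpotent
    have hZs : Group.IsSolvable Z := inferInstance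
    let φ : A →* MulAut (G ⧸ Z) :=
      { toFun := fun a => QuotientGroup.congr Z Z (MulDistribMulAction.toMulEquiv G a)
          (le_antisymm (by rintro _ ⟨y, hy, rfl⟩; exact hZinv a y hy)
            (fun y hy => ⟨a⁻¹ • y, hZinv a⁻¹ y hy, smul_inv_smul a y⟩))
        map_one' := by
          ext x
          obtain ⟨g, rfl⟩ := QuotientGroup.mk'_surjective Z x
          exact congrArg (QuotientGroup.mk' Z) (one_smul A g)
        map_mul' := fun a b => by
          ext x
          obtain ⟨g, rfl⟩ := QuotientGroup.mk'_surjective Z x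
          exact congrArg (QuotientGroup.mk' Z) (mul_smul a b g) }
    let _ : MulDistribMulAction A (G ⧸ Z) := MulDistribMulAction.compHom (G ⧸ Z) φ
    have hact : ∀ (a : A) (g : G),
        a • QuotientGroup.mk' Z g = QuotientGroup.mk' Z (a • g) := fun _ _ => rfl
    have hlt : Nat.card (G ⧸ Z) < n := by
      rw [← hn, ← index_eq_card, ← card_mul_index Z]
      exact lt_mul_of_one_lt_left (Nat.pos_of_ne_zero index_ne_zero_of_finite)
        (Z.one_lt_card_iff_ne_bot.mpr hZ1)
    have hsolv' : Group.IsSolvable A ∨ Group.IsSolvable (G ⧸ Z) := by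
      rcases hsolv with h | h
      · exact Or.inl h
      · exact Or.inr (Group.isSolvable_of_surjective (f := QuotientGroup.mk' Z)
          (QuotientGroup.mk'_surjective Z))
    have : Group.IsSolvable (G ⧸ Z) := ih _ hlt (G ⧸ Z) rfl
      (hcop.coprime_dvd_right (card_quotient_dvd_card Z))
      hsolv'
      (fun H hH hHinv => by
        have hne : H.comap (QuotientGroup.mk' Z) ≠ ⊤ := fun e => hH (by
          rw [← map_comap_eq_self_of_surjective (QuotientGroup.mk'_surjective Z) H, e,
            map_top_of_surjective _ (QuotientGroup.mk'_surjective Z)])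
        have := hnil _ hne (fun a x hx => by
          rw [mem_comap] at hx ⊢
          rw [← hact]
          exact hHinv a _ hx)
        exact Group.nilpotent_of_surjective ((QuotientGroup.mk' Z).subgroupComap H)
          (MonoidHom.subgroupComap_surjective_of_surjective _ H
            (QuotientGroup.mk'_surjective Z)))
    exact Group.isSolvable_of_ker_le_range Z.subtype (QuotientGroup.mk' Z)
      (by rw [QuotientGroup.ker_mk', range_subtype])
  · have := hnil _ hN (smul_mem_normalizer hZinv)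
    have hG : Cfsg.HasNormalPComplement p G :=
      CfsgLib.GlaubermanThompson.hasNormalPComplement_of_normalizer_zj hp2 (Or.inl rfl) P
        CfsgLib.FGS73.MaxNil.hasNormalPComplement_of_isNilpotent
    obtain ⟨Q, K, hK, hc⟩ := hG
    have hcard : Nat.card K = Q.index := hc.index_eq_card.symm
    obtain ⟨k, hk⟩ : ∃ k, K.index = p ^ k := by
      obtain ⟨k, hk⟩ := IsPGroup.iff_card.1 Q.2
      exact ⟨k, hc.symm.index_eq_card.trans hk⟩
    have hKmem : ∀ x : G, x ∈ K ↔ (orderOf x).Coprime p := by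
      intro x
      constructor
      · intro hx
        refine ((hp.coprime_iff_not_dvd.2 fun h => Q.not_dvd_index ?_).symm)
        rw [← hcard]
        exact h.trans ((Subgroup.orderOf_mk x hx).symm.dvd.trans (orderOf_dvd_natCard (⟨x, hx⟩ : K)))
      · exact CfsgLib.Transfer.mem_of_coprime_of_index_eq_pow _ hk
    have hKne : K ≠ ⊤ := fun e => Q.ne_bot_of_dvd_card hpG (by
      rw [← card_eq_one, ← hc.symm.index_eq_card, e, index_top])
    have := hnil K hKne (fun a x hx => by
      rw [hKmem] at hx ⊢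
      rwa [show orderOf (a • x) = orderOf x from orderOf_injective
        (MulDistribMulAction.toMonoidHom G a) (MulAction.injective a) x])
    have : IsPGroup p (G ⧸ K) := IsPGroup.of_card (n := k) (by rw [← index_eq_card, hk])
    have := this.isNilpotent
    exact Group.isSolvable_of_ker_le_range K.subtype (QuotientGroup.mk' K)
      (by rw [QuotientGroup.ker_mk', range_subtype])

/-- The structure of a solvable, non-nilpotent group in which all proper invariant subgroups
under a coprime action are nilpotent. -/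
theorem invariant_nilpotent_structure {G : Type u} [Group G] [Finite G]
    [MulDistribMulAction A G] (hcop : (Nat.card A).Coprime (Nat.card G)) [Group.IsSolvable G]
    (hnil : ∀ H : Subgroup G, H ≠ ⊤ → (∀ a : A, ∀ x ∈ H, a • x ∈ H) → Group.IsNilpotent H)
    (hG : ¬ Group.IsNilpotent G) :
    (∃ p q a b : ℕ, p.Prime ∧ q.Prime ∧ p ≠ q ∧ Nat.card G = p ^ a * q ^ b) ∧
      ∃ (p : ℕ) (P : Sylow p G), p.Prime ∧ p ∣ Nat.card G ∧ (P : Subgroup G).Normal ∧
        (∀ a : A, ∀ x ∈ (P : Subgroup G), a • x ∈ (P : Subgroup G)) := by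
  have hcrit : ¬ ∀ (q : ℕ) (_hq : Fact q.Prime) (S : Sylow q G), (S : Subgroup G).Normal :=
    fun h => hG ((Group.isNilpotent_of_finite_tfae.out 0 3 rfl rfl).2 h)
  have : Nontrivial G := not_subsingleton_iff_nontrivial.1 fun _ => hG inferInstance
  set D := commutator G with hD
  have hDinv : ∀ a : A, ∀ x ∈ D, a • x ∈ D := fun a x hx =>
    (characteristic_iff_map_eq.1 (inferInstanceAs (commutator G).Characteristic)
      (MulDistribMulAction.toMulEquiv G a)).le ⟨x, hx, rfl⟩
  have hDne : D ≠ ⊤ := (Group.IsSolvable.commutator_lt_top_of_nontrivial G).ne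
  have inv : ∀ q : ℕ, q.Prime → ∃ S : Sylow q G,
      ∀ a : A, ∀ x ∈ (S : Subgroup G), a • x ∈ (S : Subgroup G) := fun q hq => by
    have := Fact.mk hq
    obtain ⟨S, -, hS⟩ := exists_smul_invariant_sylow (A := A) hcop (Or.inr inferInstance) q
      (U := (⊥ : Subgroup G)) IsPGroup.of_bot (fun a u hu => by
        rw [mem_bot] at hu ⊢
        rw [hu, smul_one])
    exact ⟨S, hS⟩
  have supinv : ∀ H K : Subgroup G, (∀ a : A, ∀ x ∈ H, a • x ∈ H) →
      (∀ a : A, ∀ x ∈ K, a • x ∈ K) → ∀ a : A, ∀ x ∈ H ⊔ K, a • x ∈ H ⊔ K := by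
    intro H K hH hK a x hx
    have h : (H ⊔ K).map (MulDistribMulAction.toMonoidHom G a) ≤ H ⊔ K := by
      rw [Subgroup.map_sup]
      exact sup_le_sup (by rintro _ ⟨y, hy, rfl⟩; exact hH a y hy)
        (by rintro _ ⟨y, hy, rfl⟩; exact hK a y hy)
    exact h ⟨x, hx, rfl⟩
  obtain ⟨q, hq, S, hS, hDS, hSn⟩ : ∃ (q : ℕ) (_ : q.Prime) (S : Sylow q G),
      (∀ a : A, ∀ x ∈ (S : Subgroup G), a • x ∈ (S : Subgroup G)) ∧
      D ⊔ (S : Subgroup G) = ⊤ ∧ ¬ (S : Subgroup G).Normal := by
    by_contra hcon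
    push Not at hcon
    refine hcrit fun q hq T => ?_
    obtain ⟨S, hS⟩ := inv q hq.out
    have hSn : (S : Subgroup G).Normal := by
      by_cases htop : D ⊔ (S : Subgroup G) = ⊤
      · exact hcon q hq.out S hS htop
      have := hnil _ htop (supinv _ _ hDinv hS)
      have hn : (D ⊔ (S : Subgroup G)).Normal := Subgroup.Normal.of_commutator_le G le_sup_left
      set T' := S.subtype (le_sup_right : (S : Subgroup G) ≤ D ⊔ (S : Subgroup G))
      have hT' : (T' : Subgroup ↥(D ⊔ (S : Subgroup G))).Characteristic :=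
        T'.characteristic_of_normal
          ((Group.isNilpotent_of_finite_tfae.out 0 3 rfl rfl).1 this q hq T')
      have h := ConjAct.normal_of_characteristic_of_normal
        (H := D ⊔ (S : Subgroup G)) (K := (T' : Subgroup ↥(D ⊔ (S : Subgroup G))))
      rwa [show ((T' : Subgroup ↥(D ⊔ (S : Subgroup G)))).map _ = (S : Subgroup G) from
        map_subgroupOf_eq_of_le le_sup_right] at h
    have := Sylow.unique_of_normal S hSn
    rwa [Subsingleton.elim T S]
  have := Fact.mk hq
  have hDn : Group.IsNilpotent D := hnil D hDne hDinv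
  have hidx : ∃ k, D.index = q ^ k := by
    obtain ⟨k, hk⟩ := IsPGroup.iff_card.1 S.2
    have h : D.index = D.relIndex (S : Subgroup G) := by
      rw [← relIndex_top_right, ← hDS, relIndex_sup_left]
    obtain ⟨j, -, hj⟩ := (Nat.dvd_prime_pow hq).1 (hk ▸ relIndex_dvd_card D (S : Subgroup G))
    exact ⟨j, h.trans hj⟩
  obtain ⟨k, hk⟩ := hidx
  have hnormal : ∀ r : ℕ, r.Prime → r ≠ q → ∀ R : Sylow r G, (R : Subgroup G).Normal := by
    intro r hr hrq R
    have := Fact.mk hr
    have hRD : (R : Subgroup G) ≤ D := fun x hx => by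
      obtain ⟨j, hj⟩ := CfsgLib.FGS73.MaxNil.isPElement_of_mem R.2 hx
      refine CfsgLib.Transfer.mem_of_coprime_of_index_eq_pow _ hk ?_
      rw [hj]
      simpa using Nat.coprime_pow_primes j 1 hr hq hrq
    set T' := R.subtype hRD
    have hT' : (T' : Subgroup D).Characteristic :=
      T'.characteristic_of_normal ((Group.isNilpotent_of_finite_tfae.out 0 3 rfl rfl).1 hDn r ⟨hr⟩ T')
    have h := ConjAct.normal_of_characteristic_of_normal (H := D) (K := (T' : Subgroup D))
    rwa [show ((T' : Subgroup D)).map _ = (R : Subgroup G) from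
      map_subgroupOf_eq_of_le hRD] at h
  obtain ⟨r, hr, hrq, R, hR, htop⟩ : ∃ (r : ℕ) (_ : r.Prime) (_ : r ≠ q) (R : Sylow r G),
      (∀ a : A, ∀ x ∈ (R : Subgroup G), a • x ∈ (R : Subgroup G)) ∧
      (R : Subgroup G) ⊔ (S : Subgroup G) = ⊤ := by
    by_contra hcon
    push Not at hcon
    refine hSn (normalizer_eq_top_iff.mp (index_eq_one.1 ?_))
    by_contra hi
    obtain ⟨t, ht, htd⟩ := Nat.exists_prime_and_dvd hi
    have := Fact.mk ht
    by_cases htq : t = q
    · subst htq
      exact S.not_dvd_index (htd.trans (index_dvd_of_le le_normalizer))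
    obtain ⟨T, hT⟩ := inv t ht
    refine T.not_dvd_index (htd.trans (index_dvd_of_le ?_))
    have := hnil _ (hcon t ht htq T hT) (supinv _ _ hT hS)
    intro x hx
    rw [mem_normalizer_iff]
    intro y
    have comm : ∀ z ∈ (S : Subgroup G), z * x = x * z := fun z hz => by
      have hzo := CfsgLib.FGS73.MaxNil.isPElement_of_mem S.2 hz
      obtain ⟨j, hj⟩ := CfsgLib.FGS73.MaxNil.isPElement_of_mem T.2 hx
      have := CfsgLib.FGS73.MaxNil.commute_of_pPower_of_coprime (p := q)
        (x := (⟨z, mem_sup_right hz⟩ : ↥((T : Subgroup G) ⊔ (S : Subgroup G))))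
        (y := ⟨x, mem_sup_left hx⟩) (by simpa [Subgroup.orderOf_mk] using hzo)
        (by rw [Subgroup.orderOf_mk, hj]; simpa using Nat.coprime_pow_primes j 1 ht hq htq)
      exact congrArg Subtype.val this.eq
    constructor
    · intro hy
      rwa [← comm y hy, mul_assoc, mul_inv_cancel, mul_one]
    · intro hy
      have h := comm _ hy
      have e : x * y * x⁻¹ = y := by
        calc x * y * x⁻¹ = x⁻¹ * (x * (x * y * x⁻¹)) := by group
          _ = x⁻¹ * (x * y * x⁻¹ * x) := by rw [h]
          _ = y := by group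
      rwa [e] at hy
  have := Fact.mk hr
  obtain ⟨a, ha⟩ := IsPGroup.iff_card.1 R.2
  obtain ⟨b, hb⟩ := IsPGroup.iff_card.1 S.2
  have := hnormal r hr hrq R
  refine ⟨⟨r, q, a, b, hr, hq, hrq, ?_⟩, r, R, hr, ?_, this, hR⟩
  · rw [← ha, ← hb, ← card_sup_of_disjoint (by rw [normalizer_eq_top]; exact le_top)
      (IsPGroup.disjoint_of_ne r q hrq _ _ R.2 S.2), htop, card_top]
  · by_contra hd
    have : (R : Subgroup G) = ⊥ := by
      have := Fact.mk hr
      rw [← card_eq_one, R.card_eq_multiplicity, Nat.factorization_eq_zero_of_not_dvd hd, pow_zero]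
    rw [this, bot_sup_eq] at htop
    exact hSn (htop ▸ normal_top)

/-- The same with solvability of groups of odd order as hypothesis in place of solvability of
`A` or `G`. -/
theorem invariant_nilpotent_max_structure
    (hA : ∀ (X : Type v) [Group X] [Finite X], Odd (Nat.card X) → Group.IsSolvable X)
    (hB : ∀ (X : Type u) [Group X] [Finite X], Odd (Nat.card X) → Group.IsSolvable X)
    {G : Type u} [Group G] [Finite G] [MulDistribMulAction A G]
    (hcop : (Nat.card A).Coprime (Nat.card G))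
    (hmax : ∀ H : Subgroup G, H ≠ ⊤ → (∀ a : A, ∀ x ∈ H, a • x ∈ H) →
      (∀ K : Subgroup G, H < K → (∀ a : A, ∀ x ∈ K, a • x ∈ K) → K = ⊤) → Group.IsNilpotent H)
    (hG : ¬ Group.IsNilpotent G) :
    Group.IsSolvable G ∧
      (∃ p q a b : ℕ, p.Prime ∧ q.Prime ∧ p ≠ q ∧ Nat.card G = p ^ a * q ^ b) ∧
      ∃ (p : ℕ) (P : Sylow p G), p.Prime ∧ p ∣ Nat.card G ∧ (P : Subgroup G).Normal ∧
        (∀ a : A, ∀ x ∈ (P : Subgroup G), a • x ∈ (P : Subgroup G)) := by
  have hnil := invariantNil_all_of_maximal hmax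
  have hsolv : Group.IsSolvable A ∨ Group.IsSolvable G := by
    rcases Nat.even_or_odd (Nat.card A) with h | h
    · exact Or.inr (hB G (Nat.not_even_iff_odd.1 fun h' => absurd
        (Nat.eq_one_of_dvd_coprimes hcop (even_iff_two_dvd.1 h) (even_iff_two_dvd.1 h'))
        (by norm_num)))
    · exact Or.inl (hA A h)
  have := isSolvable_of_invariant_nilpotent _ G rfl hcop hsolv hnil
  exact ⟨this, invariant_nilpotent_structure hcop hnil hG⟩

end CfsgLib.Solvable
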