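import Cfsg.Agent.Lib.Solvable.PiSeparableHall
import Cfsg.Prelude.Def_HallClasses

/-!
Extension-closedness of the class of `C_π`-groups, relative to the hypothesis `hFT` that groups
of odd order are solvable.
-/

set_option autoImplicit false
open scoped Pointwise
open Subgroup

namespace CfsgLib.Solvable

universe u

variable {G : Type u} [Group G] [Finite G] {π : Set ℕ}

theorem relIndex_sup_self_of_normal (A : Subgroup G) [A.Normal] (H : Subgroup G) :
    H.relIndex (H ⊔ A) = H.relIndex A := by
  have h1 := relIndex_mul_relIndex (H ⊓ A) H (H ⊔ A) inf_le_left le_sup_left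
  have h2 := relIndex_mul_relIndex (H ⊓ A) A (H ⊔ A) inf_le_right le_sup_right
  rw [inf_relIndex_left] at h1
  rw [inf_relIndex_right, relIndex_sup_right, ← h1, mul_comm (H.relIndex A)] at h2
  exact (Nat.eq_of_mul_eq_mul_left (Nat.pos_of_ne_zero Subgroup.index_ne_zero_of_finite) h2).symm

/-- A normal subgroup meets a Hall subgroup in a Hall subgroup of itself. -/
theorem isPiHall_inf_normal_subgroupOf (A : Subgroup G) [A.Normal] {H : Subgroup G}
    (hH : Cfsg.IsPiHall π H) : Cfsg.IsPiHall π (H.subgroupOf A) := by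
  refine ⟨fun q hq h => ?_, fun q hq hqπ h => hH.2 q hq hqπ ?_⟩
  · refine hH.1 q hq (h.trans ?_)
    rw [← inf_subgroupOf_right, Nat.card_congr (subgroupOfEquivOfLe inf_le_right).toEquiv]
    exact card_dvd_of_le inf_le_left
  · refine h.trans ?_
    have h1 : (H.subgroupOf A).index = H.relIndex (H ⊔ A) := by
      rw [show (H.subgroupOf A).index = H.relIndex A from rfl, relIndex_sup_self_of_normal]
    rw [h1]
    exact relIndex_dvd_index_of_le le_sup_left

/-- The image of a Hall subgroup in a quotient is a Hall subgroup. -/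
theorem isPiHall_map_mk (A : Subgroup G) [A.Normal] {H : Subgroup G}
    (hH : Cfsg.IsPiHall π H) : Cfsg.IsPiHall π (H.map (QuotientGroup.mk' A)) :=
  ⟨fun q hq h => hH.1 q hq (h.trans (card_map_dvd _ _)),
    fun q hq hqπ h => hH.2 q hq hqπ
      (h.trans (H.index_map_dvd (QuotientGroup.mk'_surjective A)))⟩

/-- A group with normal subgroups `K ≤ B` whose successive factors are `π`, `π'` and `π`. -/
theorem isPiSeparable_of_three_steps {K B : Subgroup G} [hKn : K.Normal] [hBn : B.Normal]
    (hKB : K ≤ B) (h1 : PrimesIn π (Nat.card K)) (h2 : PrimesOut π (K.relIndex B))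
    (h3 : PrimesIn π B.index) : IsPiSeparable π G := by
  refine ⟨3, ![⊥, K, B, ⊤], rfl, rfl, ?_, ?_, ?_⟩
  · rw [Fin.monotone_iff_le_succ]
    intro i
    fin_cases i
    · exact bot_le
    · exact hKB
    · exact le_top
  · intro i
    fin_cases i
    · exact normal_bot
    · exact hKn
    · exact hBn
    · exact normal_top
  · intro i
    fin_cases i
    · left
      show PrimesIn π ((⊥ : Subgroup G).relIndex K)
      rwa [relIndex_bot_left]
    · exact Or.inr h2
    · left
      show PrimesIn π (B.relIndex ⊤)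
      rwa [relIndex_top_right]

/-- If `A ⊴ G` and all Hall `π`-subgroups of `A` are conjugate, then `N_M(K)` for a Hall
`π`-subgroup `K` of `A` and an `M ≥ A` supplements `A` in `M`. -/
theorem cpi_frattini (A : Subgroup G) [A.Normal]
    (hA : ∀ H K : Subgroup ↥A, Cfsg.IsPiHall π H → Cfsg.IsPiHall π K →
      ∃ g : ↥A, K = H.map (MulAut.conj g).toMonoidHom)
    {K : Subgroup G} (hKA : K ≤ A) (hK : Cfsg.IsPiHall π (K.subgroupOf A))
    {M : Subgroup G} (hM : A ≤ M) :
    M ≤ A ⊔ (normalizer (K : Set G) ⊓ M) := by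
  intro m hm
  have h1 : Cfsg.IsPiHall π ((MulAut.conj m • K).subgroupOf A) := by
    have h1' : MulAut.conj m • K ≤ A := by
      rintro _ ⟨x, hx, rfl⟩
      simpa using Normal.conj_mem inferInstance x (hKA hx) m
    refine ⟨fun q hq h => hK.1 q hq ?_, fun q hq hqπ h => hK.2 q hq hqπ ?_⟩
    · rw [Nat.card_congr (subgroupOfEquivOfLe h1').toEquiv, card_conj_smul] at h
      rwa [Nat.card_congr (subgroupOfEquivOfLe hKA).toEquiv]
    · have e : ((MulAut.conj m • K).subgroupOf A).index = (K.subgroupOf A).index := by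
        refine Nat.eq_of_mul_eq_mul_left (Nat.card_pos (α := K.subgroupOf A)) ?_
        rw [card_mul_index, Nat.card_congr (subgroupOfEquivOfLe hKA).toEquiv, ← card_conj_smul m K,
          ← Nat.card_congr (subgroupOfEquivOfLe h1').toEquiv, card_mul_index]
      rwa [← e]
  obtain ⟨a, ha⟩ := hA _ _ hK h1
  have hconj : MulAut.conj (a : G) • K = MulAut.conj m • K := by
    have h1' : MulAut.conj m • K ≤ A := by
      rintro _ ⟨x, hx, rfl⟩
      simpa using Normal.conj_mem inferInstance x (hKA hx) m
    have := congr_arg (fun S : Subgroup ↥A => S.map A.subtype) ha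
    simp only [map_subgroupOf_eq_of_le h1', map_map] at this
    rw [this, show A.subtype.comp (MulAut.conj a).toMonoidHom =
      (MulAut.conj (a : G)).toMonoidHom.comp A.subtype from MonoidHom.ext fun x => by simp,
      ← map_map, map_subgroupOf_eq_of_le hKA, conj_smul_eq_map]
  have hn : (a : G)⁻¹ * m ∈ normalizer (K : Set G) := by
    have hfix : MulAut.conj ((a : G)⁻¹ * m) • K = K := by
      rw [map_mul, mul_smul, ← hconj, map_inv, inv_smul_smul]
    rw [mem_normalizer_iff]
    intro x
    constructor
    · intro hx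
      rw [← hfix]
      exact ⟨x, hx, rfl⟩
    · intro hx
      rw [← hfix] at hx
      obtain ⟨y, hy, hyx⟩ := hx
      have : y = x := (MulAut.conj ((a : G)⁻¹ * m)).injective hyx
      exact this ▸ hy
  have : m = (a : G) * ((a : G)⁻¹ * m) := by group
  rw [this]
  exact mul_mem (mem_sup_left a.2) (mem_sup_right ⟨hn, M.mul_mem (M.inv_mem (hM a.2)) hm⟩)

/-- `C_π` is closed under extensions (given solvability of groups of odd order). -/
theorem isCPiGroup_extension
    (hFT : ∀ (X : Type u) [Group X] [Finite X], Odd (Nat.card X) → Group.IsSolvable X)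
    (A : Subgroup G) [A.Normal]
    (hA : Cfsg.IsCPiGroup π ↥A) (hQ : Cfsg.IsCPiGroup π (G ⧸ A)) : Cfsg.IsCPiGroup π G := by
  -- the normalizer of a Hall subgroup of `A` inside the preimage of a Hall subgroup of `G ⧸ A`
  have sep : ∀ (K : Subgroup G), K ≤ A → Cfsg.IsPiHall π (K.subgroupOf A) →
      ∀ M : Subgroup G, A ≤ M → PrimesIn π (A.relIndex M) →
      IsPiSeparable π ↥(normalizer (K : Set G) ⊓ M) := by
    intro K hKA hK M hAM hM
    set N := normalizer (K : Set G) ⊓ M with hN
    have hKN : K ≤ N := le_inf le_normalizer (hKA.trans hAM)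
    have : (K.subgroupOf N).Normal :=
      normal_subgroupOf_iff_le_normalizer hKN |>.2 inf_le_left
    refine isPiSeparable_of_three_steps (K := K.subgroupOf N) (B := A.subgroupOf N)
      (comap_mono hKA) (fun q hq h => hK.1 q hq ?_) (fun q hq h hqπ => hK.2 q hq hqπ ?_)
      (fun q hq h => hM q hq (h.trans ?_))
    · rw [Nat.card_congr (subgroupOfEquivOfLe hKA).toEquiv]
      rwa [Nat.card_congr (subgroupOfEquivOfLe hKN).toEquiv] at h
    · refine h.trans ?_
      rw [show (K.subgroupOf A).index = K.relIndex A from rfl]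
      rw [← inf_subgroupOf_right A N, relIndex_subgroupOf inf_le_right,
        ← relIndex_mul_relIndex K (A ⊓ N) A (le_inf hKA hKN) inf_le_left]
      exact dvd_mul_right _ _
    · show A.relIndex N ∣ A.relIndex M
      have e : ∀ L : Subgroup G, A.relIndex L = Nat.card (L.map (QuotientGroup.mk' A)) := fun L => by
        rw [← relIndex_ker, QuotientGroup.ker_mk']
      rw [e, e]
      exact card_dvd_of_le (map_mono inf_le_right)
  refine ⟨?_, fun H1 H2 h1 h2 => ?_⟩
  · obtain ⟨Kb, hKb⟩ := hA.1
    obtain ⟨Hb, hHb⟩ := hQ.1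
    set f := QuotientGroup.mk' A with hf
    set M := Hb.comap f with hMdef
    have hAM : A ≤ M := by
      intro x hx
      rw [hMdef, mem_comap, show f x = 1 from (QuotientGroup.eq_one_iff x).2 hx]
      exact one_mem _
    set K := Kb.map A.subtype with hKdef
    have hKA : K ≤ A := map_subtype_le Kb
    have hKeq : K.subgroupOf A = Kb := comap_map_eq_self_of_injective (subtype_injective A) Kb
    have hrel : A.relIndex M = Nat.card Hb := by
      have h := relIndex_mul_relIndex ⊥ A M bot_le hAM
      rw [relIndex_bot_left, relIndex_bot_left, card_comap_mk'] at h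
      exact Nat.eq_of_mul_eq_mul_left Nat.card_pos h
    set N := normalizer (K : Set G) ⊓ M with hN
    have hsep : IsPiSeparable π ↥N := sep K hKA (hKeq ▸ hKb) M hAM (hrel ▸ hHb.1)
    obtain ⟨⟨H0, hH0⟩, -, -⟩ := piSeparable_hall hFT hsep
    have hfr : A ⊔ N = M := le_antisymm (sup_le hAM inf_le_right)
      (cpi_frattini A hA.2 hKA (hKeq ▸ hKb) hAM)
    refine ⟨H0.map N.subtype, fun q hq h => hH0.1 q hq (by rwa [Subgroup.card_subtype] at h),
      fun q hq hqπ h => ?_⟩
    have hle : H0.map N.subtype ≤ N := map_subtype_le H0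
    rw [← relIndex_mul_index hle, ← relIndex_mul_index (inf_le_right : N ≤ M)] at h
    rcases hq.dvd_mul.1 h with h | h
    · exact hH0.2 q hq hqπ (by rwa [relIndex, show (H0.map N.subtype).subgroupOf N = H0 from comap_map_eq_self_of_injective (subtype_injective N) H0] at h)
    rcases hq.dvd_mul.1 h with h | h
    · refine hKb.2 q hq hqπ (h.trans ?_)
      have e : N.relIndex M = N.relIndex A := by
        rw [← hfr, sup_comm, relIndex_sup_self_of_normal]
      rw [← hKeq, ← hN, e]
      exact relIndex_dvd_of_le_left A (le_inf le_normalizer (hKA.trans hAM))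
    · exact hHb.2 q hq hqπ (by rwa [hMdef, index_comap_of_surjective _
        (QuotientGroup.mk'_surjective A)] at h)
  · set f := QuotientGroup.mk' A with hf
    obtain ⟨gb, hgb⟩ := hQ.2 _ _ (isPiHall_map_mk A h2) (isPiHall_map_mk A h1)
    obtain ⟨g, rfl⟩ := QuotientGroup.mk'_surjective A gb
    set H2' := MulAut.conj g • H2 with hH2'
    have h2' : Cfsg.IsPiHall π H2' := isPiHall_conj_smul h2 g
    have hmap : H1.map f = H2'.map f := by rw [hgb, hH2', map_conj_smul, conj_smul_eq_map]
    obtain ⟨a, ha⟩ := hA.2 _ _ (isPiHall_inf_normal_subgroupOf A h2')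
      (isPiHall_inf_normal_subgroupOf A h1)
    set H2'' := MulAut.conj (a : G) • H2' with hH2''
    have h2'' : Cfsg.IsPiHall π H2'' := isPiHall_conj_smul h2' _
    have hK : H2'' ⊓ A = H1 ⊓ A := by
      have e := congr_arg (fun S : Subgroup ↥A => S.map A.subtype) ha
      simp only [subgroupOf_map_subtype, map_map] at e
      rw [e, show A.subtype.comp (MulAut.conj a).toMonoidHom =
        (MulAut.conj (a : G)).toMonoidHom.comp A.subtype from MonoidHom.ext fun x => by simp,
        ← map_map, subgroupOf_map_subtype, map_inf _ _ _ (MulAut.conj (a : G)).injective,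
        ← conj_smul_eq_map, ← conj_smul_eq_map,
        show MulAut.conj (a : G) • A = A from Subgroup.Normal.conj_smul_eq_self _ _]
    set K := H1 ⊓ A with hKdef
    set M := H1 ⊔ A with hMdef
    have hMeq : H2'' ⊔ A = M := by
      have hc : ∀ x : G, f x = 1 ↔ x ∈ A := fun x => QuotientGroup.eq_one_iff x
      have hker : f.ker = A := QuotientGroup.ker_mk' A
      have e : H2''.map f = H1.map f := by
        rw [hH2'', map_conj_smul, ← hmap, show f (a : G) = 1 from (hc _).2 a.2, map_one, one_smul]
      have e' := congr_arg (comap f) e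
      rwa [comap_map_eq, comap_map_eq, hker] at e'
    have hle : ∀ H : Subgroup G, H ⊓ A = K → H ⊔ A = M → H ≤ normalizer (K : Set G) ⊓ M := by
      intro H hi hs
      refine le_inf ?_ (hs ▸ le_sup_left)
      rw [← hi, ← normal_subgroupOf_iff_le_normalizer inf_le_left, inf_subgroupOf_left]
      exact inferInstance
    set N := normalizer (K : Set G) ⊓ M with hN
    have l1 : H1 ≤ N := hle H1 rfl rfl
    have l2 : H2'' ≤ N := hle H2'' hK hMeq
    have hsep := sep K inf_le_right
      (by rw [hKdef, inf_subgroupOf_right]; exact isPiHall_inf_normal_subgroupOf A h1) M le_sup_right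
      (fun q hq h => h1.1 q hq (h.trans (by
        rw [hMdef, relIndex_sup_right]; exact relIndex_dvd_card A H1)))
    have hall : ∀ H : Subgroup G, H ≤ N → Cfsg.IsPiHall π H →
        Cfsg.IsPiHall π (H.subgroupOf N) := fun H hH hh =>
      ⟨fun q hq h => hh.1 q hq (by rwa [Nat.card_congr (subgroupOfEquivOfLe hH).toEquiv] at h),
        fun q hq hqπ h => hh.2 q hq hqπ (h.trans (relIndex_dvd_index_of_le hH))⟩
    obtain ⟨n, hn⟩ := (piSeparable_hall hFT hsep).2.1 _ _ (hall H1 l1 h1) (hall H2'' l2 h2'')
    have e := congr_arg (fun S : Subgroup ↥N => S.map N.subtype) hn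
    simp only [map_subgroupOf_eq_of_le l2, map_map] at e
    rw [show N.subtype.comp (MulAut.conj n).toMonoidHom =
      (MulAut.conj (n : G)).toMonoidHom.comp N.subtype from MonoidHom.ext fun x => by simp,
      ← map_map, map_subgroupOf_eq_of_le l1, ← conj_smul_eq_map, hH2'', hH2'] at e
    refine ⟨((a : G) * g)⁻¹ * (n : G), ?_⟩
    rw [← conj_smul_eq_map, map_mul, map_inv, map_mul, mul_inv_rev, mul_smul, mul_smul, ← e,
      inv_smul_smul, inv_smul_smul]

end CfsgLib.Solvable
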