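import Mathlib
import Cfsg.Agent.Lib.HallHigman.Free

/-!
The twisted group basis of the full endomorphism algebra: dimension and commutant count and orbits of an element
of prime order on the lines.
-/

set_option autoImplicit false
set_option linter.style.haveILetI false

namespace CfsgLib.Solvable.PrimeAction

open CfsgLib.HallHigman

universe u v w

variable {K : Type w} [Field K] {W : Type v} [AddCommGroup W] [Module K W] {G : Type u} [Group G] [Finite G]

/-- The elements of `Q` acting by scalars. -/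
def scalSub (ρ : Representation K G W) (Q : Subgroup G) : Subgroup Q where
  carrier := {g | IsScal (ρ (g : G))}
  one_mem' := ⟨1, by simp⟩
  mul_mem' := fun {a b} ⟨c, hc⟩ ⟨c', hc'⟩ => ⟨c * c', by
    rw [Subgroup.coe_mul, map_mul, hc, hc', smul_mul_smul_comm, one_mul]⟩
  inv_mem' := fun {a} ⟨c, hc⟩ => by
    have h1 : c • ρ ((a : G)⁻¹) = (1 : Module.End K W) := by
      have := map_mul ρ (a : G) (a : G)⁻¹
      rw [mul_inv_cancel, map_one, hc, smul_mul_assoc, one_mul] at this
      exact this.symm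
    rcases subsingleton_or_nontrivial W with hW | hW
    · exact ⟨1, LinearMap.ext fun w => Subsingleton.elim _ _⟩
    have hc0 : c ≠ 0 := fun h => by
      rw [h, zero_smul] at h1
      exact one_ne_zero h1.symm
    exact ⟨c⁻¹, by
      rw [Subgroup.coe_inv, ← h1, smul_smul, inv_mul_cancel₀ hc0, one_smul]⟩

instance scalSub_normal (ρ : Representation K G W) (Q : Subgroup G) : (scalSub ρ Q).Normal := ⟨fun z hz g => by
  obtain ⟨c, hc⟩ := hz
  exact ⟨c, by rw [Subgroup.coe_mul, Subgroup.coe_mul, Subgroup.coe_inv, map_mul, map_mul, hc, mul_smul_comm,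
    mul_one, smul_mul_assoc, ← map_mul, mul_inv_cancel, map_one]⟩⟩

/-- The lines `K ρ g` fixed by conjugation with `x`. -/
def fixedLines (ρ : Representation K G W) (Q : Subgroup G) (x : G) : Set (Q ⧸ scalSub ρ Q) :=
  {v | ∀ g : Q, QuotientGroup.mk g = v → ∃ c : K, ρ (x * g * x⁻¹) = c • ρ (g : G)}

set_option maxHeartbeats 1600000 in
/-- For `x ^ p = 1` with `p` prime, the commutant of `ρ x` has dimension at most the number of orbits
of `x` on the lines `K ρ g`. -/
theorem orbit_count [FiniteDimensional K W] [Nontrivial W]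
    (ρ : Representation K G W) (p : ℕ) (hp : p.Prime) (Q : Subgroup G) (x : G)
    (hx : ∀ g ∈ Q, x * g * x⁻¹ ∈ Q) (hxP : x ^ p = 1)
    (hspan : Submodule.span K (ρ '' (Q : Set G)) = ⊤)
    (hcomm : ∀ g ∈ Q, ∀ h ∈ Q, ∃ c : K, ρ (h * g * h⁻¹) = c • ρ g)
    (hcent : ∀ g ∈ Q, (∀ h ∈ Q, Commute (ρ g) (ρ h)) → IsScal (ρ g)) :
    Nat.card (Q ⧸ scalSub ρ Q) = Module.finrank K W * Module.finrank K W ∧
    Module.finrank K (commutant (ρ x)) * p ≤
      Nat.card (Q ⧸ scalSub ρ Q) + (p - 1) * (fixedLines ρ Q x).ncard := by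
  classical
  let Zs : Subgroup Q := scalSub ρ Q
  let V := Q ⧸ Zs
  have : Fintype V := Fintype.ofFinite _
  let B : V → Module.End K W := fun v => ρ ((Quotient.out v : Q) : G)
  have hB : ∀ g : Q, ∃ c : K, ρ (g : G) = c • B (QuotientGroup.mk g) := by
    intro g
    obtain ⟨z, hz⟩ := QuotientGroup.mk_out_eq_mul Zs g
    obtain ⟨c, hc⟩ := z.2
    have hc0 : c ≠ 0 := fun h => rep_ne_zero ρ ((z : Q) : G) (by rw [hc, h, zero_smul])
    refine ⟨c⁻¹, ?_⟩
    show ρ (g : G) = c⁻¹ • ρ ((Quotient.out (QuotientGroup.mk g : V) : Q) : G)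
    rw [hz, Subgroup.coe_mul, map_mul, hc, mul_smul_comm, mul_one, smul_smul, inv_mul_cancel₀ hc0,
      one_smul]
  -- spanning
  have hspanB : ⊤ ≤ Submodule.span K (Set.range B) := by
    rw [← hspan, Submodule.span_le]
    rintro _ ⟨g, hg, rfl⟩
    obtain ⟨c, hc⟩ := hB ⟨g, hg⟩
    rw [SetLike.mem_coe, show ρ g = c • B (QuotientGroup.mk ⟨g, hg⟩) from hc]
    exact Submodule.smul_mem _ _ (Submodule.subset_span ⟨_, rfl⟩)
  -- independence
  have hχ : ∀ (v : V) (h : Q), ∃ c : K, ρ ((h : G) * ((Quotient.out v : Q) : G) * (h : G)⁻¹) = c • B v :=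
    fun v h => hcomm _ (Quotient.out v : Q).2 _ h.2
  choose χ hχ using hχ
  have hdist : ∀ v w : V, v ≠ w → ∃ h : Q, χ v h ≠ χ w h := by
    intro v w hvw
    by_contra hc
    push Not at hc
    apply hvw
    rw [← QuotientGroup.out_eq' v, ← QuotientGroup.out_eq' w, QuotientGroup.eq]
    set a := ((Quotient.out v : Q) : G)
    set b := ((Quotient.out w : Q) : G)
    refine hcent _ (Q.mul_mem (Q.inv_mem (Quotient.out v : Q).2) (Quotient.out w : Q).2) fun h hh => ?_
    have ha : ρ (h * a * h⁻¹) = χ v ⟨h, hh⟩ • ρ a := hχ v ⟨h, hh⟩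
    have hb : ρ (h * b * h⁻¹) = χ v ⟨h, hh⟩ • ρ b := by rw [hc ⟨h, hh⟩]; exact hχ w ⟨h, hh⟩
    show ρ (a⁻¹ * b) * ρ h = ρ h * ρ (a⁻¹ * b)
    have h1 : ρ (h * (a⁻¹ * b) * h⁻¹) = ρ (a⁻¹ * b) := by
      have e : ρ (h * a * h⁻¹) * ρ (h * (a⁻¹ * b) * h⁻¹) = ρ (h * b * h⁻¹) := by
        rw [← map_mul]; congr 1; group
      rw [ha, hb, smul_mul_assoc] at e
      have hne : χ v ⟨h, hh⟩ ≠ 0 := fun h0 => rep_ne_zero ρ (h * a * h⁻¹) (by rw [ha, h0, zero_smul])
      have e2 : ρ a * ρ (h * (a⁻¹ * b) * h⁻¹) = ρ b := by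
        have := congrArg (fun f => (χ v ⟨h, hh⟩)⁻¹ • f) e
        simpa [smul_smul, inv_mul_cancel₀ hne] using this
      have e3 := congrArg (fun f => ρ a⁻¹ * f) e2
      simp only [← mul_assoc, ← map_mul, inv_mul_cancel, map_one, one_mul] at e3
      simpa [mul_assoc] using e3
    calc ρ (a⁻¹ * b) * ρ h = ρ (h * (a⁻¹ * b) * h⁻¹) * ρ h := by rw [h1]
      _ = ρ h * ρ (a⁻¹ * b) := by rw [← map_mul, ← map_mul]; congr 1; group
  have hli : LinearIndependent K B := by
    rw [Fintype.linearIndependent_iff]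
    intro c hc v
    have h0 := weight_indep (K := K)
      (T := fun h : Q => LinearMap.mulLeftRight K (ρ (h : G), ρ (h : G)⁻¹)) χ hdist Finset.univ
      (fun v => c v • B v) (fun i _ h => by
        show LinearMap.mulLeftRight K (ρ (h : G), ρ (h : G)⁻¹) (c i • B i) = χ i h • c i • B i
        rw [map_smul, smul_comm (χ i h)]
        congr 1
        rw [← hχ i h, map_mul, map_mul]
        rfl) hc v (Finset.mem_univ v)
    exact (smul_eq_zero.1 h0).resolve_right (rep_ne_zero ρ _)
  let b : Module.Basis V K (Module.End K W) := Module.Basis.mk hli hspanB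
  have hbv : ∀ v, b v = B v := fun v => Module.Basis.mk_apply hli hspanB v
  have hd2 : Module.finrank K W * Module.finrank K W = Fintype.card V := by
    rw [← Module.finrank_eq_card_basis b, Module.finrank_linearMap]
  -- the action of `⟨x⟩`
  let A := Subgroup.zpowers x
  have hxpow : ∀ i : ℕ, ∀ g ∈ Q, x ^ i * g * (x ^ i)⁻¹ ∈ Q := by
    intro i
    induction i with
    | zero => intro g hg; simpa using hg
    | succ i ih =>
      intro g hg
      have := hx _ (ih g hg)
      rw [show x ^ (i + 1) * g * (x ^ (i + 1))⁻¹ = x * (x ^ i * g * (x ^ i)⁻¹) * x⁻¹ by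
        rw [pow_succ']; group]
      exact this
  have hA : ∀ a : A, ∃ i : ℕ, x ^ i = (a : G) := fun a =>
    mem_powers_iff_mem_zpowers.2 a.2
  have hAQ : ∀ a : A, ∀ g ∈ Q, (a : G) * g * (a : G)⁻¹ ∈ Q := by
    intro a g hg
    obtain ⟨i, hi⟩ := hA a
    rw [← hi]
    exact hxpow i g hg
  let act : A → V → V := fun a => Quotient.map'
    (fun g : Q => (⟨(a : G) * g * (a : G)⁻¹, hAQ a g g.2⟩ : Q)) fun g h hgh => by
      rw [QuotientGroup.leftRel_apply] at hgh ⊢
      obtain ⟨c, hc⟩ := hgh
      refine ⟨c, ?_⟩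
      have e : ((a : G) * g * (a : G)⁻¹)⁻¹ * ((a : G) * h * (a : G)⁻¹) = (a : G) * ((g : G)⁻¹ * h) * (a : G)⁻¹ := by
        group
      show ρ (((a : G) * g * (a : G)⁻¹)⁻¹ * ((a : G) * h * (a : G)⁻¹)) = c • 1
      have hc' : ρ ((g : G)⁻¹ * h) = c • (1 : Module.End K W) := hc
      rw [e, map_mul, map_mul, hc', mul_smul_comm, mul_one, smul_mul_assoc, ← map_mul, mul_inv_cancel,
        map_one]
  have hactmk : ∀ (a : A) (g : Q), act a (QuotientGroup.mk g) =
      QuotientGroup.mk (⟨(a : G) * g * (a : G)⁻¹, hAQ a g g.2⟩ : Q) := fun a g => rfl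
  let iV : MulAction A V :=
    { smul := act
      one_smul := fun v => by
        obtain ⟨g, rfl⟩ := QuotientGroup.mk_surjective v
        show act 1 _ = _
        rw [hactmk]
        congr 1
        exact Subtype.ext (by simp)
      mul_smul := fun a a' v => by
        obtain ⟨g, rfl⟩ := QuotientGroup.mk_surjective v
        show act (a * a') _ = act a (act a' _)
        rw [hactmk, hactmk, hactmk]
        congr 1
        exact Subtype.ext (by simp [mul_assoc]) }
  have hone : ∀ a : A, a • (1 : V) = 1 := by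
    intro a
    show act a (QuotientGroup.mk 1) = _
    rw [hactmk]
    congr 1
    exact Subtype.ext (by simp)
  -- fixed points
  have hcoef : ∀ f ∈ commutant (ρ x), ∀ (a : A) (v : V), ∃ t : K, b.repr f (a • v) = t * b.repr f v := by
    intro f hf a v
    obtain ⟨i, hi⟩ := hA a
    have hfa : ρ (a : G) * f * ρ (a : G)⁻¹ = f := by
      have hc : Commute (ρ (a : G)) f := by
        rw [← hi, map_pow]
        exact (Commute.pow_left (mem_commutant.1 hf).symm i)
      rw [hc.eq, mul_assoc, ← map_mul, mul_inv_cancel, map_one, mul_one]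
    have hmove : ∀ u : V, ∃ t : K, ρ (a : G) * B u * ρ (a : G)⁻¹ = t • B (a • u) := by
      intro u
      obtain ⟨g, rfl⟩ := QuotientGroup.mk_surjective u
      obtain ⟨c, hc⟩ := hB g
      obtain ⟨c', hc'⟩ := hB ⟨(a : G) * g * (a : G)⁻¹, hAQ a g g.2⟩
      have hc0 : c ≠ 0 := fun h0 => rep_ne_zero ρ (g : G) (by rw [hc, h0, zero_smul])
      refine ⟨c⁻¹ * c', ?_⟩
      have hB' : B (QuotientGroup.mk g) = c⁻¹ • ρ (g : G) := by
        rw [hc, smul_smul, inv_mul_cancel₀ hc0, one_smul]
      rw [hB', mul_smul_comm, smul_mul_assoc, ← map_mul, ← map_mul]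
      show c⁻¹ • ρ ((⟨(a : G) * g * (a : G)⁻¹, hAQ a g g.2⟩ : Q) : G) = _
      rw [hc', smul_smul]
      rfl
    choose t ht using hmove
    refine ⟨t v, ?_⟩
    have hexp : f = ∑ u, (b.repr f u * t u) • b (a • u) := by
      calc f = ρ (a : G) * f * ρ (a : G)⁻¹ := hfa.symm
        _ = ρ (a : G) * (∑ u, b.repr f u • b u) * ρ (a : G)⁻¹ := by rw [b.sum_repr]
        _ = _ := by
          rw [Finset.mul_sum, Finset.sum_mul]
          refine Finset.sum_congr rfl fun u _ => ?_
          rw [mul_smul_comm, smul_mul_assoc, hbv, hbv, ht, smul_smul]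
    conv_lhs => rw [hexp]
    rw [map_sum, Finsupp.finset_sum_apply, Finset.sum_eq_single v]
    · rw [b.repr.map_smul, b.repr_self, Finsupp.smul_apply, Finsupp.single_eq_same, smul_eq_mul, mul_one, mul_comm]
    · intro u _ huv
      rw [b.repr.map_smul, b.repr_self, Finsupp.smul_apply,
        Finsupp.single_eq_of_ne (fun h => huv ((MulAction.injective a) h).symm), smul_zero]
    · simp
  let O := Quotient (MulAction.orbitRel A V)
  haveI : Fintype O := Fintype.ofFinite _
  let Φ : commutant (ρ x) →ₗ[K] (O → K) :=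
    { toFun := fun f o => b.repr (f : Module.End K W) (Quotient.out o : V)
      map_add' := fun f g => funext fun o => by simp
      map_smul' := fun c f => funext fun o => by simp }
  have hΦ : Function.Injective Φ := by
    rw [injective_iff_map_eq_zero]
    intro f hf
    apply Subtype.ext
    apply b.repr.injective
    rw [ZeroMemClass.coe_zero, map_zero]
    ext v
    rw [Finsupp.zero_apply]
    obtain ⟨a, ha⟩ := MulAction.orbitRel_apply.1
      (Quotient.exact' (Quotient.out_eq' (Quotient.mk'' v : O)))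
    have hv' : v = a⁻¹ • (Quotient.out (Quotient.mk'' v : O) : V) := by
      rw [← ha]
      exact (inv_smul_smul a v).symm
    obtain ⟨t, ht⟩ := hcoef f f.2 a⁻¹ _
    rw [hv', ht, show b.repr (f : Module.End K W) (Quotient.out (Quotient.mk'' v : O) : V) = 0 from congrFun hf _,
      mul_zero]
  have hF : Module.finrank K (commutant (ρ x)) ≤ Fintype.card O := by
    refine le_trans (LinearMap.finrank_le_finrank_of_injective hΦ) ?_
    rw [Module.finrank_fintype_fun_eq_card]
  refine ⟨by rw [Nat.card_eq_fintype_card, hd2], le_trans (Nat.mul_le_mul_right p hF) ?_⟩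
  have hA_card : Nat.card A ∣ p := by rw [Nat.card_zpowers]; exact orderOf_dvd_of_pow_eq_one hxP
  let sz : O → ℕ := fun o => Nat.card (MulAction.orbit A (Quotient.out o : V))
  have hsum : ∑ o, sz o = Nat.card V := by
    rw [Nat.card_congr (MulAction.selfEquivSigmaOrbits A V), Nat.card_sigma]
  have hsz : ∀ o, sz o = 1 ∨ sz o = p := fun o => (Nat.dvd_prime hp).1 (by
    refine dvd_trans ?_ hA_card
    have := MulAction.index_stabilizer A (Quotient.out o : V)
    show Nat.card _ ∣ _
    rw [Nat.card_coe_set_eq, ← this]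
    exact (MulAction.stabilizer A (Quotient.out o : V)).index_dvd_card)
  let S := Finset.univ.filter fun o => sz o = 1
  have hle : ∀ o ∈ (Finset.univ : Finset O), p ≤ sz o + if sz o = 1 then p - 1 else 0 := by
    intro o _
    rcases hsz o with h | h
    · rw [h, if_pos rfl]; have := hp.pos; omega
    · rw [h]; omega
  have h1 : Fintype.card O * p ≤ Nat.card V + (p - 1) * S.card := by
    have := Finset.sum_le_sum hle
    rw [Finset.sum_const, Finset.card_univ, smul_eq_mul, Finset.sum_add_distrib, hsum, Finset.sum_ite,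
      Finset.sum_const, Finset.sum_const_zero, add_zero, smul_eq_mul, mul_comm S.card] at this
    exact this
  refine le_trans h1 (Nat.add_le_add_left (Nat.mul_le_mul_left _ ?_) _)
  rw [← Set.ncard_coe_finset]
  refine Set.ncard_le_ncard_of_injOn (fun o => (Quotient.out o : V)) (fun o ho => ?_)
    (fun a _ b _ h => Quotient.out_injective h) (Set.toFinite _)
  intro g hg
  have ho' : sz o = 1 := (Finset.mem_filter.1 ho).2
  let a : A := ⟨x, Subgroup.mem_zpowers x⟩
  have hfix : a • (Quotient.out o : V) = Quotient.out o := by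
    have hs : (MulAction.orbit A (Quotient.out o : V)).Subsingleton := by
      rw [← Set.ncard_le_one_iff_subsingleton, ← Nat.card_coe_set_eq]
      exact ho'.le
    exact hs (MulAction.mem_orbit _ a) (MulAction.mem_orbit_self _)
  have hg' : (QuotientGroup.mk g : V) = Quotient.out o := hg
  rw [← hg'] at hfix
  have h1' := hfix.symm
  change QuotientGroup.mk g = act a (QuotientGroup.mk g) at h1'
  rw [hactmk, QuotientGroup.eq] at h1'
  obtain ⟨c, hc⟩ := h1'
  refine ⟨c, ?_⟩
  have e : (a : G) * g * (a : G)⁻¹ = (g : G) * ((g : G)⁻¹ * ((a : G) * g * (a : G)⁻¹)) := by group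
  show ρ ((a : G) * g * (a : G)⁻¹) = _
  rw [e, map_mul, show ρ ((g : G)⁻¹ * ((a : G) * g * (a : G)⁻¹)) = c • (1 : Module.End K W) from hc,
    mul_smul_comm, mul_one]

end CfsgLib.Solvable.PrimeAction
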