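import Mathlib
import Cfsg.Agent.Lib.Solvable.Basic
import Cfsg.Agent.Lib.HallHigman.TheoremB

/-!
Fixed points of an element of prime order `p ≥ 5` in a transitive action of a solvable group it
normally generates, and the resulting bound for its fixed space in an imprimitive representation.
-/

set_option autoImplicit false
set_option linter.style.haveILetI false
set_option linter.unusedSectionVars false

namespace CfsgLib.Solvable.FixedSpace

open scoped commutatorElement
open Subgroup

universe u v w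

variable {G : Type u} [Group G] [Finite G]

/-- An element of order dividing a prime has few orbits. -/
theorem orbits_mul_le {α : Type*} [MulAction G α] [Finite α] {x : G} {p : ℕ} (hp : p.Prime) (hxp : x ^ p = 1) :
    Nat.card (Quotient (MulAction.orbitRel (zpowers x) α)) * p ≤
      Nat.card α + (p - 1) * {a : α | x • a = a}.ncard := by
  classical
  set A := zpowers x
  haveI : Fintype (Quotient (MulAction.orbitRel A α)) := Fintype.ofFinite _
  let sz : Quotient (MulAction.orbitRel A α) → ℕ := fun o => Nat.card (MulAction.orbit A (Quotient.out o : α))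
  have hA : Nat.card A ∣ p := by rw [Nat.card_zpowers]; exact orderOf_dvd_of_pow_eq_one hxp
  have hsum : ∑ o, sz o = Nat.card α := by
    rw [Nat.card_congr (MulAction.selfEquivSigmaOrbits A α), Nat.card_sigma]
  have hsz : ∀ o, sz o = 1 ∨ sz o = p := fun o => (Nat.dvd_prime hp).1 (by
    refine dvd_trans ?_ hA
    show Nat.card _ ∣ _
    rw [Nat.card_coe_set_eq, ← MulAction.index_stabilizer A (Quotient.out o : α)]
    exact (MulAction.stabilizer A (Quotient.out o : α)).index_dvd_card)
  have hle : ∀ o ∈ (Finset.univ : Finset (Quotient (MulAction.orbitRel A α))),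
      p ≤ sz o + if sz o = 1 then p - 1 else 0 := by
    intro o _
    rcases hsz o with h | h
    · rw [h, if_pos rfl]; have := hp.pos; omega
    · rw [h]; omega
  have h1 := Finset.sum_le_sum hle
  rw [Finset.sum_const, Finset.card_univ, smul_eq_mul, Finset.sum_add_distrib, hsum, Finset.sum_ite,
    Finset.sum_const, Finset.sum_const_zero, add_zero, smul_eq_mul, mul_comm _ (p - 1), ← Nat.card_eq_fintype_card] at h1
  refine le_trans h1 (Nat.add_le_add_left (Nat.mul_le_mul_left _ ?_) _)
  rw [← Set.ncard_coe_finset]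
  refine Set.ncard_le_ncard_of_injOn (fun o => (Quotient.out o : α)) (fun o ho => ?_)
    (fun a _ b _ h => Quotient.out_injective h) (Set.toFinite _)
  have ho' : sz o = 1 := (Finset.mem_filter.1 ho).2
  have hs : (MulAction.orbit A (Quotient.out o : α)).Subsingleton := by
    rw [← Set.ncard_le_one_iff_subsingleton, ← Nat.card_coe_set_eq]
    exact ho'.le
  exact hs (MulAction.mem_orbit _ (⟨x, mem_zpowers x⟩ : A)) (MulAction.mem_orbit_self _)

theorem normalClosure_singleton_conj {x g : G} (h : normalClosure ({x} : Set G) = ⊤) :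
    normalClosure ({g⁻¹ * x * g} : Set G) = ⊤ := by
  rw [eq_top_iff, ← h]
  refine normalClosure_le_normal ?_
  intro z hz
  rw [Set.mem_singleton_iff.1 hz]
  have h2 : g⁻¹ * x * g ∈ normalClosure ({g⁻¹ * x * g} : Set G) := subset_normalClosure rfl
  have := (normalClosure_normal (s := ({g⁻¹ * x * g} : Set G))).conj_mem _ h2 g
  simpa [mul_assoc] using this

/-- The primitive case, with trivial core. -/
theorem three_mul_fixed_le_of_coatom [Group.IsSolvable G] {x : G} {p : ℕ} (hp : p.Prime) (hp2 : p ≠ 2)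
    (hxp : x ^ p = 1) (hgen : normalClosure ({x} : Set G) = ⊤) {M : Subgroup G} (hM : IsCoatom M)
    (hcore : M.normalCore = ⊥) :
    3 * {v : G ⧸ M | x • v = v}.ncard ≤ Nat.card (G ⧸ M) := by
  classical
  by_cases hne : {v : G ⧸ M | x • v = v} = ∅
  · rw [hne, Set.ncard_empty]; omega
  obtain ⟨v₀, hv₀⟩ := Set.nonempty_iff_ne_empty.2 hne
  obtain ⟨g₀, rfl⟩ := QuotientGroup.mk_surjective v₀
  set y := g₀⁻¹ * x * g₀ with hy
  have hyM : y ∈ M := by
    have h : ((x * g₀ : G) : G ⧸ M) = (g₀ : G ⧸ M) := hv₀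
    have := QuotientGroup.eq.1 h.symm
    rw [hy]; simpa [mul_assoc] using this
  have hyp : y ^ p = 1 := by
    rw [hy, show g₀⁻¹ * x * g₀ = g₀⁻¹ * x * g₀⁻¹⁻¹ by group, conj_pow, hxp]; group
  have hygen := normalClosure_singleton_conj (g := g₀) hgen
  rw [← hy] at hygen
  -- transfer the fixed points
  have hcount : {v : G ⧸ M | x • v = v}.ncard = {v : G ⧸ M | y • v = v}.ncard := by
    refine Set.ncard_congr (fun v _ => g₀⁻¹ • v) (fun v hv => ?_) (fun a b _ _ h => smul_left_cancel _ h)
      (fun v hv => ⟨g₀ • v, ?_, inv_smul_smul g₀ v⟩)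
    · show y • g₀⁻¹ • v = g₀⁻¹ • v
      have hv' : x • v = v := hv
      rw [← mul_smul, hy, mul_assoc, mul_inv_cancel, mul_one, mul_smul, hv']
    · show x • g₀ • v = g₀ • v
      have hv' : y • v = v := hv
      conv_rhs => rw [← hv']
      rw [← mul_smul, ← mul_smul, hy]; congr 1; group
  rw [hcount]
  haveI : Nontrivial G := by
    by_contra h
    rw [not_nontrivial_iff_subsingleton] at h
    exact hM.1 (Subsingleton.elim _ _)
  obtain ⟨N, ⟨hNn, hN1⟩, hNmin⟩ := (Set.toFinite {N : Subgroup G | N.Normal ∧ N ≠ ⊥}).exists_minimal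
    ⟨⊤, inferInstance, top_ne_bot⟩
  haveI := hNn
  haveI : Group.IsSolvable N := inferInstance
  haveI : Nontrivial N := (nontrivial_iff_ne_bot N).2 hN1
  have hNN : ⁅N, N⁆ = ⊥ := by
    by_contra h
    have h1 := le_antisymm (commutator_le_self N) (hNmin ⟨commutator_normal N N, h⟩ (commutator_le_self N))
    apply (Group.IsSolvable.commutator_lt_top_of_nontrivial N).ne
    refine map_injective N.subtype_injective ?_
    rw [map_subtype_commutator, h1, ← MonoidHom.range_eq_map, range_subtype]
  have hNc : ∀ a ∈ N, ∀ b ∈ N, a * b = b * a := fun a ha b hb =>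
    commutatorElement_eq_one_iff_mul_comm.1 (mem_bot.1 (hNN ▸ commutator_mem_commutator ha hb))
  have hnotle : ¬ N ≤ M := fun h => hN1 (eq_bot_iff.2 (hcore ▸ normal_le_normalCore.2 h))
  have htop : N ⊔ M = ⊤ := hM.2 _ (lt_of_le_of_ne le_sup_right fun h => hnotle (h ▸ le_sup_left))
  have hdisj : ∀ a ∈ N, a ∈ M → a = 1 := by
    intro a ha haM
    have hn : (N ⊓ M).Normal := by
      refine normalizer_eq_top_iff.1 (eq_top_iff.2 (htop ▸ sup_le (fun b hb => ?_) (fun b hb => ?_)))
      · rw [mem_normalizer_iff]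
        intro z
        constructor
        · intro hz; rw [hNc b hb z hz.1, mul_assoc, mul_inv_cancel, mul_one]; exact hz
        · intro hz
          have hz1 : z ∈ N := by
            have := hNn.conj_mem _ hz.1 b⁻¹
            simpa [mul_assoc] using this
          rw [hNc b hb z hz1, mul_assoc, mul_inv_cancel, mul_one] at hz
          exact hz
      · exact inf_normalizer_le_normalizer_inf ⟨by rw [normalizer_eq_top]; exact mem_top b, le_normalizer hb⟩
    have : a ∈ M.normalCore := (normal_le_normalCore (hN := hn)).2 inf_le_right ⟨ha, haM⟩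
    rwa [hcore, mem_bot] at this
  let e : N → G ⧸ M := fun a => ((a : G) : G ⧸ M)
  have he : Function.Bijective e := by
    refine ⟨fun a b h => Subtype.ext ?_, fun v => ?_⟩
    · exact inv_mul_eq_one.1 (hdisj _ (mul_mem (inv_mem a.2) b.2) (QuotientGroup.eq.1 h))
    · obtain ⟨g, rfl⟩ := QuotientGroup.mk_surjective v
      obtain ⟨n, hn, m, hm, rfl⟩ := (mem_sup_of_normal_left (s := N)).1 (htop ▸ mem_top g : g ∈ N ⊔ M)
      exact ⟨⟨n, hn⟩, QuotientGroup.eq.2 (by simpa using hm)⟩
  set C := (centralizer ({y} : Set G)).subgroupOf N with hC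
  have hfix : {v : G ⧸ M | y • v = v}.ncard = Nat.card C := by
    rw [← Nat.card_coe_set_eq]
    refine (Nat.card_congr (Equiv.ofBijective
      (fun c : C => (⟨e c, ?_⟩ : {v : G ⧸ M | y • v = v})) ⟨fun a b h => Subtype.ext (he.1 (congrArg Subtype.val h)),
        fun v => ?_⟩)).symm
    · show ((y * ((c : N) : G) : G) : G ⧸ M) = (((c : N) : G) : G ⧸ M)
      refine QuotientGroup.eq.2 ?_
      have h2 : ((c : N) : G) * y = y * ((c : N) : G) := mem_centralizer_singleton_iff.1 c.2
      rw [← h2]
      simpa [mul_assoc] using M.inv_mem hyM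
    · obtain ⟨n, hn⟩ := he.2 (v : G ⧸ M)
      refine ⟨⟨n, ?_⟩, Subtype.ext hn⟩
      refine mem_centralizer_singleton_iff.2 ?_
      have h2 : ((y * (n : G) : G) : G ⧸ M) = ((n : G) : G ⧸ M) := by
        show y • (((n : G) : G ⧸ M)) = _
        rw [show (((n : G) : G ⧸ M)) = (v : G ⧸ M) from hn]; exact v.2
      have h3 := QuotientGroup.eq.1 h2
      -- `n⁻¹ (y n y⁻¹)` lies in `N ⊓ M`
      have h4 : (n : G)⁻¹ * (y * (n : G) * y⁻¹) ∈ M := by
        have := M.mul_mem (M.inv_mem h3) (M.inv_mem hyM)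
        simpa [mul_assoc] using this
      have h5 := hdisj _ (mul_mem (inv_mem n.2) (hNn.conj_mem _ n.2 y)) h4
      rw [inv_mul_eq_one] at h5
      calc (n : G) * y = y * (n : G) * y⁻¹ * y := by rw [← h5]
        _ = y * (n : G) := by group
  rw [hfix, ← Nat.card_congr (Equiv.ofBijective e he), ← C.card_mul_index, mul_comm 3]
  refine Nat.mul_le_mul_left _ ?_
  by_contra hlt
  have h0 : C.index ≠ 0 := index_ne_zero_of_finite
  rcases (show C.index = 1 ∨ C.index = 2 by omega) with h1 | h2
  · -- `y` centralises `N`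
    rw [index_eq_one] at h1
    set Z := M ⊓ centralizer (N : Set G)
    have hZn : Z.Normal := by
      refine normalizer_eq_top_iff.1 (eq_top_iff.2 (htop ▸ sup_le (fun b hb => ?_) (fun b hb => ?_)))
      · rw [mem_normalizer_iff]
        intro z
        constructor
        · intro hz
          rw [mem_centralizer_iff.1 hz.2 b hb, mul_assoc, mul_inv_cancel, mul_one]
          exact hz
        · intro hz
          have h := mem_centralizer_iff.1 hz.2 b hb
          have : z = b * z * b⁻¹ := by
            calc z = b⁻¹ * (b * z * b⁻¹ * b) := by group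
              _ = b⁻¹ * (b * (b * z * b⁻¹)) := by rw [h]
              _ = _ := by group
          rw [this]; exact hz
      · exact inf_normalizer_le_normalizer_inf ⟨le_normalizer hb,
          by rw [normalizer_eq_top (centralizer (N : Set G))]; exact mem_top b⟩
    have hyZ : y ∈ Z := ⟨hyM, fun n hn => mem_centralizer_singleton_iff.1
      (show (n : G) ∈ centralizer ({y} : Set G) from (h1 ▸ mem_top (⟨n, hn⟩ : N) : (⟨n, hn⟩ : N) ∈ C))⟩
    have hy1 : y ∈ M.normalCore := (normal_le_normalCore (hN := hZn)).2 inf_le_left hyZ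
    rw [hcore, mem_bot] at hy1
    rw [hy1, normalClosure_eq_bot_iff.2 (by simp)] at hygen
    exact bot_ne_top hygen
  · -- index two
    obtain ⟨n, hn⟩ : ∃ n : N, n ∉ C := by
      by_contra h
      push Not at h
      rw [(eq_top_iff.2 fun n _ => h n : C = ⊤), index_top] at h2
      omega
    have hc2 : ∀ m : N, y * (((m : G)) * ((m : G))) * y⁻¹ = (m : G) * (m : G) := by
      intro m
      have hm : m * m ∈ C := Subgroup.mul_self_mem_of_index_two h2 m
      have hm' : (m : G) * (m : G) * y = y * ((m : G) * (m : G)) :=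
        mem_centralizer_singleton_iff.1 hm
      rw [← hm']; group
    -- `c = n⁻¹ y n y⁻¹` is an involution fixed by `y`
    set c := (n : G)⁻¹ * (y * (n : G) * y⁻¹) with hc
    have hcN : c ∈ N := mul_mem (inv_mem n.2) (hNn.conj_mem _ n.2 y)
    have hc2' : c * c = 1 := by
      have e1 : c * c = ((n : G)⁻¹ * (n : G)⁻¹) * ((y * (n : G) * y⁻¹) * (y * (n : G) * y⁻¹)) := by
        rw [hc]
        have := hNc _ (hNn.conj_mem _ n.2 y) _ (inv_mem n.2)
        calc (n : G)⁻¹ * (y * (n : G) * y⁻¹) * ((n : G)⁻¹ * (y * (n : G) * y⁻¹))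
            = (n : G)⁻¹ * ((y * (n : G) * y⁻¹) * (n : G)⁻¹) * (y * (n : G) * y⁻¹) := by group
          _ = (n : G)⁻¹ * ((n : G)⁻¹ * (y * (n : G) * y⁻¹)) * (y * (n : G) * y⁻¹) := by rw [this]
          _ = _ := by group
      have e2 := hc2 n
      rw [e1, show (y * (n : G) * y⁻¹) * (y * (n : G) * y⁻¹) = y * ((n : G) * (n : G)) * y⁻¹ by group, e2]
      group
    have hcy : y * c * y⁻¹ = c := by
      have hmem : (⟨c, hcN⟩ : N) ∈ C := by
        have h1 : (⟨y * (n : G) * y⁻¹, hNn.conj_mem _ n.2 y⟩ : N) ∉ C := by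
          intro h
          apply hn
          have h' : y * (n : G) * y⁻¹ * y = y * (y * (n : G) * y⁻¹) := mem_centralizer_singleton_iff.1 h
          refine mem_centralizer_singleton_iff.2 ?_
          calc (n : G) * y = y⁻¹ * (y * (n : G) * y⁻¹ * y) * y := by group
            _ = y⁻¹ * (y * (y * (n : G) * y⁻¹)) * y := by rw [h']
            _ = y * (n : G) := by group
        have hmi : (n⁻¹ : N) ∉ C := fun h => hn (by simpa using C.inv_mem h)
        exact (Subgroup.mul_mem_iff_of_index_two h2).2 (iff_of_false hmi h1)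
      rw [← show c * y = y * c from mem_centralizer_singleton_iff.1 hmem]; group
    have hk : ∀ k : ℕ, y ^ k * (n : G) * (y ^ k)⁻¹ = (n : G) * c ^ k := by
      intro k
      induction k with
      | zero => simp
      | succ k ih =>
        have hcp : y * c ^ k * y⁻¹ = c ^ k := by rw [← conj_pow, hcy]
        rw [pow_succ' y, show y * y ^ k * (n : G) * (y * y ^ k)⁻¹ = y * (y ^ k * (n : G) * (y ^ k)⁻¹) * y⁻¹ by group, ih,
          show y * ((n : G) * c ^ k) * y⁻¹ = (y * (n : G) * y⁻¹) * (y * c ^ k * y⁻¹) by group, hcp,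
          show y * (n : G) * y⁻¹ = (n : G) * c by rw [hc]; group, mul_assoc, ← pow_succ']
    have hcp1 := hk p
    rw [hyp, one_mul, inv_one, mul_one] at hcp1
    have hcp2 : c ^ p = 1 := by simpa using hcp1.symm
    have hc1 : c = 1 := by
      obtain ⟨m, hm⟩ := hp.odd_of_ne_two hp2
      rw [hm, pow_succ, pow_mul, pow_two, hc2', one_pow, one_mul] at hcp2
      exact hcp2
    apply hn
    refine mem_centralizer_singleton_iff.2 ?_
    rw [hc, inv_mul_eq_one] at hc1
    calc (n : G) * y = y * (n : G) * y⁻¹ * y := by rw [← hc1]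
      _ = y * (n : G) := by group

/-- An element of prime order `p ≥ 3` normally generating a solvable group fixes at most a third of
a nontrivial coset space. -/
theorem three_mul_fixed_le [Group.IsSolvable G] {x : G} {p : ℕ} (hp : p.Prime) (hp2 : p ≠ 2)
    (hxp : x ^ p = 1) (hgen : normalClosure ({x} : Set G) = ⊤) {H : Subgroup G} (hH : H ≠ ⊤) :
    3 * {v : G ⧸ H | x • v = v}.ncard ≤ Nat.card (G ⧸ H) := by
  classical
  obtain ⟨M, hHM', hM'⟩ := (Set.toFinite {M : Subgroup G | M ≠ ⊤}).exists_le_maximal hH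
  have hM : IsCoatom M := ⟨hM'.1, fun N hN => by
    by_contra hN'
    exact hN.not_ge (hM'.2 hN' hN.le)⟩
  set E := Subgroup.quotientEquivProdOfLE hHM'
  have hfst : ∀ g : G, (E ((g : G) : G ⧸ H)).1 = ((g : G) : G ⧸ M) := fun g => rfl
  have hmap : {v : G ⧸ H | x • v = v}.ncard ≤
      ({v : G ⧸ M | x • v = v} ×ˢ (Set.univ : Set (M ⧸ H.subgroupOf M))).ncard := by
    refine Set.ncard_le_ncard_of_injOn E (fun v hv => ⟨?_, trivial⟩) (E.injective.injOn) (Set.toFinite _)
    obtain ⟨g, rfl⟩ := QuotientGroup.mk_surjective v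
    have hv' : ((x * g : G) : G ⧸ H) = (g : G ⧸ H) := hv
    show x • (E (g : G ⧸ H)).1 = (E (g : G ⧸ H)).1
    rw [hfst]
    show ((x * g : G) : G ⧸ M) = (g : G ⧸ M)
    rw [← hfst, hv', hfst]
  rw [Set.ncard_prod, Set.ncard_univ] at hmap
  rw [Nat.card_congr E, Nat.card_prod]
  -- pass to the quotient by the core
  set D := M.normalCore
  set f := QuotientGroup.mk' D
  have hfs := QuotientGroup.mk'_surjective D
  have hDM : D ≤ M := normalCore_le M
  have hback : ∀ g : G, f g ∈ M.map f → g ∈ M := fun g hg => by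
    obtain ⟨m, hm, e⟩ := hg
    have := QuotientGroup.eq.1 e
    simpa using M.mul_mem hm (hDM this)
  have hM2 : IsCoatom (M.map f) := by
    refine ⟨fun h => hM.1 (eq_top_iff.2 fun g _ => hback g (h ▸ mem_top _)), fun N hN => ?_⟩
    have hlt : M < N.comap f := by
      refine lt_of_le_of_ne (fun m hm => hN.le (mem_map_of_mem f hm)) fun he => hN.ne ?_
      exact (congrArg (Subgroup.map f) he).trans (map_comap_eq_self_of_surjective hfs N)
    have := hM.2 _ hlt
    rw [← map_comap_eq_self_of_surjective hfs N, this, map_top_of_surjective f hfs]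
  have hcore2 : (M.map f).normalCore = ⊥ := by
    rw [eq_bot_iff]
    intro z hz
    obtain ⟨g, rfl⟩ := hfs z
    rw [mem_bot]
    refine (QuotientGroup.eq_one_iff g).2 ?_
    refine (normal_le_normalCore (hN := (normalCore_normal (M.map f)).comap f)).2 ?_ hz
    exact fun k hk => hback k (normalCore_le (M.map f) hk)
  have hgen2 : normalClosure ({f x} : Set (G ⧸ D)) = ⊤ := by
    have := map_normalClosure ({x} : Set G) f hfs
    rw [Set.image_singleton, hgen, map_top_of_surjective f hfs] at this
    exact this.symm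
  haveI : Group.IsSolvable (G ⧸ D) := Group.isSolvable_of_surjective hfs
  have h3 := three_mul_fixed_le_of_coatom (x := f x) hp hp2 (by rw [← map_pow, hxp, map_one]) hgen2 hM2 hcore2
  let π : G ⧸ M → (G ⧸ D) ⧸ M.map f := Quotient.map' f fun a b h => by
    rw [QuotientGroup.leftRel_apply] at h ⊢
    rw [← map_inv, ← map_mul]
    exact mem_map_of_mem f h
  have hπ : Function.Bijective π := by
    refine ⟨fun a b h => ?_, fun v => ?_⟩
    · obtain ⟨a, rfl⟩ := QuotientGroup.mk_surjective a
      obtain ⟨b, rfl⟩ := QuotientGroup.mk_surjective b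
      have h' : ((f a : G ⧸ D) : (G ⧸ D) ⧸ M.map f) = (f b : G ⧸ D) := h
      refine QuotientGroup.eq.2 (hback _ ?_)
      rw [map_mul, map_inv]
      exact QuotientGroup.eq.1 h'
    · obtain ⟨w, rfl⟩ := QuotientGroup.mk_surjective v
      obtain ⟨g, rfl⟩ := hfs w
      exact ⟨(g : G ⧸ M), rfl⟩
  have h4 : {v : G ⧸ M | x • v = v}.ncard ≤ {v : (G ⧸ D) ⧸ M.map f | f x • v = v}.ncard := by
    refine Set.ncard_le_ncard_of_injOn π (fun v hv => ?_) hπ.1.injOn (Set.toFinite _)
    obtain ⟨g, rfl⟩ := QuotientGroup.mk_surjective v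
    have hv' : ((x * g : G) : G ⧸ M) = (g : G ⧸ M) := hv
    have := congrArg π hv'
    exact this
  rw [← Nat.card_congr (Equiv.ofBijective π hπ)] at h3
  calc 3 * _ ≤ 3 * ({v : G ⧸ M | x • v = v}.ncard * Nat.card (M ⧸ H.subgroupOf M)) := Nat.mul_le_mul_left _ hmap
    _ = (3 * {v : G ⧸ M | x • v = v}.ncard) * Nat.card (M ⧸ H.subgroupOf M) := by ring
    _ ≤ _ := Nat.mul_le_mul_right _ (le_trans (Nat.mul_le_mul_left _ h4) h3)

open CfsgLib.HallHigman in
/-- The imprimitive case: a non-scalar abelian normal subgroup. -/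
theorem two_mul_fixed_lt_of_weights {K : Type w} [Field K] [IsAlgClosed K] {W : Type v} [AddCommGroup W] [Module K W]
    [FiniteDimensional K W] [Nontrivial W] [Group.IsSolvable G] (ρ : Representation K G W)
    (hirr : ∀ U : Submodule K W, (∀ g, ∀ u ∈ U, ρ g u ∈ U) → U = ⊥ ∨ U = ⊤)
    {x : G} {p : ℕ} (hp : p.Prime) (hp5 : 5 ≤ p) (hxp : x ^ p = 1) (hgen : normalClosure ({x} : Set G) = ⊤)
    (A : Subgroup G) [A.Normal] (hA : ∀ a ∈ A, ∀ b ∈ A, a * b = b * a) (hns : ∃ a ∈ A, ¬ IsScal (ρ a)) :
    2 * Module.finrank K ↥(LinearMap.ker (ρ x - 1)) < Module.finrank K W := by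
  classical
  -- a weight
  obtain ⟨U, hU0, hUinv, hUmin⟩ := exists_min_invariant ρ A
  haveI : Nontrivial U := (Submodule.nontrivial_iff_ne_bot).2 hU0
  obtain ⟨u₀, hu₀, hu₀'⟩ := (Submodule.ne_bot_iff U).1 hU0
  have hchar : ∀ g : A, ∃ μ : K, ρ (g : G) u₀ = μ • u₀ := by
    intro g
    obtain ⟨μ, hμ⟩ := Module.End.exists_eigenvalue ((ρ (g : G)).restrict (hUinv g g.2))
    obtain ⟨v, hv⟩ := hμ.exists_hasEigenvector
    refine ⟨μ, ?_⟩
    have hE : U ⊓ Module.End.eigenspace (ρ (g : G)) μ = U := hUmin _ inf_le_left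
      (fun h => hv.2 (Subtype.ext (by
        have hm : (v : W) ∈ U ⊓ Module.End.eigenspace (ρ (g : G)) μ := ⟨v.2, Module.End.mem_eigenspace_iff.2
          (congrArg Subtype.val hv.apply_eq_smul)⟩
        rwa [h, Submodule.mem_bot] at hm)))
      (fun h hh u hu => ⟨hUinv h hh u hu.1, by
        rw [SetLike.mem_coe, Module.End.mem_eigenspace_iff]
        rw [← Module.End.mul_apply, ← map_mul, hA g g.2 h hh, map_mul, Module.End.mul_apply,
          Module.End.mem_eigenspace_iff.1 hu.2, map_smul]⟩)
    have : u₀ ∈ U ⊓ Module.End.eigenspace (ρ (g : G)) μ := hE.symm ▸ hu₀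
    exact Module.End.mem_eigenspace_iff.1 this.2
  choose χ hχ using hchar
  let cj : G → A → A := fun g a => ⟨g⁻¹ * a * g, by simpa using Normal.conj_mem ‹A.Normal› (a : G) a.2 g⁻¹⟩
  let H : Subgroup G :=
    { carrier := {g | ∀ a : A, χ (cj g a) = χ a}
      one_mem' := fun a => congrArg χ (Subtype.ext (by simp [cj]))
      mul_mem' := fun {g h} hg hh a => by
        rw [← hg a, ← hh (cj g a)]
        exact congrArg χ (Subtype.ext (by simp [cj, mul_assoc]))
      inv_mem' := fun {g} hg a => by
        have := hg (cj g⁻¹ a)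
        rw [show cj g (cj g⁻¹ a) = a from Subtype.ext (by simp [cj, mul_assoc])] at this
        exact this.symm }
  let W₀ : Submodule K W :=
    { carrier := {u | ∀ a : A, ρ (a : G) u = χ a • u}
      zero_mem' := fun a => by simp
      add_mem' := fun {u v} hu hv a => by rw [map_add, hu, hv, smul_add]
      smul_mem' := fun c u hu a => by rw [map_smul, hu, smul_comm] }
  have hWg : ∀ g : G, ∀ u ∈ W₀, ∀ a : A, ρ (a : G) (ρ g u) = χ (cj g a) • ρ g u := by
    intro g u hu a
    rw [← Module.End.mul_apply, ← map_mul, show (a : G) * g = g * (g⁻¹ * a * g) by group, map_mul,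
      Module.End.mul_apply]
    show ρ g (ρ ((cj g a : A) : G) u) = _
    rw [hu, map_smul]
  have hHW : ∀ h ∈ H, ∀ u ∈ W₀, ρ h u ∈ W₀ := fun h hh u hu a => by rw [hWg h u hu a, hh a]
  -- blocks
  set X := G ⧸ H
  haveI : Fintype X := Fintype.ofFinite X
  let L : (X → W₀) →ₗ[K] W :=
    { toFun := fun f => ∑ v : X, ρ v.out (f v : W)
      map_add' := fun f g => by simp [Finset.sum_add_distrib]
      map_smul' := fun c f => by simp [Finset.smul_sum] }
  have hdist : ∀ i j : X, i ≠ j → ∃ a : A, χ (cj i.out a) ≠ χ (cj j.out a) := by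
    intro i j hij
    by_contra h
    push Not at h
    apply hij
    rw [← QuotientGroup.out_eq' i, ← QuotientGroup.out_eq' j, QuotientGroup.eq]
    intro a
    have := h (cj j.out⁻¹ a)
    rw [show cj j.out (cj j.out⁻¹ a) = a from Subtype.ext (by simp [cj, mul_assoc])] at this
    rw [← this]
    have := h (cj j.out⁻¹ a)
    have e : cj (i.out⁻¹ * j.out) (cj i.out (cj j.out⁻¹ a)) = a := Subtype.ext (by simp [cj, mul_assoc])
    calc χ (cj (i.out⁻¹ * j.out) a)
        = χ (cj j.out (cj i.out⁻¹ a)) := congrArg χ (Subtype.ext (by simp [cj, mul_assoc]))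
      _ = χ (cj i.out (cj i.out⁻¹ a)) := (h _).symm
      _ = χ a := congrArg χ (Subtype.ext (by simp [cj, mul_assoc]))
      _ = _ := by
        rw [h (cj j.out⁻¹ a)]
        exact congrArg χ (Subtype.ext (by simp [cj, mul_assoc]))
  have hLinj : Function.Injective L := by
    rw [injective_iff_map_eq_zero]
    intro f hf
    funext v
    have h0 := weight_indep (K := K) (fun a : A => ρ (a : G)) (fun (i : X) (a : A) => χ (cj i.out a)) hdist
      Finset.univ (fun i => ρ i.out (f i : W)) (fun i _ a => hWg i.out _ (f i).2 a) hf v (Finset.mem_univ v)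
    refine Subtype.ext ?_
    have := congrArg (ρ v.out⁻¹) h0
    rw [← Module.End.mul_apply, ← map_mul, inv_mul_cancel, map_one, map_zero] at this
    simpa using this
  have htrans : ∀ (g : G) (v : X), ((g • v : X)).out⁻¹ * g * v.out ∈ H := by
    intro g v
    have : ((g • v : X).out : G ⧸ H) = ((g * v.out : G) : G ⧸ H) := by
      rw [QuotientGroup.out_eq']
      conv_lhs => rw [← QuotientGroup.out_eq' v]
      rfl
    rw [mul_assoc]
    exact QuotientGroup.eq.1 this
  have hLsur : Function.Surjective L := by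
    rw [← LinearMap.range_eq_top]
    refine (hirr _ fun g u hu => ?_).resolve_left fun h => hu₀' ?_
    · obtain ⟨f, rfl⟩ := hu
      refine ⟨fun w => ⟨ρ ((w.out)⁻¹ * g * (g⁻¹ • w).out) (f (g⁻¹ • w) : W), ?_⟩, ?_⟩
      · have := htrans g (g⁻¹ • w)
        rw [smul_inv_smul] at this
        exact hHW _ this _ (f _).2
      · show ∑ w : X, ρ w.out (ρ _ _) = ρ g (∑ v : X, ρ v.out (f v : W))
        rw [map_sum]
        refine Fintype.sum_equiv (MulAction.toPerm g⁻¹) _ _ fun w => ?_
        show ρ w.out (ρ _ _) = ρ g (ρ (g⁻¹ • w).out (f (g⁻¹ • w) : W))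
        rw [← Module.End.mul_apply, ← map_mul, ← Module.End.mul_apply, ← map_mul]
        congr 2
        group
    · set v : X := ((1 : G) : G ⧸ H)
      have h1 : v.out⁻¹ ∈ H := by
        have : ((v.out : G) : G ⧸ H) = ((1 : G) : G ⧸ H) := QuotientGroup.out_eq' v
        simpa using QuotientGroup.eq.1 this
      have hm : u₀ ∈ LinearMap.range L := by
        refine ⟨Pi.single v ⟨ρ v.out⁻¹ u₀, hHW _ h1 _ hχ⟩, ?_⟩
        show ∑ w : X, ρ w.out _ = u₀
        rw [Finset.sum_eq_single v (fun w _ hw => by simp [Pi.single_eq_of_ne hw]) (by simp), Pi.single_eq_same]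
        show ρ v.out (ρ v.out⁻¹ u₀) = u₀
        rw [← Module.End.mul_apply, ← map_mul, mul_inv_cancel, map_one]; rfl
      rwa [h, Submodule.mem_bot] at hm
  have hn : Module.finrank K W = Nat.card X * Module.finrank K W₀ := by
    rw [← LinearEquiv.finrank_eq (LinearEquiv.ofBijective L ⟨hLinj, hLsur⟩), Module.finrank_pi_fintype]
    simp
  have hHne : H ≠ ⊤ := by
    intro h
    obtain ⟨a, ha, hna⟩ := hns
    refine hna ⟨χ ⟨a, ha⟩, LinearMap.ext fun w => ?_⟩
    have hW : W₀ = ⊤ := (hirr W₀ fun g u hu => hHW g (h ▸ mem_top g) u hu).resolve_left fun h0 => hu₀' (by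
      have : u₀ ∈ W₀ := hχ
      rwa [h0, Submodule.mem_bot] at this)
    have : w ∈ W₀ := hW ▸ Submodule.mem_top
    exact this ⟨a, ha⟩
  -- orbits of `x` on the blocks
  set A' := zpowers x
  let O := Quotient (MulAction.orbitRel A' X)
  haveI : Fintype O := Fintype.ofFinite O
  let Le := LinearEquiv.ofBijective L ⟨hLinj, hLsur⟩
  have hfixed : ∀ f : X → W₀, ρ x (L f) = L f → ∀ v : X,
      (f (x • v) : W) = ρ ((x • v : X).out⁻¹ * x * v.out) (f v : W) := by
    intro f hf v
    let f' : X → W₀ := fun w => ⟨ρ ((w.out)⁻¹ * x * (x⁻¹ • w).out) (f (x⁻¹ • w) : W), by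
      have := htrans x (x⁻¹ • w)
      rw [smul_inv_smul] at this
      exact hHW _ this _ (f _).2⟩
    have he : L f' = ρ x (L f) := by
      show ∑ w : X, ρ w.out (ρ _ _) = ρ x (∑ v : X, ρ v.out (f v : W))
      rw [map_sum]
      refine Fintype.sum_equiv (MulAction.toPerm x⁻¹) _ _ fun w => ?_
      show ρ w.out (ρ _ _) = ρ x (ρ (x⁻¹ • w).out (f (x⁻¹ • w) : W))
      rw [← Module.End.mul_apply, ← map_mul, ← Module.End.mul_apply, ← map_mul]
      congr 2
      group
    have := congrArg (fun φ : X → W₀ => ((φ (x • v)) : W)) (hLinj (he.trans hf))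
    simp only [f'] at this
    rw [inv_smul_smul] at this
    exact this.symm
  let Φ : ↥(LinearMap.ker (ρ x - 1)) →ₗ[K] (O → W₀) :=
    { toFun := fun u o => Le.symm (u : W) (Quotient.out o : X)
      map_add' := fun u u' => funext fun o => by simp
      map_smul' := fun c u => funext fun o => by simp }
  have hΦ : Function.Injective Φ := by
    rw [injective_iff_map_eq_zero]
    intro u hu
    have hux : ρ x (L (Le.symm (u : W))) = L (Le.symm (u : W)) := by
      show ρ x (Le (Le.symm (u : W))) = Le (Le.symm (u : W))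
      rw [Le.apply_symm_apply]
      exact sub_eq_zero.1 (LinearMap.mem_ker.1 u.2)
    set f := Le.symm (u : W) with hf
    have hz : f = 0 := by
      funext v
      obtain ⟨a, ha⟩ := MulAction.orbitRel_apply.1
        (Quotient.exact' (Quotient.out_eq' (Quotient.mk'' v : O)))
      set v₀ := (Quotient.out (Quotient.mk'' v : O) : X)
      have h0 : f v₀ = 0 := congrFun hu (Quotient.mk'' v)
      obtain ⟨i, hi⟩ := mem_powers_iff_mem_zpowers.2 (a⁻¹).2
      have hv : v = x ^ i • v₀ := by
        show v = _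
        rw [show x ^ i = ((a⁻¹ : A') : G) from hi, ← ha]
        exact (inv_smul_smul a v).symm
      rw [hv]
      clear hv hi
      induction i with
      | zero => simpa using h0
      | succ i ih =>
        refine Subtype.ext ?_
        rw [pow_succ', mul_smul, hfixed f hux (x ^ i • v₀), ih]
        simp
    refine Subtype.ext ?_
    have : Le f = (u : W) := Le.apply_symm_apply _
    rw [← this, hz, map_zero]; rfl
  have hdim : Module.finrank K ↥(LinearMap.ker (ρ x - 1)) ≤ Nat.card O * Module.finrank K W₀ := by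
    refine le_trans (LinearMap.finrank_le_finrank_of_injective hΦ) ?_
    rw [Module.finrank_pi_fintype]
    simp
  have ho := orbits_mul_le (α := X) hp hxp
  have h3 := three_mul_fixed_le hp (by omega) hxp hgen hHne
  have hbpos : 0 < Module.finrank K W₀ := by
    haveI : Nontrivial W₀ := ⟨⟨u₀, hχ⟩, 0, fun h => hu₀' (congrArg Subtype.val h)⟩
    exact Module.finrank_pos
  have hX : 0 < Nat.card X := Nat.card_pos
  rw [hn]
  obtain ⟨k, hk⟩ : ∃ k, p = k + 5 := ⟨p - 5, by omega⟩
  set φ := {a : X | x • a = a}.ncard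
  have hO : 2 * Nat.card O < Nat.card X := by
    subst hk
    rw [show k + 5 - 1 = k + 4 by omega] at ho
    have h4 : (k + 4) * (3 * φ) ≤ (k + 4) * Nat.card X := Nat.mul_le_mul_left _ h3
    change Nat.card O * _ ≤ _ at ho
    nlinarith
  calc 2 * _ ≤ 2 * (Nat.card O * Module.finrank K W₀) := Nat.mul_le_mul_left _ hdim
    _ = 2 * Nat.card O * Module.finrank K W₀ := by ring
    _ < _ := Nat.mul_lt_mul_of_pos_right hO hbpos

end CfsgLib.Solvable.FixedSpace
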