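import Mathlib

/-!
Eigenspace shifts bounding the fixed space of an endomorphism.
-/

set_option autoImplicit false

namespace CfsgLib.Solvable.FixedSpace

universe v w

variable {K : Type w} [Field K] {W : Type v} [AddCommGroup W] [Module K W]

theorem pow_mul_rel {X Y : Module.End K W} {σ : K} (h : X * Y = σ • (Y * X)) :
    ∀ n : ℕ, X ^ n * Y = σ ^ n • (Y * X ^ n) := by
  intro n
  induction n with
  | zero => simp
  | succ n ih =>
    rw [pow_succ', mul_assoc, ih, mul_smul_comm, ← mul_assoc, h, smul_mul_assoc, smul_smul, mul_assoc,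
      ← pow_succ', ← pow_succ]

theorem mul_pow_rel {X Y : Module.End K W} {σ : K} (h : X * Y = σ • (Y * X)) :
    ∀ n : ℕ, X * Y ^ n = σ ^ n • (Y ^ n * X) := by
  intro n
  induction n with
  | zero => simp
  | succ n ih =>
    rw [pow_succ, ← mul_assoc, ih, smul_mul_assoc, mul_assoc, h, mul_smul_comm, smul_smul, ← mul_assoc,
      ← pow_succ, ← pow_succ]

/-- `m` shifted copies of `C` inside `R`, separated by an endomorphism `X`, are independent. -/
theorem copies_bound [FiniteDimensional K W] {m : ℕ} (X : Module.End K W) (S D : Fin m → Module.End K W)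
    (C R : Submodule K W) (hS : ∀ i, Function.Injective (S i)) (hmem : ∀ i, ∀ u ∈ C, S i u ∈ R)
    (hXS : ∀ i, ∀ u ∈ C, X (S i u) = D i (S i u)) (hDX : ∀ i, Commute (D i) X)
    (hDD : ∀ i j, Commute (D i) (D j)) (hDR : ∀ i, ∀ v ∈ R, D i v ∈ R)
    (hsep : ∀ i j, i ≠ j → ∀ v ∈ R, D i v = D j v → v = 0) :
    m * Module.finrank K C ≤ Module.finrank K R := by
  classical
  have hind : ∀ s : Finset (Fin m), ∀ v : Fin m → W, (∀ i ∈ s, v i ∈ R ∧ X (v i) = D i (v i)) →
      ∑ i ∈ s, v i = 0 → ∀ i ∈ s, v i = 0 := by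
    intro s
    induction s using Finset.induction_on with
    | empty => intro v _ _ i hi; exact absurd hi (Finset.notMem_empty i)
    | insert a s ha ih =>
      intro v hv hsum
      rw [Finset.sum_insert ha] at hsum
      have hva := hv a (Finset.mem_insert_self a s)
      have hs : ∑ i ∈ s, v i = - v a := eq_neg_of_add_eq_zero_right hsum
      set w : Fin m → W := fun i => D i (v i) - D a (v i) with hw
      have hw0 : ∑ i ∈ s, w i = 0 := by
        have e : ∑ i ∈ s, w i = X (∑ i ∈ s, v i) - D a (∑ i ∈ s, v i) := by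
          rw [map_sum, map_sum, ← Finset.sum_sub_distrib]
          refine Finset.sum_congr rfl fun i hi => ?_
          rw [(hv i (Finset.mem_insert_of_mem hi)).2]
        rw [e, hs, map_neg, map_neg, hva.2, sub_self]
      have hww : ∀ i ∈ s, w i ∈ R ∧ X (w i) = D i (w i) := by
        intro i hi
        obtain ⟨h1, h2⟩ := hv i (Finset.mem_insert_of_mem hi)
        refine ⟨R.sub_mem (hDR i _ h1) (hDR a _ h1), ?_⟩
        have e1 : ∀ j, X (D j (v i)) = D j (D i (v i)) := fun j => by
          rw [← Module.End.mul_apply, ← (hDX j).eq, Module.End.mul_apply, h2]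
        rw [hw, map_sub, map_sub, e1, e1, ← Module.End.mul_apply (D a) (D i), (hDD a i).eq, Module.End.mul_apply]
      have hz := ih w hww hw0
      have hs0 : ∀ i ∈ s, v i = 0 := by
        intro i hi
        refine hsep i a (fun h => ha (h ▸ hi)) _ (hv i (Finset.mem_insert_of_mem hi)).1 ?_
        exact sub_eq_zero.1 (hz i hi)
      intro i hi
      rcases Finset.mem_insert.1 hi with rfl | hi
      · rw [Finset.sum_eq_zero hs0, eq_comm, neg_eq_zero] at hs; exact hs
      · exact hs0 i hi
  let Φ : (Fin m → C) →ₗ[K] R :=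
    { toFun := fun f => ⟨∑ i, S i (f i : W), R.sum_mem fun i _ => hmem i _ (f i).2⟩
      map_add' := fun f g => Subtype.ext (by simp [Finset.sum_add_distrib])
      map_smul' := fun c f => Subtype.ext (by simp [Finset.smul_sum]) }
  have hΦ : Function.Injective Φ := by
    rw [injective_iff_map_eq_zero]
    intro f hf
    funext i
    have := hind Finset.univ (fun i => S i (f i : W)) (fun i _ => ⟨hmem i _ (f i).2, hXS i _ (f i).2⟩)
      (congrArg Subtype.val hf) i (Finset.mem_univ i)
    exact Subtype.ext (hS i (by rw [this]; exact (map_zero _).symm))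
  have := LinearMap.finrank_le_finrank_of_injective hΦ
  rw [Module.finrank_pi_fintype] at this
  simpa using this

/-- A scalar shift of order `p` spreads the fixed space over `p` eigenspaces. -/
theorem shift_bound [FiniteDimensional K W] {p : ℕ} (hp : p.Prime) {X Y : Module.End K W} {σ : K}
    (hσp : σ ^ p = 1) (hσ : σ ≠ 1) (h : X * Y = σ • (Y * X)) (hY : Function.Injective Y) :
    p * Module.finrank K ↥(LinearMap.ker (X - 1)) ≤ Module.finrank K W := by
  haveI := Fact.mk hp
  have ho : orderOf σ = p := orderOf_eq_prime hσp hσ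
  refine le_trans (copies_bound X (fun i : Fin p => Y ^ (i : ℕ)) (fun i : Fin p => σ ^ (i : ℕ) • 1)
    (LinearMap.ker (X - 1)) ⊤ (fun i => ?_) (fun _ _ _ => Submodule.mem_top) (fun i u hu => ?_)
    (fun i => (Commute.one_left X).smul_left _) (fun i j => ((Commute.refl _).smul_left _).smul_right _)
    (fun _ _ _ => Submodule.mem_top) (fun i j hij v _ hv => ?_)) (Submodule.finrank_le _)
  · rw [Module.End.coe_pow]; exact hY.iterate _
  · have hu' : X u = u := sub_eq_zero.1 (LinearMap.mem_ker.1 hu)
    rw [← Module.End.mul_apply, mul_pow_rel h, LinearMap.smul_apply, Module.End.mul_apply, hu']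
    rfl
  · simp only [LinearMap.smul_apply, Module.End.one_apply] at hv
    rw [← sub_eq_zero, ← sub_smul] at hv
    refine (smul_eq_zero.1 hv).resolve_left fun h0 => hij ?_
    exact Fin.ext (pow_injOn_Iio_orderOf (ho.symm ▸ i.2) (ho.symm ▸ j.2) (sub_eq_zero.1 h0))

theorem natCast_ne_zero_of_root {p : ℕ} (hp : p.Prime) {σ : K} (hσp : σ ^ p = 1) (hσ : σ ≠ 1) : (p : K) ≠ 0 := by
  intro h0
  haveI := Fact.mk hp
  haveI : CharP K p := (CharP.charP_iff_prime_eq_zero hp).2 h0
  have : (σ - 1) ^ p = 0 := by rw [sub_pow_char, one_pow, hσp, sub_self]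
  exact hσ (sub_eq_zero.1 (pow_eq_zero_iff hp.pos.ne' |>.1 this))

end CfsgLib.Solvable.FixedSpace
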