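import Mathlib
import Cfsg.Agent.Lib.Solvable.FixedSpaceCount
import Cfsg.Agent.Lib.HallHigman.TheoremB

/-!
Fixed space of an element of prime order `p ≥ 5` acting on a group that is abelian modulo scalars and
carries a non-degenerate scalar commutator pairing.
-/

set_option autoImplicit false
set_option linter.style.haveILetI false

namespace CfsgLib.Solvable.FixedSpace

open CfsgLib.HallHigman
open scoped commutatorElement

universe u v w

variable {K : Type w} [Field K]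

/-- The fixed space is at most the sum of those of an invariant subspace and its quotient. -/
theorem finrank_ker_le_sub_add_quot {W : Type v} [AddCommGroup W] [Module K W] [FiniteDimensional K W]
    {G : Type u} [Group G] [Finite G] (ρ : Representation K G W) (U : Submodule K W) (g : stab ρ U) :
    Module.finrank K ↥(LinearMap.ker (ρ (g : G) - 1)) ≤
      Module.finrank K ↥(LinearMap.ker (subRep ρ U g - 1)) +
        Module.finrank K ↥(LinearMap.ker (quotRep ρ U g - 1)) := by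
  set C := LinearMap.ker (ρ (g : G) - 1)
  set f : C →ₗ[K] W ⧸ U := U.mkQ ∘ₗ C.subtype with hf
  rw [← LinearMap.finrank_range_add_finrank_ker f, add_comm]
  refine Nat.add_le_add ?_ (Submodule.finrank_mono ?_)
  · let ι : LinearMap.ker f →ₗ[K] ↥(LinearMap.ker (subRep ρ U g - 1)) :=
      { toFun := fun u => ⟨⟨((u : C) : W), (Submodule.Quotient.mk_eq_zero U).1 u.2⟩, by
          refine LinearMap.mem_ker.2 (Subtype.ext ?_)
          exact LinearMap.mem_ker.1 (u : C).2⟩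
        map_add' := fun a b => rfl
        map_smul' := fun c a => rfl }
    exact LinearMap.finrank_le_finrank_of_injective (f := ι)
      fun a b h => Subtype.ext (Subtype.ext (congrArg (fun z : ↥(LinearMap.ker (subRep ρ U g - 1)) => ((z : U) : W)) h))
  · rintro _ ⟨u, rfl⟩
    refine LinearMap.mem_ker.2 ?_
    have h := sub_eq_zero.1 (LinearMap.mem_ker.1 u.2)
    show quotRep ρ U g (Submodule.Quotient.mk (u : W)) - Submodule.Quotient.mk (u : W) = 0
    rw [quotRep_apply, h]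
    exact sub_self _

/-- A non-identity endomorphism commutes with a space of dimension above the square of its fixed space. -/
theorem commutant_sq_add_one_le {W : Type v} [AddCommGroup W] [Module K W] [FiniteDimensional K W]
    (X : Module.End K W) (hX : X ≠ 1) :
    Module.finrank K ↥(LinearMap.ker (X - 1)) ^ 2 + 1 ≤ Module.finrank K (commutant X) := by
  set T : Module.End K W := X - 1 with hT
  set R := LinearMap.range T
  let π := R.mkQ
  let ι := (LinearMap.ker T).subtype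
  have hTι : ∀ g : (W ⧸ R) →ₗ[K] LinearMap.ker T, T * (ι ∘ₗ g ∘ₗ π) = 0 := fun g =>
    LinearMap.ext fun w => LinearMap.mem_ker.1 (g (π w)).2
  have hπT : ∀ g : (W ⧸ R) →ₗ[K] LinearMap.ker T, (ι ∘ₗ g ∘ₗ π : Module.End K W) * T = 0 := fun g =>
    LinearMap.ext fun w => by
      show ι (g (π (T w))) = 0
      rw [show π (T w) = 0 from (Submodule.Quotient.mk_eq_zero R).2 ⟨w, rfl⟩, map_zero, map_zero]
  have hmem : ∀ (c : K) (g : (W ⧸ R) →ₗ[K] LinearMap.ker T),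
      c • (1 : Module.End K W) + ι ∘ₗ g ∘ₗ π ∈ commutant X := by
    intro c g
    refine Submodule.add_mem _ (Submodule.smul_mem _ _ (mem_commutant.2 (by rw [one_mul, mul_one]))) ?_
    rw [mem_commutant, show X = T + 1 by rw [hT, sub_add_cancel], mul_add, add_mul, hπT, hTι, mul_one,
      one_mul]
  let Ψ : K × ((W ⧸ R) →ₗ[K] LinearMap.ker T) →ₗ[K] commutant X :=
    { toFun := fun a => ⟨a.1 • (1 : Module.End K W) + ι ∘ₗ a.2 ∘ₗ π, hmem a.1 a.2⟩
      map_add' := fun a b => Subtype.ext (LinearMap.ext fun w => by simp [add_smul]; abel)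
      map_smul' := fun c a => Subtype.ext (LinearMap.ext fun w => by simp [mul_smul]) }
  have hinj : Function.Injective Ψ := by
    rw [injective_iff_map_eq_zero]
    rintro ⟨c, g⟩ h
    have h1 : c • (1 : Module.End K W) + ι ∘ₗ g ∘ₗ π = 0 := congrArg Subtype.val h
    have hc : c = 0 := by
      have h2 := congrArg (fun f => T * f) h1
      simp only [mul_add, hTι, mul_smul_comm, mul_one, add_zero, mul_zero] at h2
      exact (smul_eq_zero.1 h2).resolve_right (sub_ne_zero.2 hX)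
    rw [hc, zero_smul, zero_add] at h1
    refine Prod.ext hc (LinearMap.ext fun v => ?_)
    obtain ⟨w, rfl⟩ := R.mkQ_surjective v
    exact Subtype.ext (LinearMap.congr_fun h1 w)
  refine le_trans (le_of_eq ?_) (LinearMap.finrank_le_finrank_of_injective hinj)
  rw [Module.finrank_prod, Module.finrank_self, Module.finrank_linearMap, add_comm, sq]
  congr 2
  have h1 := Submodule.finrank_quotient_add_finrank R
  have h2 := LinearMap.finrank_range_add_finrank_ker T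
  change Module.finrank K (W ⧸ R) + Module.finrank K R = _ at h1
  change Module.finrank K R + _ = _ at h2
  omega

theorem ne_one_of_smul_one_ne {W : Type v} [AddCommGroup W] [Module K W] [Nontrivial W] {c : K} (hc : c ≠ 1) :
    c • (1 : Module.End K W) ≠ 1 := fun h => hc (by
  have : (c - 1) • (1 : Module.End K W) = 0 := by rw [sub_smul, one_smul, h, sub_self]
  exact sub_eq_zero.1 ((smul_eq_zero.1 this).resolve_right one_ne_zero))

set_option maxHeartbeats 1600000 in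
theorem two_mul_fixed_lt_twist_aux [IsAlgClosed K] (p q : ℕ) [Fact p.Prime] [Fact q.Prime] (hp5 : 5 ≤ p) :
    ∀ (d : ℕ) (G : Type u) [Group G] [Finite G] (W : Type v) [AddCommGroup W] [Module K W]
      [FiniteDimensional K W] [Nontrivial W] (ρ : Representation K G W) (Q Z₀ : Subgroup G) (x : G),
      Module.finrank K W = d → IsPGroup q Q → Z₀ ≤ Q → (∀ g ∈ Q, x * g * x⁻¹ ∈ Q) →
      (∀ g ∈ Z₀, x * g * x⁻¹ ∈ Z₀) → x ^ p = 1 → (∀ z ∈ Z₀, IsScal (ρ z)) →
      (∀ g ∈ Q, ∀ h ∈ Q, ⁅g, h⁆ ∈ Z₀) →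
      (∀ g ∈ Q, g ∉ Z₀ → ∃ h ∈ Q, ∃ c : K, c ≠ 1 ∧ ρ ⁅g, h⁆ = c • 1) →
      ((∀ g ∈ Q, g⁻¹ * (x * g * x⁻¹) ∈ Z₀ → g ∈ Z₀) ∨
        (q = p ∧ Z₀.relIndex Q ≤ p ^ 2 ∧ ∃ g ∈ Q, g⁻¹ * (x * g * x⁻¹) ∉ Z₀)) →
      (∃ g ∈ Q, g ∉ Z₀) →
      2 * Module.finrank K ↥(LinearMap.ker (ρ x - 1)) < d := by
  classical
  intro d
  induction d using Nat.strong_induction_on with
  | _ d ih =>
  intro G _ _ W _ _ _ _ ρ Q Z₀ x hd hQ hZQ hx hxZ hxp hscal hcomZ hpair hcase hne
  have hp := (Fact.out : p.Prime)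
  by_cases hredu : ∃ U : Submodule K W, (∀ g ∈ Q, ∀ u ∈ U, ρ g u ∈ U) ∧ (∀ u ∈ U, ρ x u ∈ U) ∧ U ≠ ⊥ ∧ U ≠ ⊤
  · obtain ⟨U, hUQ, hUx, hU0, hUt⟩ := hredu
    have hQS : Q ≤ stab ρ U := fun g hg => hUQ g hg
    have hxS : x ∈ stab ρ U := hUx
    haveI : Nontrivial U := Submodule.nontrivial_iff_ne_bot.2 hU0
    haveI : Nontrivial (W ⧸ U) := Submodule.Quotient.nontrivial_iff.2 hUt
    have hlt : Module.finrank K U < d := hd ▸ Submodule.finrank_lt hUt
    have hsum := Submodule.finrank_quotient_add_finrank U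
    have hUpos : 0 < Module.finrank K U := Module.finrank_pos
    set Q' := Q.subgroupOf (stab ρ U)
    set Z' := Z₀.subgroupOf (stab ρ U)
    have hQ' : IsPGroup q Q' := hQ.of_equiv (Subgroup.subgroupOfEquivOfLe hQS).symm
    have hne' : ∃ g ∈ Q', g ∉ Z' := by
      obtain ⟨g, hg, hgz⟩ := hne
      exact ⟨⟨g, hQS hg⟩, hg, hgz⟩
    have hcase' : (∀ g ∈ Q', g⁻¹ * ((⟨x, hxS⟩ : stab ρ U) * g * (⟨x, hxS⟩ : stab ρ U)⁻¹) ∈ Z' → g ∈ Z') ∨
        (q = p ∧ Z'.relIndex Q' ≤ p ^ 2 ∧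
          ∃ g ∈ Q', g⁻¹ * ((⟨x, hxS⟩ : stab ρ U) * g * (⟨x, hxS⟩ : stab ρ U)⁻¹) ∉ Z') := by
      rcases hcase with h | ⟨h1, h2, g, hg, h3⟩
      · exact Or.inl fun g hg hgz => h g hg hgz
      · refine Or.inr ⟨h1, ?_, ⟨g, hQS hg⟩, hg, h3⟩
        rw [Subgroup.relIndex_subgroupOf hQS]
        exact h2
    have hs := ih _ hlt (stab ρ U) U (subRep ρ U) Q' Z' ⟨x, hxS⟩ rfl hQ' (fun g hg => hZQ hg)
      (fun g hg => hx _ hg) (fun g hg => hxZ _ hg) (Subtype.ext hxp)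
      (fun z hz => isScal_subRep ρ U z (hscal _ hz)) (fun g hg h hh => hcomZ _ hg _ hh)
      (fun g hg hgz => by
        obtain ⟨h, hh, c, hc, e⟩ := hpair _ hg hgz
        refine ⟨⟨h, hQS hh⟩, hh, c, hc, LinearMap.ext fun u => Subtype.ext ?_⟩
        rw [subRep_apply]
        exact LinearMap.congr_fun e (u : W))
      hcase' hne'
    have hq := ih _ (by omega : Module.finrank K (W ⧸ U) < d) (stab ρ U) (W ⧸ U) (quotRep ρ U) Q' Z'
      ⟨x, hxS⟩ rfl hQ' (fun g hg => hZQ hg) (fun g hg => hx _ hg) (fun g hg => hxZ _ hg) (Subtype.ext hxp)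
      (fun z hz => isScal_quotRep ρ U z (hscal _ hz)) (fun g hg h hh => hcomZ _ hg _ hh)
      (fun g hg hgz => by
        obtain ⟨h, hh, c, hc, e⟩ := hpair _ hg hgz
        refine ⟨⟨h, hQS hh⟩, hh, c, hc, LinearMap.ext fun u => ?_⟩
        obtain ⟨w, rfl⟩ := Submodule.Quotient.mk_surjective U u
        rw [quotRep_apply]
        exact congrArg Submodule.Quotient.mk (LinearMap.congr_fun e w))
      hcase' hne'
    have hk := finrank_ker_le_sub_add_quot ρ U ⟨x, hxS⟩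
    change Module.finrank K ↥(LinearMap.ker (ρ x - 1)) ≤ _ at hk
    omega
  push Not at hredu
  have hirr : ∀ U : Submodule K W, (∀ g ∈ Q, ∀ u ∈ U, ρ g u ∈ U) → (∀ u ∈ U, ρ x u ∈ U) → U = ⊥ ∨ U = ⊤ := by
    intro U h1 h2
    by_cases h : U = ⊥
    · exact Or.inl h
    · exact Or.inr (hredu U h1 h2 h)
  -- the scalar elements
  have hpair0 : ∀ g ∈ Q, (∀ h ∈ Q, Commute (ρ g) (ρ h)) → g ∈ Z₀ := by
    intro g hg hcg
    by_contra hgz
    obtain ⟨h, hh, c, hc, e⟩ := hpair g hg hgz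
    refine ne_one_of_smul_one_ne (W := W) hc ?_
    rw [← e, commutatorElement_def, map_mul, map_mul, map_mul, (hcg h hh).eq, mul_assoc (ρ h), ← map_mul ρ g,
      mul_inv_cancel, map_one, mul_one, ← map_mul, mul_inv_cancel, map_one]
  have hscal_iff : ∀ g ∈ Q, IsScal (ρ g) → g ∈ Z₀ := fun g hg hs => hpair0 g hg fun h _ => hs.commute _
  have hcomm : ∀ g ∈ Q, ∀ h ∈ Q, ∃ c : K, ρ (h * g * h⁻¹) = c • ρ g := by
    intro g hg h hh
    obtain ⟨c, hc⟩ := hscal _ (hcomZ h hh g hg)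
    refine ⟨c, ?_⟩
    rw [show h * g * h⁻¹ = ⁅h, g⁆ * g by rw [commutatorElement_def]; group, map_mul, hc, smul_mul_assoc,
      one_mul]
  have hcent : ∀ g ∈ Q, (∀ h ∈ Q, Commute (ρ g) (ρ h)) → IsScal (ρ g) := fun g hg h =>
    hscal g (hpair0 g hg h)
  have hspan := span_eq_top_of_scalar ρ p hp.pos Q x hx hxp hcomm hcent hirr
  obtain ⟨hlines, horb⟩ := CfsgLib.Solvable.PrimeAction.orbit_count ρ p hp Q x hx hxp hspan hcomm hcent
  have hXne : ρ x ≠ 1 := by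
    intro h1
    have h2 : ∀ g ∈ Q, g⁻¹ * (x * g * x⁻¹) ∈ Z₀ := by
      intro g hg
      refine hscal_iff _ (Q.mul_mem (Q.inv_mem hg) (hx g hg)) ⟨1, ?_⟩
      have hx' : ρ x⁻¹ = 1 := by
        have := map_mul ρ x x⁻¹
        rwa [mul_inv_cancel, map_one, h1, one_mul, eq_comm] at this
      rw [map_mul, map_mul, map_mul, h1, one_mul, hx', mul_one, ← map_mul, inv_mul_cancel, map_one, one_smul]
    rcases hcase with h | ⟨-, -, g, hg, h3⟩
    · obtain ⟨g, hg, hgz⟩ := hne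
      exact hgz (h g hg (h2 g hg))
    · exact h3 (h2 g hg)
  have hcm := commutant_sq_add_one_le (ρ x) hXne
  set a := Module.finrank K ↥(LinearMap.ker (ρ x - 1))
  have horb' : (a ^ 2 + 1) * p ≤ Nat.card (Q ⧸ CfsgLib.Solvable.PrimeAction.scalSub ρ Q) +
      (p - 1) * (CfsgLib.Solvable.PrimeAction.fixedLines ρ Q x).ncard :=
    le_trans (Nat.mul_le_mul_right p hcm) horb
  have hfixmem : ∀ g : Q, (QuotientGroup.mk g : Q ⧸ CfsgLib.Solvable.PrimeAction.scalSub ρ Q) ∈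
      CfsgLib.Solvable.PrimeAction.fixedLines ρ Q x → (g : G)⁻¹ * (x * g * x⁻¹) ∈ Z₀ := by
    intro g hg
    obtain ⟨c, hc⟩ := hg g rfl
    refine hscal_iff _ (Q.mul_mem (Q.inv_mem g.2) (hx g g.2)) ⟨c, ?_⟩
    rw [map_mul, hc, mul_smul_comm, ← map_mul, inv_mul_cancel, map_one]
  obtain ⟨k, hk⟩ : ∃ k, p = k + 5 := ⟨p - 5, by omega⟩
  by_contra hcon
  have h2a : d ≤ 2 * a := by omega
  rw [hd] at hlines
  rcases hcase with h | ⟨hqp, hrel, g₁, hg₁, hg₁'⟩
  · have hφ : (CfsgLib.Solvable.PrimeAction.fixedLines ρ Q x).ncard ≤ 1 := by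
      rw [Set.ncard_le_one]
      intro u hu v hv
      obtain ⟨u, rfl⟩ := QuotientGroup.mk_surjective u
      obtain ⟨v, rfl⟩ := QuotientGroup.mk_surjective v
      rw [(QuotientGroup.eq_one_iff u).2 (hscal _ (h u u.2 (hfixmem u hu))),
        (QuotientGroup.eq_one_iff v).2 (hscal _ (h v v.2 (hfixmem v hv)))]
    rw [hlines] at horb'
    have h4 : (p - 1) * (CfsgLib.Solvable.PrimeAction.fixedLines ρ Q x).ncard ≤ p - 1 :=
      le_trans (Nat.mul_le_mul_left _ hφ) (by rw [mul_one])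
    have hdd : d * d ≤ 2 * a * (2 * a) := Nat.mul_le_mul h2a h2a
    subst hk
    rw [show k + 5 - 1 = k + 4 by omega] at h4 horb'
    nlinarith
  · -- the small extraspecial case
    subst hqp
    set S := CfsgLib.Solvable.PrimeAction.scalSub ρ Q with hS
    have hSZ : S = Z₀.subgroupOf Q := by
      ext g
      exact ⟨fun hg => hscal_iff g g.2 hg, fun hg => hscal _ hg⟩
    have hcard : Nat.card (Q ⧸ S) ≤ q ^ 2 := by
      rw [hSZ]; exact hrel
    let F : Subgroup Q :=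
      { carrier := {g | (g : G)⁻¹ * (x * g * x⁻¹) ∈ Z₀}
        one_mem' := by simp
        mul_mem' := fun {g h} hg hh => by
          show ((g * h : Q) : G)⁻¹ * (x * (g * h : Q) * x⁻¹) ∈ Z₀
          rw [Subgroup.coe_mul, show ((g : G) * h)⁻¹ * (x * ((g : G) * h) * x⁻¹) =
            ⁅(h : G)⁻¹, (g : G)⁻¹ * (x * g * x⁻¹)⁆ * ((g : G)⁻¹ * (x * g * x⁻¹)) * ((h : G)⁻¹ * (x * h * x⁻¹)) by
              rw [commutatorElement_def]; group]
          exact Z₀.mul_mem (Z₀.mul_mem (hcomZ _ (Q.inv_mem h.2) _ (hZQ hg)) hg) hh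
        inv_mem' := fun {g} hg => by
          show ((g⁻¹ : Q) : G)⁻¹ * (x * (g⁻¹ : Q) * x⁻¹) ∈ Z₀
          rw [Subgroup.coe_inv, show ((g : G)⁻¹)⁻¹ * (x * (g : G)⁻¹ * x⁻¹) =
            ⁅(g : G), ((g : G)⁻¹ * (x * g * x⁻¹))⁻¹⁆ * ((g : G)⁻¹ * (x * g * x⁻¹))⁻¹ by
              rw [commutatorElement_def]; group]
          exact Z₀.mul_mem (hcomZ _ g.2 _ (Q.inv_mem (hZQ hg))) (Z₀.inv_mem hg) }
    set F' := F.map (QuotientGroup.mk' S)
    have hF' : F' < ⊤ := by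
      refine lt_top_iff_ne_top.2 fun htop => hg₁' ?_
      obtain ⟨f, hf, e⟩ : (QuotientGroup.mk' S ⟨g₁, hg₁⟩) ∈ F' := htop ▸ Subgroup.mem_top _
      have hmem : f⁻¹ * (⟨g₁, hg₁⟩ : Q) ∈ F := by
        have h := QuotientGroup.eq.1 e
        rw [hSZ] at h
        set z := f⁻¹ * (⟨g₁, hg₁⟩ : Q)
        show (z : G)⁻¹ * (x * z * x⁻¹) ∈ Z₀
        exact Z₀.mul_mem (Z₀.inv_mem h) (hxZ _ h)
      have := F.mul_mem hf hmem
      rwa [mul_inv_cancel_left] at this
    have hV : IsPGroup q (Q ⧸ S) := hQ.to_quotient S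
    obtain ⟨b, hb⟩ := IsPGroup.iff_card.1 hV
    obtain ⟨b', hb'⟩ := IsPGroup.iff_card.1 (hV.to_subgroup F')
    have hltF : Nat.card F' < Nat.card (Q ⧸ S) := by
      refine lt_of_le_of_ne (Nat.le_of_dvd Nat.card_pos F'.card_subgroup_dvd_card) fun h => hF'.ne ?_
      exact Subgroup.eq_top_of_card_eq _ h
    have hbb : b' < b := (Nat.pow_lt_pow_iff_right hp.one_lt).1 (hb' ▸ hb ▸ hltF)
    have hb2 : b ≤ 2 := (Nat.pow_le_pow_iff_right hp.one_lt).1 (hb ▸ hcard)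
    have hφ : (CfsgLib.Solvable.PrimeAction.fixedLines ρ Q x).ncard ≤ Nat.card F' := by
      rw [← Nat.card_coe_set_eq]
      refine Nat.card_mono (Set.toFinite _) fun v hv => ?_
      obtain ⟨g, rfl⟩ := QuotientGroup.mk_surjective v
      exact ⟨g, hfixmem g hv, rfl⟩
    rw [hb'] at hφ
    rw [hlines] at hb
    rw [hlines] at horb'
    obtain ⟨m, -, hm⟩ := (Nat.dvd_prime_pow hp).1 (show d ∣ q ^ b from ⟨d, hb.symm⟩)
    have hm1 : m = 1 := by
      have : q ^ (m + m) = q ^ b := by rw [pow_add, ← hm, hb]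
      have := Nat.pow_right_injective hp.two_le this
      omega
    rw [hm1, pow_one] at hm
    have hφq : (CfsgLib.Solvable.PrimeAction.fixedLines ρ Q x).ncard ≤ q :=
      le_trans hφ (le_trans (Nat.pow_le_pow_right hp.pos (show b' ≤ 1 by omega)) (by rw [pow_one]))
    have h5 : (a ^ 2 + 1) * q ≤ d * d + (q - 1) * q :=
      le_trans horb' (Nat.add_le_add_left (Nat.mul_le_mul_left _ hφq) _)
    rw [hm] at h5 h2a
    rw [← add_mul, Nat.mul_le_mul_right_iff hp.pos] at h5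
    have hq1 : q + 1 ≤ 2 * a := by
      obtain ⟨r, hr⟩ := hp.odd_of_ne_two (by omega)
      omega
    have hsq : (q + 1) * (q + 1) ≤ 2 * a * (2 * a) := Nat.mul_le_mul hq1 hq1
    subst hk
    rw [show k + 5 - 1 = k + 4 by omega] at h5
    nlinarith

/-- An element of prime order `p ≥ 5` acting non-trivially on a group with scalar non-degenerate
commutator pairing fixes less than half of the space. -/
theorem two_mul_fixed_lt_twist [IsAlgClosed K] {p q : ℕ} [Fact p.Prime] [Fact q.Prime] (hp5 : 5 ≤ p)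
    {G : Type u} [Group G] [Finite G] {W : Type v} [AddCommGroup W] [Module K W]
    [FiniteDimensional K W] [Nontrivial W] (ρ : Representation K G W) (Q Z₀ : Subgroup G) (x : G)
    (hQ : IsPGroup q Q) (hZQ : Z₀ ≤ Q) (hx : ∀ g ∈ Q, x * g * x⁻¹ ∈ Q)
    (hxZ : ∀ g ∈ Z₀, x * g * x⁻¹ ∈ Z₀) (hxp : x ^ p = 1) (hscal : ∀ z ∈ Z₀, IsScal (ρ z))
    (hcomZ : ∀ g ∈ Q, ∀ h ∈ Q, ⁅g, h⁆ ∈ Z₀)
    (hpair : ∀ g ∈ Q, g ∉ Z₀ → ∃ h ∈ Q, ∃ c : K, c ≠ 1 ∧ ρ ⁅g, h⁆ = c • 1)
    (hcase : (∀ g ∈ Q, g⁻¹ * (x * g * x⁻¹) ∈ Z₀ → g ∈ Z₀) ∨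
      (q = p ∧ Z₀.relIndex Q ≤ p ^ 2 ∧ ∃ g ∈ Q, g⁻¹ * (x * g * x⁻¹) ∉ Z₀))
    (hne : ∃ g ∈ Q, g ∉ Z₀) :
    2 * Module.finrank K ↥(LinearMap.ker (ρ x - 1)) < Module.finrank K W :=
  two_mul_fixed_lt_twist_aux p q hp5 _ G W ρ Q Z₀ x rfl hQ hZQ hx hxZ hxp hscal hcomZ hpair hcase hne

end CfsgLib.Solvable.FixedSpace
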