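import Mathlib
import Cfsg.Agent.Lib.Solvable.FixedSpacePerm
import Cfsg.Agent.Lib.Solvable.FixedSpaceTwist
import Cfsg.Agent.Lib.Solvable.FixedSpaceShift

/-!
An element of prime order `p ≥ 5` whose conjugates generate a solvable group fixes less than half of a
faithful irreducible module over an algebraically closed field.
-/

set_option autoImplicit false
set_option linter.style.haveILetI false

namespace CfsgLib.Solvable.FixedSpace

open CfsgLib.HallHigman
open scoped commutatorElement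
open Subgroup

universe u v w

variable {K : Type w} [Field K] [IsAlgClosed K] {W : Type v} [AddCommGroup W] [Module K W] [FiniteDimensional K W]
  {G : Type u} [Group G] [Finite G]

theorem isScal_of_forall_commute [Nontrivial W] (ρ : Representation K G W)
    (hirr : ∀ U : Submodule K W, (∀ g, ∀ u ∈ U, ρ g u ∈ U) → U = ⊥ ∨ U = ⊤) (f : Module.End K W)
    (hf : ∀ g, Commute (ρ g) f) : IsScal f := by
  obtain ⟨μ, hμ⟩ := Module.End.exists_eigenvalue f
  refine ⟨μ, LinearMap.ext fun w => ?_⟩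
  rcases hirr (f.eigenspace μ) (fun g u hu => by
    rw [Module.End.mem_eigenspace_iff] at hu ⊢
    rw [← Module.End.mul_apply, ← (hf g).eq, Module.End.mul_apply, hu, map_smul]) with h | h
  · exact absurd h (Module.End.hasEigenvalue_iff.1 hμ)
  · exact Module.End.mem_eigenspace_iff.1 (h ▸ Submodule.mem_top)

theorem map_eq_smul_comm (ρ : Representation K G W) {g h : G} {c : K} (hc : ρ ⁅g, h⁆ = c • 1) :
    ρ g * ρ h = c • (ρ h * ρ g) := by
  rw [← map_mul, show g * h = ⁅g, h⁆ * (h * g) by rw [commutatorElement_def]; group, map_mul, hc, smul_mul_assoc,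
    one_mul, map_mul]

theorem apply_inj (ρ : Representation K G W) (g : G) : Function.Injective (ρ g) := by
  intro a b h
  have := congrArg (ρ g⁻¹) h
  rwa [← Module.End.mul_apply, ← Module.End.mul_apply, ← map_mul, inv_mul_cancel, map_one] at this

/-- Coprime case: `x` of order `p` acts on the `q`-group `E` that is abelian modulo the centre. -/
theorem two_mul_fixed_lt_coprime [Nontrivial W] (ρ : Representation K G W) (hfaith : Function.Injective ρ)
    {p q : ℕ} [Fact p.Prime] [Fact q.Prime] (hp5 : 5 ≤ p) (hqp : q ≠ p) (x : G) (hxp : x ^ p = 1)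
    (E : Subgroup G) [E.Normal] (hEq : IsPGroup q E)
    (hscal : ∀ z ∈ center G, IsScal (ρ z)) (hcomE : ∀ a ∈ E, ∀ b ∈ E, ⁅a, b⁆ ∈ center G)
    (hpowE : ∀ e ∈ E, e ^ q ∈ center G) (hcentE : ∀ e ∈ E, (∀ h ∈ E, h * e = e * h) → e ∈ center G)
    (hmove : ∃ e ∈ E, ⁅e, x⁆ ∉ center G) :
    2 * Module.finrank K ↥(LinearMap.ker (ρ x - 1)) < Module.finrank K W := by
  classical
  set Z := center G with hZ
  set π := QuotientGroup.mk' Z
  have hE : ∀ g : G, ∀ e ∈ E, g * e * g⁻¹ ∈ E := fun g e he => Normal.conj_mem ‹E.Normal› e he g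
  have hπab : ∀ a ∈ E, ∀ b ∈ E, π a * π b = π b * π a := by
    intro a ha b hb
    rw [← commutatorElement_eq_one_iff_mul_comm, ← map_commutatorElement]
    exact (QuotientGroup.eq_one_iff _).2 (hcomE a ha b hb)
  set Q := closure ((fun e : G => ⁅e, x⁆) '' (E : Set G)) with hQdef
  have hgenE : ∀ e ∈ E, ⁅e, x⁆ ∈ E := by
    intro e he
    rw [commutatorElement_def, show e * x * e⁻¹ * x⁻¹ = e * (x * e⁻¹ * x⁻¹) by group]
    exact E.mul_mem he (hE x _ (E.inv_mem he))
  have hgenQ : ∀ e ∈ E, ⁅e, x⁆ ∈ Q := fun e he => subset_closure ⟨e, he, rfl⟩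
  have hQE : Q ≤ E := by
    rw [hQdef, closure_le]
    rintro _ ⟨e, he, rfl⟩
    exact hgenE e he
  have hQx : ∀ g ∈ Q, x * g * x⁻¹ ∈ Q := by
    have : Q ≤ Q.comap (MulAut.conj x).toMonoidHom := by
      conv_lhs => rw [hQdef]
      rw [closure_le]
      rintro _ ⟨e, he, rfl⟩
      show x * ⁅e, x⁆ * x⁻¹ ∈ Q
      rw [show x * ⁅e, x⁆ * x⁻¹ = ⁅x * e * x⁻¹, x⁆ by simp only [commutatorElement_def]; group]
      exact hgenQ _ (hE x e he)
    exact fun g hg => this hg
  have hQnE : ∀ e ∈ E, ∀ g ∈ Q, e * g * e⁻¹ ∈ Q := by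
    intro e he
    have : Q ≤ Q.comap (MulAut.conj e).toMonoidHom := by
      conv_lhs => rw [hQdef]
      rw [closure_le]
      rintro _ ⟨a, ha, rfl⟩
      show e * ⁅a, x⁆ * e⁻¹ ∈ Q
      rw [show e * ⁅a, x⁆ * e⁻¹ = ⁅e * a, x⁆ * (⁅e, x⁆)⁻¹ by simp only [commutatorElement_def]; group]
      exact Q.mul_mem (hgenQ _ (E.mul_mem he ha)) (Q.inv_mem (hgenQ e he))
    exact fun g hg => this hg
  -- the norm map
  have hxp' : π x ^ p = 1 := by rw [← map_pow, hxp, map_one]
  have hN : ∀ a ∈ E, ∀ b ∈ E, ∀ n : ℕ,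
      π ((a * x) ^ n * (x ^ n)⁻¹) * π ((b * x) ^ n * (x ^ n)⁻¹) = π ((a * b * x) ^ n * (x ^ n)⁻¹) ∧
      ((a * x) ^ n * (x ^ n)⁻¹ ∈ E) := by
    intro a ha b hb n
    induction n with
    | zero => simp
    | succ n ih =>
      have hrec : ∀ c : G, (c * x) ^ (n + 1) * (x ^ (n + 1))⁻¹ = c * (x * ((c * x) ^ n * (x ^ n)⁻¹) * x⁻¹) := by
        intro c; rw [pow_succ' (c * x), pow_succ' x]; group
      refine ⟨?_, by rw [hrec]; exact E.mul_mem ha (hE x _ ih.2)⟩
      rw [hrec, hrec, hrec, map_mul, map_mul π b, map_mul π (a * b)]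
      set u := x * ((a * x) ^ n * (x ^ n)⁻¹) * x⁻¹
      set v := x * ((b * x) ^ n * (x ^ n)⁻¹) * x⁻¹
      have huv : π u * π v = π (x * ((a * b * x) ^ n * (x ^ n)⁻¹) * x⁻¹) := by
        calc π u * π v
            = π x * (π ((a * x) ^ n * (x ^ n)⁻¹) * π ((b * x) ^ n * (x ^ n)⁻¹)) * (π x)⁻¹ := by
              simp only [u, v, map_mul, map_inv]; group
          _ = π x * π ((a * b * x) ^ n * (x ^ n)⁻¹) * (π x)⁻¹ := by rw [ih.1]
          _ = _ := by rw [map_mul π _ x⁻¹, map_mul π x, map_inv]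
      rw [← huv, map_mul π a b]
      have huE : u ∈ E := hE x _ ih.2
      calc π a * π u * (π b * π v) = π a * (π u * π b) * π v := by group
        _ = π a * (π b * π u) * π v := by rw [hπab u huE b hb]
        _ = π a * π b * (π u * π v) := by group
  have hNmul : ∀ a ∈ E, ∀ b ∈ E, π ((a * b * x) ^ p) = π ((a * x) ^ p) * π ((b * x) ^ p) := by
    intro a ha b hb
    have := (hN a ha b hb p).1
    simp only [hxp, inv_one, mul_one] at this
    exact this.symm
  have hkill : ∀ g ∈ Q, π ((g * x) ^ p) = 1 := by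
    intro g hg
    induction hg using closure_induction with
    | mem g hg =>
      obtain ⟨e, he, rfl⟩ := hg
      rw [show ⁅e, x⁆ * x = e * x * e⁻¹ by rw [commutatorElement_def]; group, conj_pow, hxp, mul_one,
        mul_inv_cancel, map_one]
    | one => rw [one_mul, hxp, map_one]
    | mul a b ha hb iha ihb => rw [hNmul a (hQE ha) b (hQE hb), iha, ihb, one_mul]
    | inv a ha iha =>
      have := hNmul a (hQE ha) a⁻¹ (E.inv_mem (hQE ha))
      rw [mul_inv_cancel, one_mul, hxp, map_one, iha, one_mul] at this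
      exact this.symm
  have hcop : p.Coprime q := (Nat.coprime_primes Fact.out Fact.out).2 (Ne.symm hqp)
  -- fixed points modulo the centre
  have hfix : ∀ g ∈ Q, g⁻¹ * (x * g * x⁻¹) ∈ Z → g ∈ Z := by
    intro g hg h
    have hc : Commute (π g) (π x) := by
      have h1 : π (g⁻¹ * (x * g * x⁻¹)) = 1 := (QuotientGroup.eq_one_iff _).2 h
      rw [map_mul, map_mul, map_mul, map_inv, map_inv, inv_mul_eq_one] at h1
      show π g * π x = π x * π g
      conv_lhs => rw [h1]
      group
    have h2 := hkill g hg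
    rw [map_pow, map_mul, hc.mul_pow, hxp', mul_one] at h2
    have h3 : π g ^ q = 1 := by
      rw [← map_pow]; exact (QuotientGroup.eq_one_iff _).2 (hpowE g (hQE hg))
    have := pow_gcd_eq_one.2 ⟨h2, h3⟩
    rw [hcop, pow_one] at this
    exact (QuotientGroup.eq_one_iff g).1 this
  -- `Q` commutes with the fixed points
  have hQC : ∀ e ∈ E, π x * π e = π e * π x → ∀ g ∈ Q, g * e = e * g := by
    intro e he hc g hg
    suffices Q ≤ centralizer ({e} : Set G) from mem_centralizer_singleton_iff.1 (this hg)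
    rw [hQdef, closure_le]
    rintro _ ⟨a, ha, rfl⟩
    refine mem_centralizer_singleton_iff.2 ?_
    obtain ⟨z, hz, hxe⟩ : ∃ z ∈ Z, x * e * x⁻¹ = e * z := by
      refine ⟨e⁻¹ * (x * e * x⁻¹), (QuotientGroup.eq_one_iff _).1 ?_, by group⟩
      show π (e⁻¹ * (x * e * x⁻¹)) = 1
      rw [map_mul, map_mul, map_mul, map_inv, map_inv, hc]
      group
    set b := x * a * x⁻¹ with hb
    have hcz := mem_center_iff.1 hz
    have h1 : ⁅a, e⁆ = ⁅b, e⁆ := by
      calc ⁅a, e⁆ = x * ⁅a, e⁆ * x⁻¹ := by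
            rw [mem_center_iff.1 (hcomE a ha e he) x]; group
        _ = ⁅b, x * e * x⁻¹⁆ := by rw [hb]; simp only [commutatorElement_def]; group
        _ = b * e * (z * b⁻¹) * z⁻¹ * e⁻¹ := by rw [hxe, commutatorElement_def]; group
        _ = ⁅b, e⁆ := by rw [← hcz b⁻¹, commutatorElement_def]; group
    have h2 : a * e * a⁻¹ = b * e * b⁻¹ := by
      simpa only [commutatorElement_def, mul_left_inj] using h1
    have h3 : b⁻¹ * a * e = e * (b⁻¹ * a) := by
      calc b⁻¹ * a * e = b⁻¹ * (a * e * a⁻¹) * a := by group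
        _ = b⁻¹ * (b * e * b⁻¹) * a := by rw [h2]
        _ = _ := by group
    have hw : ⁅a, b⁻¹⁆ ∈ Z := hcomE a ha _ (E.inv_mem (hE x a ha))
    have h4 : ⁅a, x⁆ = ⁅a, b⁻¹⁆ * (b⁻¹ * a) := by simp only [commutatorElement_def, hb]; group
    show ⁅a, x⁆ * e = e * ⁅a, x⁆
    rw [h4, mul_assoc, h3, ← mul_assoc, ← mem_center_iff.1 hw e, mul_assoc]
  have hdec : ∀ e ∈ E, ∀ n : ℕ, e ^ n * ((e * x) ^ n * (x ^ n)⁻¹)⁻¹ ∈ Q := by
    intro e he n
    induction n with
    | zero => simp
    | succ n ih =>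
      have ha := (hN e he e he n).2
      rw [show e ^ (n + 1) * ((e * x) ^ (n + 1) * (x ^ (n + 1))⁻¹)⁻¹ =
        e * ((e ^ n * ((e * x) ^ n * (x ^ n)⁻¹)⁻¹) * ⁅(e * x) ^ n * (x ^ n)⁻¹, x⁆) * e⁻¹ by
          rw [pow_succ' e, pow_succ' (e * x), pow_succ' x]
          generalize (e * x) ^ n = A
          generalize x ^ n = B
          generalize e ^ n = C
          rw [commutatorElement_def]; group]
      exact hQnE e he _ (Q.mul_mem ih (hgenQ _ ha))
  have hcentQ : ∀ g ∈ Q, (∀ h ∈ Q, g * h = h * g) → g ∈ Z := by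
    intro g hg hgc
    refine hcentE g (hQE hg) fun e he => ?_
    have hd := hdec e he p
    have hE' := (hN e he e he p).2
    rw [hxp, inv_one, mul_one] at hd hE'
    set c := (e * x) ^ p
    have hcfix : π x * π c = π c * π x := by
      have h1 : π (x * c * x⁻¹) = π c := by
        have e1 : x * c * x⁻¹ = e⁻¹ * ((e * x) * c * (e * x)⁻¹) * e := by group
        rw [e1, ← pow_succ', pow_succ, mul_inv_cancel_right, map_mul, map_mul, map_inv, mul_assoc,
          hπab c hE' e he, inv_mul_cancel_left]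
      rw [map_mul, map_mul, map_inv] at h1
      calc π x * π c = π x * π c * (π x)⁻¹ * π x := by group
        _ = π c * π x := by rw [h1]
    have hgp : Commute g (e ^ p) := by
      have h1 : Commute g c := hQC c hE' hcfix g hg
      have h2 : Commute g (e ^ p * c⁻¹) := hgc _ hd
      have := h2.mul_right h1
      rwa [inv_mul_cancel_right] at this
    obtain ⟨m, hm⟩ := exists_pow_eq_self_of_coprime (x := e) (n := p) (by
      obtain ⟨k, hk⟩ := hEq ⟨e, he⟩
      refine Nat.Coprime.coprime_dvd_right ?_ (hcop.pow_right k)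
      exact orderOf_dvd_of_pow_eq_one (congrArg Subtype.val hk))
    have h5 : Commute g e := hm ▸ hgp.pow_right m
    exact h5.eq.symm
  refine two_mul_fixed_lt_twist (q := q) hp5 ρ Q (Q ⊓ Z) x (hEq.to_le hQE) inf_le_left hQx
    (fun g hg => ⟨hQx g hg.1, by rw [mem_center_iff.1 hg.2 x, mul_inv_cancel_right]; exact hg.2⟩) hxp
    (fun z hz => hscal z hz.2) (fun g hg h hh => ?_) (fun g hg hgz => ?_) (Or.inl fun g hg h => ⟨hg, hfix g hg h.2⟩) ?_
  · refine ⟨?_, hcomE g (hQE hg) h (hQE hh)⟩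
    rw [commutatorElement_def]
    exact Q.mul_mem (Q.mul_mem (Q.mul_mem hg hh) (Q.inv_mem hg)) (Q.inv_mem hh)
  · by_contra hno
    push Not at hno
    refine hgz ⟨hg, hcentQ g hg fun h hh => ?_⟩
    obtain ⟨c, hc⟩ := hscal _ (hcomE g (hQE hg) h (hQE hh))
    have hc1 : c = 1 := by
      by_contra hc1
      exact hno h hh c hc1 hc
    rw [hc1, one_smul, ← map_one ρ] at hc
    exact commutatorElement_eq_one_iff_mul_comm.1 (hfaith hc)
  · obtain ⟨e, he, hez⟩ := hmove
    exact ⟨⁅e, x⁆, hgenQ e he, fun h => hez h.2⟩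

set_option maxHeartbeats 1600000 in
/-- The case `q = p`. -/
theorem two_mul_fixed_lt_modular [Nontrivial W] (ρ : Representation K G W) (hfaith : Function.Injective ρ)
    {p : ℕ} [Fact p.Prime] (hp5 : 5 ≤ p) (x : G) (hxp : x ^ p = 1)
    (E : Subgroup G) [E.Normal] (hEp : IsPGroup p E)
    (hscal : ∀ z ∈ center G, IsScal (ρ z)) (hcomE : ∀ a ∈ E, ∀ b ∈ E, ⁅a, b⁆ ∈ center G)
    (hpowE : ∀ e ∈ E, e ^ p ∈ center G) (hcentE : ∀ e ∈ E, (∀ h ∈ E, h * e = e * h) → e ∈ center G)
    (hmove : ∃ e ∈ E, ⁅e, x⁆ ∉ center G) :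
    2 * Module.finrank K ↥(LinearMap.ker (ρ x - 1)) < Module.finrank K W := by
  classical
  have hp := (Fact.out : p.Prime)
  set Z := center G with hZ
  have hE : ∀ g : G, ∀ e ∈ E, g * e * g⁻¹ ∈ E := fun g e he => Normal.conj_mem ‹E.Normal› e he g
  have hnpos : 0 < Module.finrank K W := Module.finrank_pos
  have hgenE : ∀ e ∈ E, ⁅e, x⁆ ∈ E := by
    intro e he
    rw [commutatorElement_def, show e * x * e⁻¹ * x⁻¹ = e * (x * e⁻¹ * x⁻¹) by group]
    exact E.mul_mem he (hE x _ (E.inv_mem he))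
  have hne : ∀ a : G, a ≠ 1 → ∀ σ : K, ρ a = σ • 1 → σ ≠ 1 := fun a ha σ hσ h1 => by
    rw [h1, one_smul, ← map_one ρ] at hσ
    exact ha (hfaith hσ)
  have hroot : ∀ {X Y : Module.End K W} {σ : K}, X * Y = σ • (Y * X) → Commute (X ^ p) Y →
      Y * X ^ p ≠ 0 → σ ^ p = 1 := by
    intro X Y σ h hc h0
    have h1 := pow_mul_rel h p
    rw [hc.eq] at h1
    have h2 : (σ ^ p - 1) • (Y * X ^ p) = 0 := by rw [sub_smul, one_smul, ← h1, sub_self]
    exact sub_eq_zero.1 ((smul_eq_zero.1 h2).resolve_right h0)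
  -- choose `g`
  obtain ⟨g, hg, hc, hs⟩ : ∃ g ∈ E, ⁅g, x⁆ ∉ Z ∧ ⁅⁅g, x⁆, x⁆ ∈ Z := by
    by_contra hno
    push Not at hno
    obtain ⟨e, he, hez⟩ := hmove
    set S := E ⊔ zpowers x
    have hSp : IsPGroup p S := hEp.to_sup_of_normal_left (IsPGroup.of_card_dvd_pow (n := 1) (by
      rw [Nat.card_zpowers, pow_one]; exact orderOf_dvd_of_pow_eq_one hxp))
    haveI : Group.IsNilpotent S := hSp.isNilpotent
    let f : ℕ → G := Nat.rec ⁅e, x⁆ fun _ t => ⁅t, x⁆
    have hf : ∀ n, f n ∉ Z ∧ (∃ e' ∈ E, f n = ⁅e', x⁆) ∧ f n ∈ S.lowerCentralSeries (n + 1) := by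
      intro n
      induction n with
      | zero => exact ⟨hez, ⟨e, he, rfl⟩, commutator_mem_commutator (mem_sup_left he) (mem_sup_right (mem_zpowers x))⟩
      | succ n ih =>
        obtain ⟨h1, ⟨e', he', h2⟩, h3⟩ := ih
        refine ⟨?_, ⟨f n, h2 ▸ hgenE e' he', rfl⟩, commutator_mem_commutator h3 (mem_sup_right (mem_zpowers x))⟩
        show ⁅f n, x⁆ ∉ Z
        rw [h2]
        exact hno e' he' (h2 ▸ h1)
    obtain ⟨h1, -, h3⟩ := hf (Group.nilpotencyClass S)
    rw [lowerCentralSeries_eq_bot_of_nilpotencyClass_le (Nat.le_succ _), mem_bot] at h3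
    exact h1 (h3 ▸ one_mem Z)
  set c := ⁅g, x⁆ with hcdef
  set s := ⁅c, x⁆ with hsdef
  have hcE : c ∈ E := hgenE g hg
  set C := LinearMap.ker (ρ x - 1)
  have hfinal : p * Module.finrank K C ≤ 2 * Module.finrank K W → 2 * Module.finrank K C < Module.finrank K W := by
    intro h
    have : 5 * Module.finrank K C ≤ p * Module.finrank K C := Nat.mul_le_mul_right _ hp5
    omega
  by_cases hs1 : s = 1
  swap
  · obtain ⟨σ, hσ⟩ := hscal s hs
    have hσ1 : σ ≠ 1 := hne s hs1 σ hσ
    have hcx : ρ c * ρ x = σ • (ρ x * ρ c) := map_eq_smul_comm ρ hσ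
    have hσ0 : σ ≠ 0 := fun h => rep_ne_zero ρ s (by rw [hσ, h, zero_smul])
    have hxc : ρ x * ρ c = σ⁻¹ • (ρ c * ρ x) := by rw [hcx, smul_smul, inv_mul_cancel₀ hσ0, one_smul]
    have hp1 : σ⁻¹ ^ p = 1 := hroot hxc (by rw [← map_pow, hxp, map_one]; exact Commute.one_left _) (by
      rw [← map_pow, ← map_mul]; exact rep_ne_zero ρ _)
    refine hfinal (le_trans (shift_bound hp hp1 (fun h => hσ1 (inv_eq_one.1 h)) hxc (apply_inj ρ c)) ?_)
    omega
  -- `x` fixes `c`
  have hxc : Commute x c := (commutatorElement_eq_one_iff_mul_comm.1 hs1).symm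
  have hxg : x * g * x⁻¹ = c⁻¹ * g := by rw [hcdef, commutatorElement_def]; group
  set w := ⁅g, c⁆ with hwdef
  have hwZ : w ∈ Z := hcomE g hg c hcE
  have hcp : c ^ p ∈ Z := hpowE c hcE
  have hgp : g ^ p ∈ Z := hpowE g hg
  by_cases hw1 : w = 1
  swap
  · -- a group of order `p³` on which `x` acts non-trivially
    obtain ⟨ω, hω⟩ := hscal w hwZ
    have hω1 : ω ≠ 1 := hne w hw1 ω hω
    have hω0 : ω ≠ 0 := fun h => rep_ne_zero ρ w (by rw [hω, h, zero_smul])
    have hgc : ρ g * ρ c = ω • (ρ c * ρ g) := map_eq_smul_comm ρ hω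
    have hωp : ω ^ p = 1 := hroot hgc (by
      rw [← map_pow]
      exact (show Commute (g ^ p) c from (mem_center_iff.1 hgp c).symm).map ρ) (by
      rw [← map_pow, ← map_mul]; exact rep_ne_zero ρ _)
    have hord : orderOf ω = p := orderOf_eq_prime hωp hω1
    set Q := closure ({g, c} : Set G) with hQdef
    have hgQ : g ∈ Q := subset_closure (by simp)
    have hcQ : c ∈ Q := subset_closure (by simp)
    have hQE : Q ≤ E := by
      rw [hQdef, closure_le]
      intro a ha
      rcases ha with h | h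
      · rw [show a = g from h]; exact hg
      · rw [show a = c from h]; exact hcE
    have hQx : ∀ a ∈ Q, x * a * x⁻¹ ∈ Q := by
      have : Q ≤ Q.comap (MulAut.conj x).toMonoidHom := by
        conv_lhs => rw [hQdef]
        rw [closure_le]
        intro a ha
        rcases ha with h | h <;> rw [h]
        · show x * g * x⁻¹ ∈ Q
          rw [hxg]; exact Q.mul_mem (Q.inv_mem hcQ) hgQ
        · show x * c * x⁻¹ ∈ Q
          rw [hxc.eq, mul_inv_cancel_right]; exact hcQ
      exact fun a ha => this ha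
    -- normal form
    set H := zpowers c ⊔ Z with hH
    have hZn : zpowers c ≤ normalizer (Z : Set G) := by rw [normalizer_eq_top]; exact le_top
    have hgH : zpowers g ≤ normalizer (H : Set G) := by
      rw [zpowers_le, mem_normalizer_iff_map_conj_eq]
      refine eq_of_le_of_card_ge ?_ (le_of_eq (card_map_of_injective (MulAut.conj g).injective).symm)
      rw [hH, Subgroup.map_sup, sup_le_iff, MonoidHom.map_zpowers, zpowers_le]
      refine ⟨?_, map_le_iff_le_comap.2 fun z hz => ?_⟩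
      · show g * c * g⁻¹ ∈ zpowers c ⊔ Z
        rw [show g * c * g⁻¹ = w * c by rw [hwdef, commutatorElement_def]; group]
        exact mul_mem (mem_sup_right hwZ) (mem_sup_left (mem_zpowers c))
      · refine mem_sup_right ?_
        show g * z * g⁻¹ ∈ Z
        rw [mem_center_iff.1 hz g, mul_inv_cancel_right]; exact hz
    have hform : ∀ a ∈ Q, ∃ z ∈ Z, ∃ i j : ℕ, a = z * c ^ j * g ^ i := by
      intro a ha
      have : Q ≤ H ⊔ zpowers g := by
        rw [hQdef, closure_le]
        intro a ha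
        rcases ha with h | h
        · rw [show a = g from h]; exact mem_sup_right (mem_zpowers g)
        · rw [show a = c from h]; exact mem_sup_left (mem_sup_left (mem_zpowers c))
      obtain ⟨h, hh, gi, hgi, rfl⟩ := (CfsgLib.Solvable.mem_sup_of_le_normalizer hgH).1 (this ha)
      obtain ⟨z, hz, cj, hcj, rfl⟩ := (CfsgLib.Solvable.mem_sup_of_le_normalizer hZn).1 (show h ∈ Z ⊔ zpowers c by rw [sup_comm]; exact hh)
      obtain ⟨i, rfl⟩ := mem_powers_iff_mem_zpowers.2 hgi
      obtain ⟨j, rfl⟩ := mem_powers_iff_mem_zpowers.2 hcj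
      exact ⟨z, hz, i, j, rfl⟩
    have hdvd : ∀ n : ℕ, ω ^ n = 1 → p ∣ n := fun n h => hord ▸ orderOf_dvd_of_pow_eq_one h
    have hone : ∀ (f : Module.End K W) (t : K), f ≠ 0 → f = t • f → t = 1 := by
      intro f t hf h
      have h2 : (t - 1) • f = 0 := by rw [sub_smul, one_smul, ← h, sub_self]
      exact sub_eq_zero.1 ((smul_eq_zero.1 h2).resolve_right hf)
    have hpairZ : ∀ a ∈ Q, a * g = g * a → a * c = c * a → a ∈ Z := by
      intro a ha h1 h2
      obtain ⟨z, hz, i, j, rfl⟩ := hform a ha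
      have hcz := mem_center_iff.1 hz
      have hgi : g ^ i ∈ Z := by
        have h3 : g ^ i * c = c * g ^ i := by
          refine mul_left_cancel (a := z * c ^ j) ?_
          calc z * c ^ j * (g ^ i * c) = z * c ^ j * g ^ i * c := by group
            _ = c * (z * c ^ j * g ^ i) := h2
            _ = c * z * (c ^ j * g ^ i) := by group
            _ = z * c * (c ^ j * g ^ i) := by rw [hcz c]
            _ = z * c ^ j * (c * g ^ i) := by group
        have h4 := pow_mul_rel hgc i
        rw [← map_pow, ← map_mul, ← map_mul, h3] at h4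
        obtain ⟨t, rfl⟩ := hdvd i (hone _ _ (rep_ne_zero ρ _) h4)
        rw [pow_mul]; exact pow_mem hgp t
      have hcj : c ^ j ∈ Z := by
        have h3 : g * c ^ j = c ^ j * g := by
          refine mul_left_cancel (a := z) (mul_right_cancel (b := g ^ i) ?_)
          calc z * (g * c ^ j) * g ^ i = g * (z * c ^ j * g ^ i) := by rw [← mul_assoc, ← hcz g]; group
            _ = z * c ^ j * g ^ i * g := h1.symm
            _ = z * (c ^ j * g) * g ^ i := by group
        have h4 := mul_pow_rel hgc j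
        rw [← map_pow, ← map_mul, ← map_mul, h3] at h4
        obtain ⟨t, rfl⟩ := hdvd j (hone _ _ (rep_ne_zero ρ _) h4)
        rw [pow_mul]; exact pow_mem hcp t
      exact mul_mem (mul_mem hz hcj) hgi
    have hgz : g ∉ Z := fun h => hw1 (commutatorElement_eq_one_iff_mul_comm.2 (mem_center_iff.1 h c).symm)
    refine two_mul_fixed_lt_twist (q := p) hp5 ρ Q (Q ⊓ Z) x (hEp.to_le hQE) inf_le_left hQx
      (fun a ha => ⟨hQx a ha.1, by rw [mem_center_iff.1 ha.2 x, mul_inv_cancel_right]; exact ha.2⟩) hxp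
      (fun z hz => hscal z hz.2) (fun a ha b hb => ?_) (fun a ha haz => ?_) (Or.inr ⟨rfl, ?_, g, hgQ, ?_⟩)
      ⟨g, hgQ, fun h => hgz h.2⟩
    · refine ⟨?_, hcomE a (hQE ha) b (hQE hb)⟩
      rw [commutatorElement_def]
      exact Q.mul_mem (Q.mul_mem (Q.mul_mem ha hb) (Q.inv_mem ha)) (Q.inv_mem hb)
    · by_contra hno
      push Not at hno
      have key : ∀ h ∈ Q, a * h = h * a := by
        intro h hh
        obtain ⟨t, ht⟩ := hscal _ (hcomE a (hQE ha) h (hQE hh))
        have ht1 : t = 1 := by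
          by_contra ht1
          exact hno h hh t ht1 ht
        rw [ht1, one_smul, ← map_one ρ] at ht
        exact commutatorElement_eq_one_iff_mul_comm.1 (hfaith ht)
      exact haz ⟨ha, hpairZ a ha (key g hgQ) (key c hcQ)⟩
    · -- at most `p²` cosets
      show Nat.card (Q ⧸ (Q ⊓ Z).subgroupOf Q) ≤ p ^ 2
      let F : Fin p × Fin p → Q ⧸ (Q ⊓ Z).subgroupOf Q := fun ij =>
        QuotientGroup.mk ⟨c ^ (ij.1 : ℕ) * g ^ (ij.2 : ℕ), mul_mem (pow_mem hcQ _) (pow_mem hgQ _)⟩
      have hF : Function.Surjective F := by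
        intro v
        obtain ⟨⟨a, ha⟩, rfl⟩ := QuotientGroup.mk_surjective v
        obtain ⟨z, hz, i, j, hij⟩ := hform a ha
        refine ⟨(⟨j % p, Nat.mod_lt _ hp.pos⟩, ⟨i % p, Nat.mod_lt _ hp.pos⟩), QuotientGroup.eq.2 (mem_subgroupOf.2 (mem_inf.2 ⟨?_, ?_⟩))⟩
        · exact mul_mem (inv_mem (mul_mem (pow_mem hcQ _) (pow_mem hgQ _))) ha
        · show (c ^ (j % p) * g ^ (i % p))⁻¹ * a ∈ Z
          rw [← QuotientGroup.eq_one_iff (N := Z), QuotientGroup.mk_mul, hij]
          have e1 : ∀ b : G, b ^ p ∈ Z → ∀ n : ℕ, ((b ^ n : G) : G ⧸ Z) = ((b ^ (n % p) : G) : G ⧸ Z) := by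
            intro b hb n
            conv_lhs => rw [← Nat.mod_add_div n p, pow_add, QuotientGroup.mk_mul, pow_mul,
              (QuotientGroup.eq_one_iff _).2 (pow_mem hb _), mul_one]
          rw [QuotientGroup.mk_mul Z (z * c ^ j), QuotientGroup.mk_mul Z z, (QuotientGroup.eq_one_iff z).2 hz, one_mul,
            e1 c hcp j, e1 g hgp i, ← QuotientGroup.mk_mul, ← QuotientGroup.mk_mul, inv_mul_cancel, QuotientGroup.mk_one]
      have := Nat.card_le_card_of_surjective F hF
      rwa [Nat.card_prod, Nat.card_fin, ← sq] at this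
    · rintro ⟨-, h⟩
      apply hc
      rw [hxg] at h
      have h' : g * (g⁻¹ * (c⁻¹ * g)) * g⁻¹ ∈ Z := Normal.conj_mem inferInstance _ h g
      rw [show g * (g⁻¹ * (c⁻¹ * g)) * g⁻¹ = c⁻¹ by group] at h'
      have h'' : c⁻¹ ∈ Z := h'
      simpa using Z.inv_mem h''
  -- `g` commutes with `c`
  have hgcc : Commute g c := commutatorElement_eq_one_iff_mul_comm.1 hw1
  obtain ⟨h, hh, hhc⟩ : ∃ h ∈ E, ⁅c, h⁆ ≠ 1 := by
    by_contra hno
    push Not at hno
    exact hc (hcentE c hcE fun h hh => (commutatorElement_eq_one_iff_mul_comm.1 (hno h hh)).symm)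
  obtain ⟨η, hη⟩ := hscal _ (hcomE c hcE h hh)
  have hη1 : η ≠ 1 := hne _ hhc η hη
  have hch : ρ c * ρ h = η • (ρ h * ρ c) := map_eq_smul_comm ρ hη
  have hηp : η ^ p = 1 := hroot hch (by
    rw [← map_pow]
    exact (show Commute (c ^ p) h from (mem_center_iff.1 hcp h).symm).map ρ) (by
    rw [← map_pow, ← map_mul]; exact rep_ne_zero ρ _)
  have hpK : (p : K) ≠ 0 := natCast_ne_zero_of_root hp hηp hη1
  set T : Module.End K W := ρ c - 1 with hT
  have hker : p * Module.finrank K ↥(LinearMap.ker T) ≤ Module.finrank K W :=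
    shift_bound hp hηp hη1 hch (apply_inj ρ h)
  set R := LinearMap.range T
  obtain ⟨m, hm⟩ := hEp ⟨c, hcE⟩
  have hcm : c ^ p ^ m = 1 := congrArg Subtype.val hm
  have hdisj : ∀ v ∈ R, ρ c v = v → v = 0 := by
    rintro _ ⟨u, rfl⟩ hv
    have hlin : ∀ n : ℕ, ρ (c ^ n) u = u + (n : K) • T u := by
      intro n
      induction n with
      | zero => simp
      | succ n ih =>
        rw [pow_succ', map_mul, Module.End.mul_apply, ih, map_add, map_smul, hv, Nat.cast_succ, add_smul, one_smul]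
        rw [hT, LinearMap.sub_apply, Module.End.one_apply]
        abel
    have := hlin (p ^ m)
    rw [hcm, map_one, Module.End.one_apply, left_eq_add, smul_eq_zero] at this
    refine this.resolve_left ?_
    rw [Nat.cast_pow]; exact pow_ne_zero _ hpK
  have hcR : ∀ a : G, Commute a c → ∀ v ∈ R, ρ a v ∈ R := by
    rintro a ha _ ⟨u, rfl⟩
    refine ⟨ρ a u, ?_⟩
    rw [hT, LinearMap.sub_apply, LinearMap.sub_apply, map_sub, Module.End.one_apply, Module.End.one_apply,
      ← Module.End.mul_apply, ← map_mul, ← ha.eq, map_mul, Module.End.mul_apply]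
  have hord : ∀ i j : ℕ, i < j → j < p → ∀ v ∈ R, ρ ((c⁻¹) ^ i) v = ρ ((c⁻¹) ^ j) v → v = 0 := by
    intro i j hij hjp v hv heq
    have h1 : ρ (c ^ (j - i)) v = v := by
      have := congrArg (ρ (c ^ j)) heq
      rw [← Module.End.mul_apply, ← Module.End.mul_apply, ← map_mul, ← map_mul, inv_pow, inv_pow,
        mul_inv_cancel, map_one, ← pow_sub c hij.le] at this
      exact this
    refine hdisj v hv ?_
    obtain ⟨t, ht⟩ := exists_pow_eq_self_of_coprime (x := c) (n := j - i) (by
      refine Nat.Coprime.coprime_dvd_right (orderOf_dvd_of_pow_eq_one hcm) (Nat.Coprime.pow_right m ?_)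
      exact (Nat.coprime_comm.1 ((Nat.Prime.coprime_iff_not_dvd hp).2 fun hd => by
        have := Nat.le_of_dvd (by omega) hd; omega)))
    have h2 : ∀ t : ℕ, ρ ((c ^ (j - i)) ^ t) v = v := by
      intro t
      induction t with
      | zero => simp
      | succ t ih => rw [pow_succ, map_mul, Module.End.mul_apply, h1, ih]
    have := h2 t
    rwa [ht] at this
  have hsplit : p * Module.finrank K ↥(C ⊓ R) ≤ Module.finrank K R := by
    refine copies_bound (ρ x) (fun i : Fin p => ρ (g ^ (i : ℕ))) (fun i : Fin p => ρ ((c⁻¹) ^ (i : ℕ))) (C ⊓ R) R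
      (fun i => apply_inj ρ _) (fun i u hu => hcR _ (hgcc.pow_left _) u hu.2) (fun i u hu => ?_)
      (fun i => ((hxc.symm.inv_left).pow_left _).map ρ) (fun i j => ((Commute.refl _).pow_pow _ _).map ρ)
      (fun i v hv => hcR _ (((Commute.refl c).inv_left).pow_left _) v hv) (fun i j hij v hv heq => ?_)
    · have hu' : ρ x u = u := sub_eq_zero.1 (LinearMap.mem_ker.1 hu.1)
      rw [← Module.End.mul_apply, ← map_mul, show x * g ^ (i : ℕ) = (x * g * x⁻¹) ^ (i : ℕ) * x by
        rw [conj_pow]; group, hxg, (hgcc.inv_right.symm).mul_pow, map_mul, map_mul, Module.End.mul_apply,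
        Module.End.mul_apply, hu']
    · rcases lt_or_gt_of_ne (fun h : (i : ℕ) = j => hij (Fin.ext h)) with h | h
      · exact hord i j h j.2 v hv heq
      · exact hord j i h i.2 v hv heq.symm
  have hdim : Module.finrank K C ≤ Module.finrank K ↥(C ⊓ R) + Module.finrank K ↥(LinearMap.ker T) := by
    set f : C →ₗ[K] W := T ∘ₗ C.subtype with hf
    rw [← LinearMap.finrank_range_add_finrank_ker f]
    refine Nat.add_le_add (Submodule.finrank_mono ?_) ?_
    · rintro _ ⟨u, rfl⟩
      refine ⟨LinearMap.mem_ker.2 ?_, ⟨(u : W), rfl⟩⟩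
      have hu' : ρ x (u : W) = u := sub_eq_zero.1 (LinearMap.mem_ker.1 u.2)
      show ρ x (ρ c (u : W) - u) - (ρ c (u : W) - u) = 0
      rw [map_sub, ← Module.End.mul_apply, ← map_mul, hxc.eq, map_mul, Module.End.mul_apply, hu', sub_self]
    · let ι : LinearMap.ker f →ₗ[K] ↥(LinearMap.ker T) :=
        { toFun := fun u => ⟨((u : C) : W), LinearMap.mem_ker.2 (LinearMap.mem_ker.1 u.2)⟩
          map_add' := fun a b => rfl
          map_smul' := fun r a => rfl }
      exact LinearMap.finrank_le_finrank_of_injective (f := ι)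
        fun a b h => Subtype.ext (Subtype.ext (congrArg (fun z : ↥(LinearMap.ker T) => (z : W)) h))
  refine hfinal ?_
  have hR := Submodule.finrank_le R
  calc p * Module.finrank K C ≤ p * (Module.finrank K ↥(C ⊓ R) + Module.finrank K ↥(LinearMap.ker T)) :=
        Nat.mul_le_mul_left _ hdim
    _ ≤ _ := by rw [mul_add]; omega

/-- Faithful irreducible modules over an algebraically closed field. -/
theorem two_mul_fixed_lt_irreducible [Group.IsSolvable G] [Nontrivial W] (ρ : Representation K G W)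
    (hfaith : Function.Injective ρ)
    (hirr : ∀ U : Submodule K W, (∀ g, ∀ u ∈ U, ρ g u ∈ U) → U = ⊥ ∨ U = ⊤)
    {x : G} {p : ℕ} (hp : p.Prime) (hp5 : 5 ≤ p) (hxp : x ^ p = 1) (hx1 : x ≠ 1)
    (hgen : normalClosure ({x} : Set G) = ⊤) :
    2 * Module.finrank K ↥(LinearMap.ker (ρ x - 1)) < Module.finrank K W := by
  classical
  haveI := Fact.mk hp
  set Z := center G with hZ
  have hscal : ∀ z ∈ Z, IsScal (ρ z) := fun z hz => isScal_of_forall_commute ρ hirr _ fun g =>
    ((show Commute g z from mem_center_iff.1 hz g)).map ρ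
  have hscalZ : ∀ a : G, IsScal (ρ a) → a ∈ Z := fun a ha => mem_center_iff.2 fun g =>
    hfaith (by rw [map_mul, map_mul]; exact (ha.commute (ρ g)).eq.symm)
  by_cases habl : ∀ A : Subgroup G, A.Normal → (∀ a ∈ A, ∀ b ∈ A, a * b = b * a) → A ≤ Z
  swap
  · push Not at habl
    obtain ⟨A, hAn, hA, hAZ⟩ := habl
    obtain ⟨a, ha, haZ⟩ := SetLike.not_le_iff_exists.1 hAZ
    exact two_mul_fixed_lt_of_weights ρ hirr hp hp5 hxp hgen A hA ⟨a, ha, fun h => haZ (hscalZ a h)⟩
  by_cases hZt : Z = ⊤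
  · obtain ⟨σ, hσ⟩ := hscal x (hZt ▸ mem_top x)
    have hσ1 : σ ≠ 1 := fun h => hx1 (hfaith (by rw [hσ, h, one_smul, map_one]))
    have : LinearMap.ker (ρ x - 1) = ⊥ := by
      rw [Submodule.eq_bot_iff]
      intro u hu
      have hu' : σ • u - u = 0 := by
        have := LinearMap.mem_ker.1 hu
        rwa [hσ] at this
      rw [← one_smul K u, smul_smul, mul_one, ← sub_smul, smul_eq_zero] at hu'
      exact hu'.resolve_left (sub_ne_zero.2 hσ1)
    rw [this, finrank_bot, mul_zero]
    exact Module.finrank_pos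
  -- a minimal non-central normal subgroup
  obtain ⟨E, ⟨hEn, hEZ⟩, hEmin⟩ := (Set.toFinite {N : Subgroup G | N.Normal ∧ ¬ N ≤ Z}).exists_minimal
    ⟨⊤, inferInstance, fun h => hZt (top_le_iff.1 h)⟩
  haveI := hEn
  have hmin : ∀ N : Subgroup G, N.Normal → N ≤ E → N ≠ E → N ≤ Z := fun N hn hle hne => by
    by_contra h
    exact hne (le_antisymm hle (hEmin ⟨hn, h⟩ hle))
  haveI : Nontrivial E := (nontrivial_iff_ne_bot E).2 fun h => hEZ (h ▸ bot_le)
  have hEE : ⁅E, E⁆ ≤ Z := by
    refine hmin _ (commutator_normal E E) (commutator_le_self E) fun h1 => ?_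
    apply (Group.IsSolvable.commutator_lt_top_of_nontrivial E).ne
    refine map_injective E.subtype_injective ?_
    rw [map_subtype_commutator, h1, ← MonoidHom.range_eq_map, range_subtype]
  have hcomE : ∀ a ∈ E, ∀ b ∈ E, ⁅a, b⁆ ∈ Z := fun a ha b hb => hEE (commutator_mem_commutator ha hb)
  have hcentE : ∀ e ∈ E, (∀ h ∈ E, h * e = e * h) → e ∈ Z := fun e he h =>
    habl (E ⊓ centralizer (E : Set G)) inferInstance
      (fun a ha b hb => (mem_centralizer_iff.1 hb.2 a ha.1)) ⟨he, mem_centralizer_iff.2 h⟩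
  -- `E` is a `q`-group
  haveI : Group.IsNilpotent E := by
    letI : CommGroup (E ⧸ center E) :=
      { (inferInstance : Group (E ⧸ center E)) with
        mul_comm := fun a b => by
          obtain ⟨a, rfl⟩ := QuotientGroup.mk_surjective a
          obtain ⟨b, rfl⟩ := QuotientGroup.mk_surjective b
          rw [← commutatorElement_eq_one_iff_mul_comm]
          refine (QuotientGroup.eq_one_iff ⁅a, b⁆).2 (mem_center_iff.2 fun t => Subtype.ext ?_)
          exact mem_center_iff.1 (hcomE a a.2 b b.2) t }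
    exact Subgroup.isNilpotent_of_ker_le_center (QuotientGroup.mk' (center E)) (by rw [QuotientGroup.ker_mk'])
  obtain ⟨q, hq, S, hSne⟩ : ∃ q : ℕ, q.Prime ∧ ∃ S : Sylow q E, ¬ (S : Subgroup E).map E.subtype ≤ Z := by
    by_contra hno
    push Not at hno
    apply hEZ
    have htop : Z.subgroupOf E = ⊤ := by
      refine Subgroup.eq_top_of_card_eq _ (Nat.dvd_antisymm (card_subgroup_dvd_card _) ?_)
      refine (Nat.dvd_iff_prime_pow_dvd_dvd _ _).2 fun r k hr hk => ?_
      haveI := Fact.mk hr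
      obtain ⟨S, -⟩ := (IsPGroup.of_bot (p := r) (G := E)).exists_le_sylow
      refine dvd_trans ?_ (card_dvd_of_le (map_le_iff_le_comap.1 (hno r hr S)))
      rw [S.card_eq_multiplicity]
      exact pow_dvd_pow _ ((hr.pow_dvd_iff_le_factorization Nat.card_pos.ne').1 hk)
    rw [subgroupOf_eq_top] at htop
    exact htop
  haveI := Fact.mk hq
  have hSE : (S : Subgroup E).map E.subtype = E := by
    haveI : (S : Subgroup E).Normal := inferInstance
    haveI := S.characteristic_of_normal inferInstance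
    by_contra hne
    exact hSne (hmin _ inferInstance (map_subtype_le _) hne)
  have hEq : IsPGroup q E := hSE ▸ S.2.map _
  -- powers
  have hpowE : ∀ e ∈ E, e ^ q ∈ Z := by
    set π := QuotientGroup.mk' Z
    have hab : ∀ a ∈ E, ∀ b ∈ E, Commute (π a) (π b) := fun a ha b hb => by
      show _ = _
      rw [← commutatorElement_eq_one_iff_mul_comm, ← map_commutatorElement]
      exact (QuotientGroup.eq_one_iff _).2 (hcomE a ha b hb)
    let f : E →* G ⧸ Z :=
      { toFun := fun e => π (e : G) ^ q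
        map_one' := by simp
        map_mul' := fun a b => by rw [Subgroup.coe_mul, map_mul, (hab a a.2 b b.2).mul_pow] }
    set N := E ⊓ f.range.comap π with hN
    have hNn : N.Normal := by
      refine ⟨fun n hn g => ⟨hEn.conj_mem n hn.1 g, ?_⟩⟩
      obtain ⟨e, he⟩ := hn.2
      refine ⟨⟨g * (e : G) * g⁻¹, hEn.conj_mem _ e.2 g⟩, ?_⟩
      show π (g * (e : G) * g⁻¹) ^ q = π (g * n * g⁻¹)
      have he' : π (e : G) ^ q = π n := he
      simp only [map_mul, map_inv, conj_pow, he']
    have hne : N ≠ E := by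
      intro h
      have hsur : ∀ k : ℕ, ∀ e ∈ E, ∃ e' ∈ E, π e = π e' ^ q ^ k := by
        intro k
        induction k with
        | zero => exact fun e he => ⟨e, he, by rw [pow_zero, pow_one]⟩
        | succ k ih =>
          intro e he
          obtain ⟨e', he', h1⟩ := ih e he
          have h3 : e' ∈ N := h.symm ▸ he'
          obtain ⟨e'', h2⟩ := h3.2
          refine ⟨e'', e''.2, ?_⟩
          rw [h1, show π e' = π (e'' : G) ^ q from h2.symm, ← pow_mul, ← pow_succ']
      obtain ⟨k, hk⟩ := IsPGroup.iff_card.1 hEq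
      obtain ⟨e, he, heZ⟩ := SetLike.not_le_iff_exists.1 hEZ
      obtain ⟨e', he', h1⟩ := hsur k e he
      apply heZ
      rw [← QuotientGroup.eq_one_iff (N := Z)]
      show π e = 1
      rw [h1, ← hk, ← map_pow, show e' ^ Nat.card E = 1 from congrArg Subtype.val (pow_card_eq_one' (x := (⟨e', he'⟩ : E))),
        map_one]
    intro e he
    exact hmin N hNn inf_le_left hne ⟨pow_mem he q, ⟨⟨e, he⟩, (map_pow π e q).symm⟩⟩
  -- `x` moves `E` modulo the centre
  have hmove : ∃ e ∈ E, ⁅e, x⁆ ∉ Z := by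
    by_contra hno
    push Not at hno
    set π := QuotientGroup.mk' Z
    haveI : (E.map π).Normal := hEn.map π (QuotientGroup.mk'_surjective Z)
    set C := (centralizer ((E.map π : Subgroup (G ⧸ Z)) : Set (G ⧸ Z))).comap π
    have hxC : x ∈ C := by
      rw [mem_comap, mem_centralizer_iff]
      rintro _ ⟨e, he, rfl⟩
      rw [← commutatorElement_eq_one_iff_mul_comm, ← map_commutatorElement]
      exact (QuotientGroup.eq_one_iff _).2 (hno e he)
    have hCtop : C = ⊤ := top_le_iff.1 (hgen ▸ normalClosure_le_normal (Set.singleton_subset_iff.2 hxC))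
    obtain ⟨e, he, heZ⟩ := SetLike.not_le_iff_exists.1 hEZ
    set N := zpowers e ⊔ (E ⊓ Z) with hN
    have hNn : N.Normal := by
      refine ⟨fun n hn g => ?_⟩
      suffices N ≤ N.comap (MulAut.conj g).toMonoidHom from this hn
      rw [hN, sup_le_iff, zpowers_le]
      refine ⟨?_, fun z hz => mem_sup_right ?_⟩
      · show g * e * g⁻¹ ∈ zpowers e ⊔ (E ⊓ Z)
        rw [show g * e * g⁻¹ = e * (e⁻¹ * (g * e * g⁻¹)) by group]
        refine mul_mem (mem_sup_left (mem_zpowers e)) (mem_sup_right (mem_inf.2 ⟨mul_mem (inv_mem he) (hEn.conj_mem e he g), ?_⟩))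
        rw [← QuotientGroup.eq_one_iff (N := Z)]
        show π (e⁻¹ * (g * e * g⁻¹)) = 1
        have hg : π e * π g = π g * π e :=
          mem_centralizer_iff.1 (mem_comap.1 (hCtop ▸ mem_top g : g ∈ C)) _ ⟨e, he, rfl⟩
        rw [map_mul, map_mul, map_mul, map_inv, map_inv, ← hg]
        group
      · show g * z * g⁻¹ ∈ E ⊓ Z
        rw [mem_center_iff.1 hz.2 g, mul_inv_cancel_right]; exact hz
    have hNE : N = E := by
      by_contra h
      exact heZ (hmin N hNn (sup_le (zpowers_le.2 he) inf_le_left) h (mem_sup_left (mem_zpowers e)))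
    refine heZ (hcentE e he fun h hh => ?_)
    have hc : N ≤ centralizer ({e} : Set G) := sup_le (zpowers_le.2 (mem_centralizer_singleton_iff.2 rfl))
      fun z hz => mem_centralizer_singleton_iff.2 (mem_center_iff.1 hz.2 e).symm
    exact mem_centralizer_singleton_iff.1 (hc (hNE.symm ▸ hh))
  by_cases hqp : q = p
  · subst hqp
    exact two_mul_fixed_lt_modular ρ hfaith hp5 x hxp E hEq hscal hcomE hpowE hcentE hmove
  · exact two_mul_fixed_lt_coprime ρ hfaith hp5 hqp x hxp E hEq hscal hcomE hpowE hcentE hmove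

end CfsgLib.Solvable.FixedSpace
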