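import Mathlib
import Cfsg.Agent.Lib.Solvable.FixedSpaceHalf

/-!
Flavell's bound for the fixed space of an element of prime order `p ≥ 5` whose conjugates generate a
solvable group, over an arbitrary field of positive characteristic.
-/

set_option autoImplicit false
set_option linter.style.haveILetI false

namespace CfsgLib.Solvable.FixedSpace

open CfsgLib.HallHigman
open Subgroup

universe u v w

/-- Over an algebraically closed field, a normal subgroup of coprime order without fixed vectors suffices. -/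
theorem two_mul_fixed_lt_of_sum_eq_zero {K : Type w} [Field K] [IsAlgClosed K] {p : ℕ} (hp : p.Prime)
    (hp5 : 5 ≤ p) :
    ∀ (d : ℕ) (G : Type u) [Group G] [Finite G] [Group.IsSolvable G] (W : Type v) [AddCommGroup W] [Module K W]
      [FiniteDimensional K W] [Nontrivial W] (ρ : Representation K G W) (x : G) (A : Subgroup G) [Fintype A],
      Module.finrank K W = d → x ^ p = 1 → normalClosure ({x} : Set G) = ⊤ → (Fintype.card A : K) ≠ 0 →
      (∑ a : A, ρ (a : G)) = 0 →
      2 * Module.finrank K ↥(LinearMap.ker (ρ x - 1)) < d := by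
  classical
  intro d
  induction d using Nat.strong_induction_on with
  | _ d ih =>
  intro G _ _ _ W _ _ _ _ ρ x A _ hd hxp hgen hAK hsum
  by_cases hredu : ∃ U : Submodule K W, (∀ g, ∀ u ∈ U, ρ g u ∈ U) ∧ U ≠ ⊥ ∧ U ≠ ⊤
  · obtain ⟨U, hU, hU0, hUt⟩ := hredu
    let ι : G →* stab ρ U :=
      { toFun := fun g => ⟨g, hU g⟩
        map_one' := rfl
        map_mul' := fun _ _ => rfl }
    haveI : Nontrivial U := Submodule.nontrivial_iff_ne_bot.2 hU0
    haveI : Nontrivial (W ⧸ U) := Submodule.Quotient.nontrivial_iff.2 hUt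
    have hlt : Module.finrank K U < d := hd ▸ Submodule.finrank_lt hUt
    have hsum' := Submodule.finrank_quotient_add_finrank U
    have hUpos : 0 < Module.finrank K U := Module.finrank_pos
    have hs := ih _ hlt G U ((subRep ρ U).comp ι) x A rfl hxp hgen hAK (LinearMap.ext fun u => Subtype.ext (by
      have := LinearMap.congr_fun hsum (u : W)
      rw [LinearMap.sum_apply, LinearMap.zero_apply] at this ⊢
      rw [Submodule.coe_sum]
      exact this))
    have hq := ih _ (by omega : Module.finrank K (W ⧸ U) < d) G (W ⧸ U) ((quotRep ρ U).comp ι) x A rfl hxp hgen hAK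
      (LinearMap.ext fun u => by
        obtain ⟨w, rfl⟩ := Submodule.Quotient.mk_surjective U u
        have := congrArg U.mkQ (LinearMap.congr_fun hsum w)
        rw [LinearMap.sum_apply, LinearMap.zero_apply, map_sum, map_zero] at this
        rw [LinearMap.sum_apply, LinearMap.zero_apply]
        exact this)
    have hk := finrank_ker_le_sub_add_quot ρ U (ι x)
    change Module.finrank K ↥(LinearMap.ker (ρ x - 1)) ≤
      Module.finrank K ↥(LinearMap.ker ((subRep ρ U).comp ι x - 1)) +
        Module.finrank K ↥(LinearMap.ker ((quotRep ρ U).comp ι x - 1)) at hk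
    omega
  push Not at hredu
  have hirr : ∀ U : Submodule K W, (∀ g, ∀ u ∈ U, ρ g u ∈ U) → U = ⊥ ∨ U = ⊤ := fun U h => by
    by_cases h0 : U = ⊥
    · exact Or.inl h0
    · exact Or.inr (hredu U h h0)
  set N := MonoidHom.ker ρ with hN
  let ρ' : Representation K (G ⧸ N) W := QuotientGroup.lift N ρ (le_refl _)
  have hfaith : Function.Injective ρ' := by
    intro a b h
    obtain ⟨a, rfl⟩ := QuotientGroup.mk_surjective a
    obtain ⟨b, rfl⟩ := QuotientGroup.mk_surjective b
    have h' : ρ a = ρ b := h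
    refine QuotientGroup.eq.2 (MonoidHom.mem_ker.2 ?_)
    rw [map_mul, ← h', ← map_mul, inv_mul_cancel, map_one]
  haveI : Group.IsSolvable (G ⧸ N) := Group.isSolvable_of_surjective (QuotientGroup.mk'_surjective N)
  have hgen' : normalClosure ({QuotientGroup.mk' N x} : Set (G ⧸ N)) = ⊤ := by
    have := map_normalClosure ({x} : Set G) (QuotientGroup.mk' N) (QuotientGroup.mk'_surjective N)
    rw [Set.image_singleton, hgen, map_top_of_surjective _ (QuotientGroup.mk'_surjective N)] at this
    exact this.symm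
  have hx1 : QuotientGroup.mk' N x ≠ 1 := by
    intro h
    have hxN : x ∈ N := (QuotientGroup.eq_one_iff x).1 h
    have hNtop : N = ⊤ := top_le_iff.1 (hgen ▸ normalClosure_le_normal (Set.singleton_subset_iff.2 hxN))
    have h1 : ∀ g : G, ρ g = 1 := fun g => MonoidHom.mem_ker.1 (hNtop ▸ mem_top g : g ∈ N)
    apply hAK
    have := hsum
    simp only [h1, Finset.sum_const, Finset.card_univ, ← Nat.cast_smul_eq_nsmul K] at this
    exact (smul_eq_zero.1 this).resolve_right one_ne_zero
  have he : ∀ g : G, ρ' (QuotientGroup.mk' N g) = ρ g := fun g => QuotientGroup.lift_mk' N _ g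
  have h := two_mul_fixed_lt_irreducible (x := QuotientGroup.mk' N x) ρ' hfaith
    (fun U hU => hirr U fun g u hu => he g ▸ hU _ u hu) hp hp5
    (by rw [← map_pow, hxp, map_one]) hx1 hgen'
  rw [he] at h
  rw [← hd]
  exact h

/-- An abelian `ℓ`-group acting in characteristic `ℓ` fixes a non-zero vector. -/
theorem exists_fixed_of_char {k : Type w} [Field k] {G : Type u} [Group G] [Finite G] {V : Type v}
    [AddCommGroup V] [Module k V] [FiniteDimensional k V] [Nontrivial V] (ρ : Representation k G V) (ℓ : ℕ)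
    [Fact ℓ.Prime] [CharP k ℓ] (A : Subgroup G) (hA : ∀ a ∈ A, ∀ b ∈ A, a * b = b * a) (hAℓ : IsPGroup ℓ A) :
    ∃ v : V, v ≠ 0 ∧ ∀ a ∈ A, ρ a v = v := by
  obtain ⟨U, hU0, hUinv, hUmin⟩ := exists_min_invariant ρ A
  obtain ⟨u₀, hu₀, hu₀'⟩ := (Submodule.ne_bot_iff U).1 hU0
  refine ⟨u₀, hu₀', fun a ha => ?_⟩
  set T : Module.End k V := ρ a - 1 with hT
  obtain ⟨m, hm⟩ := hAℓ ⟨a, ha⟩
  have hTU : ∀ u ∈ U, T u ∈ U := fun u hu => U.sub_mem (hUinv a ha u hu) hu
  have hker : U ⊓ LinearMap.ker T = U := by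
    refine hUmin _ inf_le_left ?_ fun b hb u hu => ⟨hUinv b hb u hu.1, LinearMap.mem_ker.2 ?_⟩
    · have hnil : ∀ n : ℕ, ∀ u ∈ U, u ≠ 0 → (T ^ n) u = 0 → ∃ v ∈ U, v ≠ 0 ∧ T v = 0 := by
        intro n
        induction n with
        | zero => intro u _ h0 h; exact absurd (by simpa using h) h0
        | succ n ih =>
          intro u hu h0 h
          by_cases hTu : T u = 0
          · exact ⟨u, hu, h0, hTu⟩
          · refine ih _ (hTU u hu) hTu ?_
            rwa [pow_succ] at h
      obtain ⟨v, hv, hv0, hTv⟩ := hnil (ℓ ^ m) u₀ hu₀ hu₀' (by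
        rw [hT, sub_one_pow_char (K := k) ℓ m, ← map_pow, show a ^ ℓ ^ m = 1 from congrArg Subtype.val hm, map_one,
          sub_self, LinearMap.zero_apply])
      intro h
      have : v ∈ U ⊓ LinearMap.ker T := ⟨hv, LinearMap.mem_ker.2 hTv⟩
      rw [h, Submodule.mem_bot] at this
      exact hv0 this
    · have h1 : ρ a u = u := sub_eq_zero.1 (LinearMap.mem_ker.1 hu.2)
      show ρ a (ρ b u) - ρ b u = 0
      rw [← Module.End.mul_apply, ← map_mul, hA a ha b hb, map_mul, Module.End.mul_apply, h1, sub_self]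
  have : u₀ ∈ U ⊓ LinearMap.ker T := hker.symm ▸ hu₀
  exact sub_eq_zero.1 (LinearMap.mem_ker.1 this.2)

set_option maxHeartbeats 1600000 in
/-- Flavell's theorem. -/
theorem two_mul_fixed_lt {k : Type w} [Field k] (ℓ : ℕ) [Fact ℓ.Prime] [CharP k ℓ]
    {G : Type u} [Group G] [Finite G] [Group.IsSolvable G] {V : Type v} [AddCommGroup V] [Module k V]
    [FiniteDimensional k V] [Nontrivial V] (ρ : Representation k G V) (hfaith : Function.Injective ρ)
    (hirr : ∀ U : Submodule k V, (∀ g, ∀ u ∈ U, ρ g u ∈ U) → U = ⊥ ∨ U = ⊤)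
    {x : G} {p : ℕ} (hp : p.Prime) (hp5 : 5 ≤ p) (hxp : x ^ p = 1) (hx1 : x ≠ 1)
    (hgen : normalClosure ({x} : Set G) = ⊤) :
    2 * Module.finrank k ↥(LinearMap.ker (ρ x - 1)) < Module.finrank k V := by
  classical
  haveI : Nontrivial G := ⟨⟨x, 1, hx1⟩⟩
  obtain ⟨A, ⟨hAn, hA1⟩, hAmin⟩ := (Set.toFinite {N : Subgroup G | N.Normal ∧ N ≠ ⊥}).exists_minimal
    ⟨⊤, inferInstance, top_ne_bot⟩
  haveI := hAn
  haveI : Nontrivial A := (nontrivial_iff_ne_bot A).2 hA1
  have hAA : ⁅A, A⁆ = ⊥ := by
    by_contra h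
    have h1 := le_antisymm (commutator_le_self A) (hAmin ⟨commutator_normal A A, h⟩ (commutator_le_self A))
    apply (Group.IsSolvable.commutator_lt_top_of_nontrivial A).ne
    refine map_injective A.subtype_injective ?_
    rw [map_subtype_commutator, h1, ← MonoidHom.range_eq_map, range_subtype]
  have hAc : ∀ a ∈ A, ∀ b ∈ A, a * b = b * a := fun a ha b hb =>
    commutatorElement_eq_one_iff_mul_comm.1 (mem_bot.1 (hAA ▸ commutator_mem_commutator ha hb))
  haveI : Fintype A := Fintype.ofFinite A
  -- the fixed space of `A` is trivial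
  let F : Submodule k V :=
    { carrier := {v | ∀ a ∈ A, ρ a v = v}
      zero_mem' := fun a _ => map_zero _
      add_mem' := fun {u v} hu hv a ha => by rw [map_add, hu a ha, hv a ha]
      smul_mem' := fun c u hu a ha => by rw [map_smul, hu a ha] }
  have hF : F = ⊥ := by
    refine (hirr F fun g u hu a ha => ?_).resolve_right fun htop => hA1 ?_
    · rw [← Module.End.mul_apply, ← map_mul, show a * g = g * (g⁻¹ * a * g) by group, map_mul,
        Module.End.mul_apply, hu _ (by simpa using hAn.conj_mem a ha g⁻¹)]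
    · rw [eq_bot_iff]
      intro a ha
      refine mem_bot.2 (hfaith ?_)
      rw [map_one]
      exact LinearMap.ext fun v => (htop ▸ Submodule.mem_top : v ∈ F) a ha
  have hAk : (Fintype.card A : k) ≠ 0 := by
    intro h0
    have hdvd : ℓ ∣ Nat.card A := by
      rw [Nat.card_eq_fintype_card]; exact (CharP.cast_eq_zero_iff k ℓ _).1 h0
    obtain ⟨z, hz⟩ := exists_prime_orderOf_dvd_card' ℓ hdvd
    let T : Subgroup G :=
      { carrier := {a | a ∈ A ∧ a ^ ℓ = 1}
        one_mem' := ⟨one_mem A, one_pow ℓ⟩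
        mul_mem' := fun {a b} ha hb => ⟨mul_mem ha.1 hb.1, by
          rw [(show Commute a b from hAc a ha.1 b hb.1).mul_pow, ha.2, hb.2, one_mul]⟩
        inv_mem' := fun {a} ha => ⟨inv_mem ha.1, by rw [inv_pow, ha.2, inv_one]⟩ }
    have hTn : T.Normal := ⟨fun a ha g => ⟨hAn.conj_mem a ha.1 g, by rw [conj_pow, ha.2]; group⟩⟩
    have hT1 : T ≠ ⊥ := by
      intro h
      have hzT : (z : G) ∈ T := ⟨z.2, by rw [← hz, ← Subgroup.coe_pow, pow_orderOf_eq_one, OneMemClass.coe_one]⟩
      rw [h, mem_bot] at hzT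
      rw [show z = 1 from Subtype.ext hzT, orderOf_one] at hz
      exact (Fact.out : ℓ.Prime).one_lt.ne hz
    have hAT : A ≤ T := hAmin ⟨hTn, hT1⟩ fun a ha => ha.1
    have hAℓ : IsPGroup ℓ A := fun a => ⟨1, Subtype.ext (by
      rw [pow_one, Subgroup.coe_pow, OneMemClass.coe_one]; exact (hAT a.2).2)⟩
    obtain ⟨v, hv, hfix⟩ := exists_fixed_of_char ρ ℓ A hAc hAℓ
    have : v ∈ F := hfix
    rw [hF, Submodule.mem_bot] at this
    exact hv this
  have hsum : (∑ a : A, ρ (a : G)) = 0 := by
    refine LinearMap.ext fun v => ?_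
    have : (∑ a : A, ρ (a : G)) v ∈ F := by
      intro b hb
      rw [LinearMap.sum_apply, map_sum]
      refine Fintype.sum_equiv (Equiv.mulLeft (⟨b, hb⟩ : A)) _ _ fun a => ?_
      rw [← Module.End.mul_apply, ← map_mul]
      rfl
    rw [hF, Submodule.mem_bot] at this
    exact this
  -- extend the field
  let L := AlgebraicClosure k
  set n := Module.finrank k V
  let b := Module.finBasis k V
  let φ : Module.End k V →+* Module.End L (Fin n → L) :=
    (Matrix.toLinAlgEquiv' (R := L)).toRingEquiv.toRingHom.comp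
      ((algebraMap k L).mapMatrix.comp (LinearMap.toMatrixAlgEquiv b).toRingEquiv.toRingHom)
  let ρ' : Representation L G (Fin n → L) := φ.toMonoidHom.comp ρ
  haveI : Nonempty (Fin n) := ⟨⟨0, Module.finrank_pos⟩⟩
  have hmain := two_mul_fixed_lt_of_sum_eq_zero (K := L) hp hp5 n G (Fin n → L) ρ' x A
    (Module.finrank_fin_fun L) hxp hgen (fun h => hAk ((algebraMap k L).injective (by rw [map_natCast, map_zero, h])))
    (by
      show ∑ a : A, φ (ρ (a : G)) = 0
      rw [← map_sum, hsum, map_zero])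
  refine lt_of_le_of_lt (Nat.mul_le_mul_left 2 ?_) hmain
  -- the kernel does not shrink
  set C := LinearMap.ker (ρ x - 1)
  set m := Module.finrank k C
  let j : (Fin m → k) →ₗ[k] (Fin n → k) :=
    b.equivFun.toLinearMap ∘ₗ C.subtype ∘ₗ (Module.finBasis k C).equivFun.symm.toLinearMap
  have hj : Function.Injective j :=
    b.equivFun.injective.comp (C.injective_subtype.comp (Module.finBasis k C).equivFun.symm.injective)
  obtain ⟨r, hr⟩ := j.exists_leftInverse_of_injective (LinearMap.ker_eq_bot.2 hj)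
  set M := LinearMap.toMatrixAlgEquiv b (ρ x - 1)
  have hM : M * LinearMap.toMatrix' j = 0 := by
    have hzero : Matrix.toLin' M ∘ₗ j = 0 := by
      refine LinearMap.ext fun t => ?_
      set c : C := (Module.finBasis k C).equivFun.symm t
      show M.mulVec (b.equivFun (c : V)) = 0
      have h := LinearMap.toMatrix_mulVec_repr b b (ρ x - 1) (c : V)
      refine h.trans ?_
      rw [LinearMap.mem_ker.1 c.2, map_zero]
      rfl
    have := congrArg LinearMap.toMatrix' hzero
    rwa [LinearMap.toMatrix'_comp, LinearMap.toMatrix'_toLin', map_zero] at this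
  let J : (Fin m → L) →ₗ[L] (Fin n → L) := Matrix.toLin' ((LinearMap.toMatrix' j).map (algebraMap k L))
  have hJ : Function.Injective J := by
    let R : (Fin n → L) →ₗ[L] (Fin m → L) := Matrix.toLin' ((LinearMap.toMatrix' r).map (algebraMap k L))
    refine Function.LeftInverse.injective (g := R) fun t => ?_
    show (R ∘ₗ J) t = t
    rw [show R ∘ₗ J = LinearMap.id by
      rw [← Matrix.toLin'_mul, ← Matrix.map_mul, ← LinearMap.toMatrix'_comp, hr, LinearMap.toMatrix'_id,
        Matrix.map_one _ (map_zero _) (map_one _), Matrix.toLin'_one]]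
    rfl
  have hrange : LinearMap.range J ≤ LinearMap.ker (ρ' x - 1) := by
    rintro _ ⟨t, rfl⟩
    refine LinearMap.mem_ker.2 ?_
    have he : (ρ' x - 1 : Module.End L (Fin n → L)) = Matrix.toLin' (M.map (algebraMap k L)) := by
      show φ (ρ x) - 1 = _
      rw [← map_one φ, ← map_sub]
      rfl
    rw [he]
    show (Matrix.toLin' (M.map (algebraMap k L)) ∘ₗ J) t = 0
    rw [← Matrix.toLin'_mul, ← Matrix.map_mul, hM, Matrix.map_zero _ (map_zero _), map_zero]
    rfl
  calc m = Module.finrank L (Fin m → L) := (Module.finrank_fin_fun L).symm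
    _ = Module.finrank L (LinearMap.range J) := (LinearMap.finrank_range_of_inj hJ).symm
    _ ≤ _ := Submodule.finrank_mono hrange

end CfsgLib.Solvable.FixedSpace
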