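import Mathlib
import Cfsg.Agent.Lib.Solvable.CoprimeAction
import Cfsg.Agent.Lib.Solvable.CoprimeAbelian
import Cfsg.Agent.Lib.OddOrder.OmegaFix
import Cfsg.Agent.Lib.Frobenius.FixedDim

/-!
Fixed points of a coprime automorphism of odd prime order in `[H, P]` are generated by those in
the `[h, P]` (Flavell). Tools and the case of a prime power order.
-/

set_option autoImplicit false
set_option linter.style.haveILetI false
set_option linter.unusedSectionVars false

namespace CfsgLib.Solvable.Flavell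

open Subgroup
open scoped commutatorElement

universe u

variable {G : Type u} [Group G] [Finite G]

/-- `[h, ⟨x⟩]`. -/
def brk (x h : G) : Subgroup G := closure (Set.range fun i : ℕ => h⁻¹ * (x ^ i * h * (x ^ i)⁻¹))

/-- The subgroup generated by the fixed points in the `[h, ⟨x⟩]`. -/
def fixGen (x : G) (H : Subgroup G) : Subgroup G := ⨆ h : H, brk x (h : G) ⊓ centralizer ({x} : Set G)

theorem mem_centralizer_zpowers {x c : G} :
    c ∈ centralizer ((zpowers x : Subgroup G) : Set G) ↔ c ∈ centralizer ({x} : Set G) := by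
  refine ⟨fun h => mem_centralizer_singleton_iff.2 (h x (mem_zpowers x)).symm, fun h a ha => ?_⟩
  obtain ⟨k, rfl⟩ := mem_zpowers_iff.1 ha
  exact ((show Commute c x from mem_centralizer_singleton_iff.1 h).symm.zpow_left k).eq

theorem centralizer_zpowers_eq (x : G) :
    centralizer ((zpowers x : Subgroup G) : Set G) = centralizer ({x} : Set G) :=
  Subgroup.ext fun _ => mem_centralizer_zpowers

theorem zpowers_le_normalizer {x : G} {K : Subgroup G} (h : ∀ k ∈ K, x * k * x⁻¹ ∈ K) :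
    zpowers x ≤ normalizer (K : Set G) := by
  have hle : K.map (MulAut.conj x).toMonoidHom ≤ K := by
    rintro _ ⟨k, hk, rfl⟩
    exact h k hk
  have he : K.map (MulAut.conj x).toMonoidHom = K :=
    eq_of_le_of_card_ge hle (card_map_of_injective (f := (MulAut.conj x).toMonoidHom) (MulAut.conj x).injective).ge
  refine zpowers_le.2 (mem_normalizer_iff.2 fun k => ⟨h k, fun hk => ?_⟩)
  rw [← he] at hk
  obtain ⟨k', hk', e⟩ := hk
  rwa [← (MulAut.conj x).injective e]

theorem brk_le {x h : G} {K : Subgroup G} (hx : x ∈ normalizer (K : Set G)) (hh : h ∈ K) :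
    brk x h ≤ K := by
  rw [brk, closure_le]
  rintro _ ⟨i, rfl⟩
  exact mul_mem (inv_mem hh) ((mem_normalizer_iff.1 (pow_mem hx i) h).1 hh)

theorem gen_mem_brk (x h : G) (i : ℕ) : h⁻¹ * (x ^ i * h * (x ^ i)⁻¹) ∈ brk x h :=
  subset_closure ⟨i, rfl⟩

theorem zpowers_le_normalizer_brk (x h : G) : zpowers x ≤ normalizer (brk x h : Set G) := by
  refine zpowers_le_normalizer fun k hk => ?_
  have hle : (brk x h).map (MulAut.conj x).toMonoidHom ≤ brk x h := by
    rw [brk, MonoidHom.map_closure, closure_le]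
    rintro _ ⟨_, ⟨i, rfl⟩, rfl⟩
    show x * (h⁻¹ * (x ^ i * h * (x ^ i)⁻¹)) * x⁻¹ ∈ brk x h
    have := mul_mem (inv_mem (gen_mem_brk x h 1)) (gen_mem_brk x h (i + 1))
    convert this using 1
    rw [pow_one, pow_succ']; group
  exact hle (mem_map_of_mem (MulAut.conj x).toMonoidHom hk)

theorem map_brk {G' : Type*} [Group G'] (f : G →* G') (x h : G) :
    (brk x h).map f = closure (Set.range fun i : ℕ => (f h)⁻¹ * (f x ^ i * f h * (f x ^ i)⁻¹)) := by
  rw [brk, MonoidHom.map_closure, ← Set.range_comp]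
  congr 2
  funext i
  simp

theorem fixGen_le {x : G} {K : Subgroup G} (hx : x ∈ normalizer (K : Set G)) :
    fixGen x K ≤ K ⊓ centralizer ({x} : Set G) :=
  iSup_le fun h => inf_le_inf_right _ (brk_le hx h.2)

theorem mem_fixGen {x h c : G} {K : Subgroup G} (hh : h ∈ K) (hc : c ∈ brk x h)
    (hx : c ∈ centralizer ({x} : Set G)) : c ∈ fixGen x K :=
  le_iSup (fun h : K => brk x (h : G) ⊓ centralizer ({x} : Set G)) ⟨h, hh⟩ ⟨hc, hx⟩

theorem fixGen_mono {x : G} {K H : Subgroup G} (h : K ≤ H) : fixGen x K ≤ fixGen x H :=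
  iSup_le fun k => fun _ hc => mem_fixGen (h k.2) hc.1 hc.2

/-- `fixGen` is invariant under the fixed points. -/
theorem conj_mem_fixGen {x c l : G} {H : Subgroup G} (hc : c ∈ H) (hcx : c ∈ centralizer ({x} : Set G))
    (hl : l ∈ fixGen x H) : c * l * c⁻¹ ∈ fixGen x H := by
  have hle : (fixGen x H).map (MulAut.conj c).toMonoidHom ≤ fixGen x H := by
    rw [fixGen, Subgroup.map_iSup, iSup_le_iff]
    rintro h _ ⟨y, hy, rfl⟩
    have hc' : Commute c x := mem_centralizer_singleton_iff.1 hcx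
    refine mem_fixGen (h := c * (h : G) * c⁻¹) (mul_mem (mul_mem hc h.2) (inv_mem hc)) ?_ ?_
    · have hm := mem_map_of_mem (MulAut.conj c).toMonoidHom hy.1
      rw [map_brk] at hm
      have e : (MulAut.conj c).toMonoidHom x = x := by
        show c * x * c⁻¹ = x
        rw [hc'.eq]; group
      rw [e] at hm
      exact hm
    · refine mem_centralizer_singleton_iff.2 ?_
      exact ((hc'.mul_left (mem_centralizer_singleton_iff.1 hy.2)).mul_left hc'.inv_left).eq
  exact hle (mem_map_of_mem _ hl)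

theorem commutator_zpowers_eq {x : G} {H : Subgroup G} (hx : x ∈ normalizer (H : Set G)) :
    ⁅H, zpowers x⁆ = ⨆ h : H, brk x (h : G) := by
  refine le_antisymm ?_ (iSup_le fun h => ?_)
  · rw [commutator_le]
    intro g hg a ha
    obtain ⟨i, rfl⟩ := mem_powers_iff_mem_zpowers.2 ha
    refine le_iSup (fun h : H => brk x (h : G)) (⟨g⁻¹, inv_mem hg⟩ : H) ?_
    have := gen_mem_brk x g⁻¹ i
    rw [inv_inv] at this
    rw [commutatorElement_def]
    simpa only [mul_assoc] using this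
  · rw [brk, closure_le]
    rintro _ ⟨i, rfl⟩
    have := commutator_mem_commutator (inv_mem h.2) (pow_mem (mem_zpowers x) i)
    rw [commutatorElement_def, inv_inv] at this
    simpa only [SetLike.mem_coe, mul_assoc] using this

theorem exists_coatom_ge {G : Type*} [Group G] [Finite G] {L : Subgroup G} (h : L ≠ ⊤) :
    ∃ M : Subgroup G, IsCoatom M ∧ L ≤ M := by
  obtain ⟨M, hLM, hM⟩ := (Set.toFinite {M : Subgroup G | M ≠ ⊤}).exists_le_maximal h
  exact ⟨M, ⟨hM.1, fun N hN => by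
    by_contra hN'
    exact hN.not_ge (hM.2 hN' hN.le)⟩, hLM⟩

theorem commutatorElement_mul_left_of_central {a b c : G} (h : Commute a ⁅b, c⁆) :
    ⁅a * b, c⁆ = ⁅b, c⁆ * ⁅a, c⁆ := by
  calc ⁅a * b, c⁆ = a * ⁅b, c⁆ * a⁻¹ * ⁅a, c⁆ := by simp only [commutatorElement_def]; group
    _ = _ := by rw [h.eq]; group

/-- In class two, if each `[h, P]` is abelian then `x` preserves the commutator pairing trivially,
so the group is abelian. -/
theorem commute_of_class_two {p : ℕ} (hp : p.Prime) (hp2 : p ≠ 2) {x : G} (hxp : x ^ p = 1)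
    {H A : Subgroup G} (hx : x ∈ normalizer (H : Set G)) (hcop : (Nat.card H).Coprime p)
    (hA : ∀ a ∈ H, ∀ b ∈ H, ⁅a, b⁆ ∈ A) (hAc : ∀ z ∈ A, ∀ h ∈ H, Commute z h)
    (hAx : ∀ z ∈ A, x * z * x⁻¹ = z)
    (hbrk : ∀ h ∈ H, ∀ a ∈ brk x h, ∀ b ∈ brk x h, Commute a b)
    (hgen : ⁅H, zpowers x⁆ = H) : ∀ a ∈ H, ∀ b ∈ H, Commute a b := by
  -- bilinearity
  have hml : ∀ a ∈ H, ∀ b ∈ H, ∀ c ∈ H, ⁅a * b, c⁆ = ⁅a, c⁆ * ⁅b, c⁆ := by
    intro a ha b hb c hc
    have hcm : ⁅a, c⁆ ∈ H := mul_mem (mul_mem (mul_mem ha hc) (inv_mem ha)) (inv_mem hc)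
    rw [commutatorElement_mul_left_of_central (hAc _ (hA b hb c hc) a ha).symm]
    exact (hAc _ (hA b hb c hc) _ hcm).eq
  have hmr : ∀ a ∈ H, ∀ b ∈ H, ∀ c ∈ H, ⁅a, b * c⁆ = ⁅a, b⁆ * ⁅a, c⁆ := by
    intro a ha b hb c hc
    rw [← commutatorElement_inv (b * c) a, hml b hb c hc a ha, mul_inv_rev, commutatorElement_inv,
      commutatorElement_inv]
    have hcm : ⁅a, b⁆ ∈ H := mul_mem (mul_mem (mul_mem ha hb) (inv_mem ha)) (inv_mem hb)
    exact (hAc _ (hA a ha c hc) _ hcm).eq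
  have hil : ∀ a ∈ H, ∀ c ∈ H, ⁅a⁻¹, c⁆ = ⁅a, c⁆⁻¹ := by
    intro a ha c hc
    refine eq_inv_of_mul_eq_one_left ?_
    rw [← hml _ (inv_mem ha) a ha c hc, inv_mul_cancel, commutatorElement_one_left]
  have hir : ∀ a ∈ H, ∀ c ∈ H, ⁅a, c⁻¹⁆ = ⁅a, c⁆⁻¹ := by
    intro a ha c hc
    refine eq_inv_of_mul_eq_one_left ?_
    rw [← hmr a ha _ (inv_mem hc) c hc, inv_mul_cancel, commutatorElement_one_right]
  have hcj : ∀ (k : ℕ), ∀ a ∈ H, x ^ k * a * (x ^ k)⁻¹ ∈ H := fun k a ha =>
    (mem_normalizer_iff.1 (pow_mem hx k) a).1 ha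
  have hσ : ∀ (k : ℕ), ∀ a ∈ H, ∀ b ∈ H,
      ⁅x ^ k * a * (x ^ k)⁻¹, x ^ k * b * (x ^ k)⁻¹⁆ = ⁅a, b⁆ := by
    intro k a ha b hb
    have hc : Commute x ⁅a, b⁆ := mul_inv_eq_iff_eq_mul.1 (hAx _ (hA a ha b hb))
    calc ⁅x ^ k * a * (x ^ k)⁻¹, x ^ k * b * (x ^ k)⁻¹⁆ = x ^ k * ⁅a, b⁆ * (x ^ k)⁻¹ := by
          simp only [commutatorElement_def]; group
      _ = _ := by rw [(hc.pow_left k).eq]; group
  -- `⁅h, x h x⁻¹⁆ = 1`
  have hone : ∀ h ∈ H, ⁅h, x * h * x⁻¹⁆ = 1 := by
    intro h hh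
    let g : ℕ → G := fun k => ⁅h, x ^ k * h * (x ^ k)⁻¹⁆
    have hadd : ∀ i k, g (i + k) = g k * g i := by
      intro i k
      have hc := hbrk h hh _ (gen_mem_brk x h i) _ (gen_mem_brk x h (i + k))
      have h1 : ⁅h⁻¹ * (x ^ i * h * (x ^ i)⁻¹), h⁻¹ * (x ^ (i + k) * h * (x ^ (i + k))⁻¹)⁆ = 1 :=
        commutatorElement_eq_one_iff_mul_comm.2 hc.eq
      rw [hml _ (inv_mem hh) _ (hcj i h hh) _ (mul_mem (inv_mem hh) (hcj _ h hh)),
        hmr _ (inv_mem hh) _ (inv_mem hh) _ (hcj _ h hh), hmr _ (hcj i h hh) _ (inv_mem hh) _ (hcj _ h hh),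
        hil h hh _ (inv_mem hh), hir h hh h hh, commutatorElement_self, inv_one, inv_one, one_mul,
        hil h hh _ (hcj _ h hh), hir _ (hcj i h hh) h hh, commutatorElement_inv] at h1
      have h2 : ⁅x ^ i * h * (x ^ i)⁻¹, x ^ (i + k) * h * (x ^ (i + k))⁻¹⁆ = g k := by
        rw [show x ^ (i + k) * h * (x ^ (i + k))⁻¹ = x ^ i * (x ^ k * h * (x ^ k)⁻¹) * (x ^ i)⁻¹ by
          rw [pow_add]; group]
        exact hσ i h hh _ (hcj k h hh)
      rw [h2, ← commutatorElement_inv h (x ^ (i + k) * h * (x ^ (i + k))⁻¹),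
        ← commutatorElement_inv h (x ^ i * h * (x ^ i)⁻¹), inv_inv] at h1
      have h3 : g (i + k) = g i * g k := inv_mul_eq_one.1 h1
      have hgi : g i ∈ H := mul_mem (mul_mem (mul_mem hh (hcj i h hh)) (inv_mem hh)) (inv_mem (hcj i h hh))
      rw [h3, (hAc _ (hA h hh _ (hcj k h hh)) _ hgi).eq]
    have hpow : ∀ k, g k = g 1 ^ k := by
      intro k
      induction k with
      | zero => show ⁅h, x ^ 0 * h * (x ^ 0)⁻¹⁆ = _; simp
      | succ k ih => rw [hadd k 1, ih, ← pow_succ']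
    have hgp : g 1 ^ p = 1 := by
      rw [← hpow p]
      show ⁅h, x ^ p * h * (x ^ p)⁻¹⁆ = 1
      rw [hxp, one_mul, inv_one, mul_one, commutatorElement_self]
    have hgH : g 1 ∈ H := mul_mem (mul_mem (mul_mem hh (hcj 1 h hh)) (inv_mem hh)) (inv_mem (hcj 1 h hh))
    have hd : orderOf (g 1) ∣ Nat.card H := Subgroup.orderOf_dvd_natCard H hgH
    have := Nat.eq_one_of_dvd_coprimes hcop hd (orderOf_dvd_of_pow_eq_one hgp)
    have h1 := orderOf_eq_one_iff.1 this
    simpa only [g, pow_one] using h1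
  -- linearise
  have hsym : ∀ a ∈ H, ∀ b ∈ H, ⁅a, x * b * x⁻¹⁆ = ⁅x * a * x⁻¹, b⁆ := by
    intro a ha b hb
    have h1 := hone (a * b) (mul_mem ha hb)
    have ha' : x * a * x⁻¹ ∈ H := by simpa using hcj 1 a ha
    have hb' : x * b * x⁻¹ ∈ H := by simpa using hcj 1 b hb
    rw [show x * (a * b) * x⁻¹ = (x * a * x⁻¹) * (x * b * x⁻¹) by group,
      hml a ha b hb _ (mul_mem ha' hb'), hmr a ha _ ha' _ hb', hmr b hb _ ha' _ hb', hone a ha, hone b hb,
      one_mul, mul_one] at h1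
    rw [eq_inv_of_mul_eq_one_left h1, commutatorElement_inv]
  have htwo : ∀ (k : ℕ), ∀ a ∈ H, ∀ b ∈ H, ⁅a, x ^ (2 * k) * b * (x ^ (2 * k))⁻¹⁆ = ⁅a, b⁆ := by
    intro k
    induction k with
    | zero => intro a _ b _; simp
    | succ k ih =>
      intro a ha b hb
      have hb' := hcj (2 * k) b hb
      have hb'' : x * (x ^ (2 * k) * b * (x ^ (2 * k))⁻¹) * x⁻¹ ∈ H := by
        have := hcj 1 _ hb'
        rwa [pow_one] at this
      rw [show x ^ (2 * (k + 1)) * b * (x ^ (2 * (k + 1)))⁻¹ =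
        x * (x * (x ^ (2 * k) * b * (x ^ (2 * k))⁻¹) * x⁻¹) * x⁻¹ by
          rw [show 2 * (k + 1) = 1 + (1 + 2 * k) by ring, pow_add, pow_add, pow_one]; group,
        hsym a ha _ hb'']
      have h2 := hσ 1 a ha _ hb'
      rw [pow_one] at h2
      rw [h2, ih a ha b hb]
  intro a ha b hb
  suffices hle : H ≤ centralizer ({a} : Set G) from (mem_centralizer_singleton_iff.1 (hle hb) : Commute b a).symm
  conv_lhs => rw [← hgen, commutator_zpowers_eq hx]
  refine iSup_le fun h => ?_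
  rw [brk, closure_le]
  rintro _ ⟨i, rfl⟩
  refine mem_centralizer_singleton_iff.2 ?_
  have hall : ∀ b ∈ H, ⁅a, x * b * x⁻¹⁆ = ⁅a, b⁆ := by
    intro b hb
    have h2 : 2 * ((p + 1) / 2) = p + 1 := by
      rcases hp.odd_of_ne_two hp2 with ⟨m, hm⟩
      omega
    have := htwo ((p + 1) / 2) a ha b hb
    rwa [h2, pow_succ, hxp, one_mul] at this
  have hi : ∀ i : ℕ, ⁅a, x ^ i * (h : G) * (x ^ i)⁻¹⁆ = ⁅a, (h : G)⁆ := by
    intro i
    induction i with
    | zero => simp
    | succ i ih =>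
      rw [show x ^ (i + 1) * (h : G) * (x ^ (i + 1))⁻¹ = x * (x ^ i * h * (x ^ i)⁻¹) * x⁻¹ by
        rw [pow_succ']; group, hall _ (hcj i h h.2), ih]
  refine (commutatorElement_eq_one_iff_mul_comm.1 ?_).symm
  rw [hmr a ha _ (inv_mem h.2) _ (hcj i h h.2), hir a ha h h.2, hi, inv_mul_cancel]

/-- The claim for a single group. -/
def Claim (x : G) (H : Subgroup G) : Prop :=
  ⁅H, zpowers x⁆ ⊓ centralizer ({x} : Set G) ≤ fixGen x H

section PrimePower

variable {p q : ℕ} [Fact q.Prime]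

theorem claim_of_isPGroup (hp : p.Prime) (hp2 : p ≠ 2) {x : G} (hxp : x ^ p = 1) {H : Subgroup G} [H.Normal]
    (htop : H ⊔ zpowers x = ⊤) (hcop : (Nat.card H).Coprime p) (hH : IsPGroup q H)
    (hgen : ⁅H, zpowers x⁆ = H)
    (IH : ∀ K ≤ H, K ≠ H → x ∈ normalizer (K : Set G) → Claim x K) : Claim x H := by
  classical
  unfold Claim
  rw [hgen]
  have hxN : ∀ K : Subgroup G, K.Normal → x ∈ normalizer (K : Set G) := fun K hK => by
    rw [normalizer_eq_top_iff.2 hK]; exact mem_top x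
  have hxH := hxN H inferInstance
  by_cases hone : ∃ h ∈ H, brk x h = H
  · obtain ⟨h, hh, hbh⟩ := hone
    exact fun c hc => mem_fixGen hh (hbh.symm ▸ hc.1) hc.2
  push Not at hone
  haveI := hH.isNilpotent
  have hcZ : ∀ K ≤ H, (Nat.card (zpowers x)).Coprime (Nat.card K) := fun K hK =>
    (Nat.Coprime.of_dvd (card_dvd_of_le hK) (by rw [Nat.card_zpowers]; exact orderOf_dvd_of_pow_eq_one hxp) hcop).symm
  have hnH : ∀ K : Subgroup G, H ≤ normalizer (K : Set G) → x ∈ normalizer (K : Set G) → K.Normal :=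
    fun K h1 h2 => normalizer_eq_top_iff.1 (eq_top_iff.2 (htop ▸ sup_le h1 (zpowers_le.2 h2)))
  have hzN : ∀ K : Subgroup G, x ∈ normalizer (K : Set G) → zpowers x ≤ normalizer (K : Set G) :=
    fun K h => zpowers_le.2 h
  rcases eq_or_ne H ⊥ with hbot | hbot
  · rw [hbot, bot_inf_eq]; exact bot_le
  set W := ⁅H, H⁆ with hW
  haveI hWn : W.Normal := commutator_normal H H
  have hWH : W ≤ H := commutator_le_self H
  haveI : Nontrivial H := (nontrivial_iff_ne_bot H).2 hbot
  have hWne : W ≠ H := by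
    intro he
    have hlt := Group.IsSolvable.commutator_lt_top_of_nontrivial H
    apply hlt.ne
    refine map_injective H.subtype_injective ?_
    rw [map_subtype_commutator, ← hW, he, ← MonoidHom.range_eq_map, range_subtype]
  set CH := H ⊓ centralizer ({x} : Set G) with hCH
  -- fixed points lie in the derived group
  have hCW : CH ≤ W := by
    intro c hc
    set f := QuotientGroup.mk' W
    refine (QuotientGroup.eq_one_iff c).1 ?_
    have hab : IsMulCommutative (H.map f) := ⟨⟨fun a b => Subtype.ext (by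
      obtain ⟨a', ha, ea⟩ := a.2
      obtain ⟨b', hb, eb⟩ := b.2
      show (a : G ⧸ W) * b = b * a
      rw [← ea, ← eb, ← map_mul, ← map_mul]
      refine (QuotientGroup.eq).2 ?_
      have := commutator_mem_commutator (inv_mem hb) (inv_mem ha)
      rw [commutatorElement_def, inv_inv, inv_inv] at this
      simpa [mul_assoc] using this)⟩⟩
    have h := CfsgLib.Solvable.centralizer_inf_commutator_eq_bot (V := H.map f) (A := (zpowers x).map f)
      ((map_mono (hzN H hxH)).trans (le_normalizer_map f))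
      ((hcZ H le_rfl).of_dvd (card_map_dvd _ _) (card_map_dvd _ _))
    have hm : f c ∈ H.map f ⊓ centralizer (((zpowers x).map f : Subgroup (G ⧸ W)) : Set (G ⧸ W)) := by
      refine ⟨mem_map_of_mem f hc.1, ?_⟩
      rintro _ ⟨a, ha, rfl⟩
      rw [← map_mul, ← map_mul, (mem_centralizer_zpowers.2 hc.2) a ha]
    rw [← map_commutator, hgen] at h
    exact (eq_bot_iff.1 h) ⟨hm, mem_map_of_mem f hc.1⟩
  by_contra hcon
  set L := fixGen x H with hL
  have hLC : L ≤ CH := fixGen_le hxH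
  have hLne : L.subgroupOf CH ≠ ⊤ := fun h => hcon fun c hc => subgroupOf_eq_top.1 h hc
  obtain ⟨M₀, hM₀, hLM₀⟩ := exists_coatom_ge hLne
  set L' := M₀.map CH.subtype with hL'
  have hCHp : IsPGroup q CH := hH.to_le inf_le_left
  have hLL' : L ≤ L' := fun l hl => ⟨⟨l, hLC hl⟩, hLM₀ hl, rfl⟩
  have hL'C : L' ≤ CH := map_subtype_le _
  have hCC : ∀ a ∈ CH, ∀ b ∈ CH, ⁅a, b⁆ ∈ L' := fun a ha b hb =>
    ⟨⁅(⟨a, ha⟩ : CH), ⟨b, hb⟩⁆, frattini_le_coatom hM₀
      (CfsgLib.OddOrder.commutator_le_frattini_of_isPGroup hCHp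
        (commutator_mem_commutator (mem_top _) (mem_top _))), rfl⟩
  have hL'n : ∀ a ∈ CH, ∀ l ∈ L', a * l * a⁻¹ ∈ L' := by
    intro a ha l hl
    have := mul_mem (hCC a ha l (hL'C hl)) hl
    simpa [commutatorElement_def, mul_assoc] using this
  have hL'ne : ¬ CH ≤ L' := fun h => hM₀.1 (eq_top_iff.2 fun a _ => by
    obtain ⟨b, hb, e⟩ := h a.2
    rwa [← Subtype.ext e])
  -- fixed points normalise `[K, P]`
  have hCnorm : ∀ (K : Subgroup G), K.Normal → ∀ c ∈ CH, ∀ t ∈ ⁅K, zpowers x⁆, c * t * c⁻¹ ∈ ⁅K, zpowers x⁆ := by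
    intro K hK c hc t ht
    have h1 : ⁅K, zpowers x⁆.map (MulAut.conj c).toMonoidHom ≤ ⁅K, zpowers x⁆ := by
      rw [map_commutator]
      refine commutator_mono ?_ ?_
      · rintro _ ⟨k, hk, rfl⟩; exact hK.conj_mem k hk c
      · rintro _ ⟨a, ha, rfl⟩
        show c * a * c⁻¹ ∈ zpowers x
        rw [← (mem_centralizer_zpowers.2 hc.2) a ha]
        simpa using ha
    exact h1 (mem_map_of_mem _ ht)
  have hfac : ∀ (K : Subgroup G), K.Normal → ∀ y ∈ ⁅K, zpowers x⁆ ⊔ L',
      ∃ t ∈ ⁅K, zpowers x⁆, ∃ l ∈ L', y = t * l := by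
    intro K hK y hy
    have hle : L' ≤ normalizer ((⁅K, zpowers x⁆ : Subgroup G) : Set G) := fun l hl => by
      rw [mem_normalizer_iff]
      refine fun t => ⟨hCnorm K hK l (hL'C hl) t, fun h => ?_⟩
      have := hCnorm K hK l⁻¹ (inv_mem (hL'C hl)) _ h
      simpa [mul_assoc] using this
    obtain ⟨t, ht, l, hl, e⟩ := (mem_sup_of_le_normalizer hle).1 hy
    exact ⟨t, ht, l, hl, e.symm⟩
  have hsplit : ∀ (K : Subgroup G), K.Normal → K ≤ H → ∀ y ∈ K,
      ∃ t ∈ ⁅K, zpowers x⁆, ∃ c ∈ K ⊓ centralizer ({x} : Set G), y = t * c := by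
    intro K hK hKH y hy
    have h := commutator_sup_centralizer (A := zpowers x) (K := K) (hzN K (hxN K hK)) (hcZ K hKH) (Or.inl inferInstance)
    rw [centralizer_zpowers_eq] at h
    have hy' := h.ge hy
    obtain ⟨t, ht, c, hc, e⟩ := (mem_sup_of_le_normalizer
      (inf_le_left.trans (le_normalizer_commutator_left K _))).1 hy'
    exact ⟨t, ht, c, hc, e.symm⟩
  set D := ⁅W, zpowers x⁆ ⊔ L' with hD
  have hWle : ⁅W, zpowers x⁆ ≤ W := commutator_le_of_normalizes (hzN W (hxN W hWn))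
  have hDW : D ≤ W := sup_le hWle (hL'C.trans hCW)
  have hDC : ∀ d ∈ D, d ∈ centralizer ({x} : Set G) → d ∈ L' := by
    intro d hd hdx
    obtain ⟨t, ht, l, hl, rfl⟩ := hfac W hWn d hd
    have htx : t ∈ centralizer ({x} : Set G) := by
      have := mul_mem hdx (inv_mem (hL'C hl).2)
      simpa using this
    exact mul_mem (hLL' (fixGen_mono hWH (IH W hWH hWne (hxN W hWn) ⟨ht, htx⟩))) hl
  -- the maximal pieces
  let Ms : G → Subgroup G := fun h => brk x h ⊔ W
  have hMsH : ∀ h ∈ H, Ms h ≤ H := fun h hh => sup_le (brk_le hxH hh) hWH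
  have hMsn : ∀ h ∈ H, (Ms h).Normal := by
    intro h hh
    refine hnH _ (fun a ha => ?_) ?_
    · rw [mem_normalizer_iff]
      have key : ∀ a ∈ H, ∀ y ∈ Ms h, a * y * a⁻¹ ∈ Ms h := by
        intro a ha y hy
        have := mul_mem (mem_sup_right (S := brk x h) (commutator_mem_commutator ha (hMsH h hh hy))) hy
        simpa [commutatorElement_def, mul_assoc] using this
      refine fun y => ⟨key a ha y, fun hy => ?_⟩
      have := key a⁻¹ (inv_mem ha) _ hy
      simpa [mul_assoc] using this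
    · exact (sup_le (fun k hk => mem_sup_left hk) le_sup_right : Ms h ≤ Ms h) |> fun _ =>
        zpowers_le_normalizer (K := Ms h) (fun y hy => by
          have hle : (Ms h).map (MulAut.conj x).toMonoidHom ≤ Ms h := by
            rw [Subgroup.map_sup]
            refine sup_le_sup ?_ ?_
            · rintro _ ⟨k, hk, rfl⟩
              exact (mem_normalizer_iff.1 (zpowers_le_normalizer_brk x h (mem_zpowers x)) k).1 hk
            · rintro _ ⟨k, hk, rfl⟩; exact hWn.conj_mem k hk x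
          exact hle (mem_map_of_mem _ hy)) (mem_zpowers x)
  have hMsne : ∀ h ∈ H, Ms h ≠ H := by
    intro h hh he
    refine hone h hh ?_
    have h1 : (brk x h).subgroupOf H ⊔ frattini H = ⊤ := by
      rw [eq_top_iff]
      intro a _
      have ha : (a : G) ∈ (((brk x h).subgroupOf H) ⊔ frattini H).map H.subtype := by
        rw [Subgroup.map_sup, map_subgroupOf_eq_of_le (brk_le hxH hh)]
        have : W ≤ (frattini H).map H.subtype := by
          rw [hW, ← map_subtype_commutator]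
          exact map_mono (CfsgLib.OddOrder.commutator_le_frattini_of_isPGroup hH)
        exact sup_le_sup_left this _ (show (a : G) ∈ Ms h by rw [he]; exact a.2)
      obtain ⟨a', ha', e⟩ := ha
      rwa [← Subtype.ext e]
    exact le_antisymm (brk_le hxH hh) (subgroupOf_eq_top.1 (frattini_nongenerating h1))
  have hMab : ∀ h ∈ H, ∀ a ∈ Ms h, ∀ b ∈ Ms h, ⁅a, b⁆ ∈ D := by
    intro h hh
    set M := Ms h
    have hMn := hMsn h hh
    have hMH := hMsH h hh
    have hIH := IH M hMH (hMsne h hh) (hxN M hMn)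
    intro a ha b hb
    set N := ⁅M, zpowers x⁆ ⊔ L' with hN
    obtain ⟨t, ht, c, hc, rfl⟩ := hsplit M hMn hMH a ha
    obtain ⟨s, hs, d, hd, rfl⟩ := hsplit M hMn hMH b hb
    have hcC : c ∈ CH := ⟨hMH hc.1, hc.2⟩
    have hdC : d ∈ CH := ⟨hMH hd.1, hd.2⟩
    have hy : ⁅t * c, s * d⁆ ∈ N := by
      have e : ⁅t * c, s * d⁆ = t * (c * s * c⁻¹) * ⁅c, d⁆ * (d * t⁻¹ * d⁻¹) * s⁻¹ := by
        simp only [commutatorElement_def]; group
      rw [e]
      exact mul_mem (mul_mem (mul_mem (mul_mem (mem_sup_left ht) (mem_sup_left (hCnorm M hMn c hcC s hs)))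
        (mem_sup_right (hCC c hcC d hdC))) (mem_sup_left (hCnorm M hMn d hdC _ (inv_mem ht)))) (mem_sup_left (inv_mem hs))
    have hyW : ⁅t * c, s * d⁆ ∈ W := commutator_mem_commutator (hMH ha) (hMH hb)
    generalize ⁅t * c, s * d⁆ = y at hy hyW ⊢
    obtain ⟨u, hu, l, hl, rfl⟩ := hfac M hMn y hy
    have huW : u ∈ W := by
      have := mul_mem hyW (inv_mem (hCW (hL'C hl)))
      simpa using this
    obtain ⟨u₁, hu₁, e, he, rfl⟩ := hsplit W hWn hWH u huW
    have heM : e ∈ ⁅M, zpowers x⁆ := by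
      have := mul_mem (inv_mem (commutator_mono (le_sup_right : W ≤ M) le_rfl hu₁)) hu
      simpa using this
    exact mul_mem (mul_mem (mem_sup_left hu₁) (mem_sup_right (hLL' (fixGen_mono hMH (hIH ⟨heM, he.2⟩)))))
      (mem_sup_right hl)
  haveI hDn : D.Normal := by
    have hgenM : H ≤ normalizer (D : Set G) := by
      conv_lhs => rw [← hgen, commutator_zpowers_eq hxH]
      refine iSup_le fun h a ha => ?_
      have key : ∀ a ∈ Ms h, ∀ d ∈ D, a * d * a⁻¹ ∈ D := by
        intro a ha d hd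
        have := mul_mem (hMab h h.2 a ha d (mem_sup_right (S := brk x (h : G)) (hDW hd))) hd
        simpa [commutatorElement_def, mul_assoc] using this
      rw [mem_normalizer_iff]
      refine fun d => ⟨key a (mem_sup_left ha) d, fun hd => ?_⟩
      have := key a⁻¹ (inv_mem (mem_sup_left ha)) _ hd
      simpa [mul_assoc] using this
    refine hnH D hgenM ?_
    refine zpowers_le_normalizer (fun d hd => ?_) (mem_zpowers x)
    obtain ⟨t, ht, l, hl, rfl⟩ := hfac W hWn d hd
    have hxl : x * l * x⁻¹ = l := by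
      rw [← mem_centralizer_singleton_iff.1 (hL'C hl).2]; group
    rw [show x * (t * l) * x⁻¹ = (x * t * x⁻¹) * (x * l * x⁻¹) by group, hxl]
    exact mul_mem (mem_sup_left ((mem_normalizer_iff.1 (le_normalizer_commutator_right W _ (mem_zpowers x)) t).1 ht))
      (mem_sup_right hl)
  -- the quotient is abelian
  set f := QuotientGroup.mk' D with hf
  have hHf : ⁅H.map f, zpowers (f x)⁆ = H.map f := by rw [← MonoidHom.map_zpowers, ← map_commutator, hgen]
  have hcomm0 : ∀ a ∈ H, ∀ b ∈ H, Commute (f a) (f b) := by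
    have hMcomm : ∀ h ∈ H, ∀ a ∈ Ms h, ∀ b ∈ Ms h, Commute (f a) (f b) := fun h hh a ha b hb =>
      commutatorElement_eq_one_iff_mul_comm.1 (by
        rw [← map_commutatorElement]; exact (QuotientGroup.eq_one_iff _).2 (hMab h hh a ha b hb))
    haveI : (H.map f).Normal := Normal.map inferInstance f (QuotientGroup.mk'_surjective D)
    have h := commute_of_class_two hp hp2 (x := f x) (by rw [← map_pow, hxp, map_one])
      (H := H.map f) (A := W.map f) (by rw [normalizer_eq_top]; exact mem_top _)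
      (hcop.coprime_dvd_left (card_map_dvd _ _))
      (by
        rintro _ ⟨a, ha, rfl⟩ _ ⟨b, hb, rfl⟩
        rw [← map_commutatorElement]
        exact mem_map_of_mem f (commutator_mem_commutator ha hb))
      (by
        rintro _ ⟨z, hz, rfl⟩ _ ⟨h, hh, rfl⟩
        have hle : H ≤ (centralizer ({f z} : Set (G ⧸ D))).comap f := by
          conv_lhs => rw [← hgen, commutator_zpowers_eq hxH]
          refine iSup_le fun k y hy => ?_
          exact mem_centralizer_singleton_iff.2 (hMcomm k k.2 y (mem_sup_left hy) z (mem_sup_right hz)).eq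
        exact (show Commute (f h) (f z) from mem_centralizer_singleton_iff.1 (hle hh)).symm)
      (by
        rintro _ ⟨z, hz, rfl⟩
        obtain ⟨t, ht, c, hc, rfl⟩ := hsplit W hWn hWH z hz
        have h1 : f (t * c) = f c := by
          have : f t = 1 := (QuotientGroup.eq_one_iff t).2 (mem_sup_left ht)
          rw [map_mul, this, one_mul]
        rw [h1, ← map_mul, ← map_inv, ← map_mul]
        congr 1
        rw [← mem_centralizer_singleton_iff.1 hc.2]; group)
      (by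
        rintro _ ⟨h, hh, rfl⟩ a ha b hb
        have e : (brk x h).map f = brk (f x) (f h) := map_brk f x h
        rw [← e] at ha hb
        obtain ⟨a', ha', rfl⟩ := ha
        obtain ⟨b', hb', rfl⟩ := hb
        exact hMcomm h hh a' (mem_sup_left ha') b' (mem_sup_left hb'))
      hHf
    exact fun a ha b hb => h _ (mem_map_of_mem f ha) _ (mem_map_of_mem f hb)
  have hab : IsMulCommutative (H.map f) := ⟨⟨fun a b => Subtype.ext (by
    obtain ⟨a', ha, ea⟩ := a.2
    obtain ⟨b', hb, eb⟩ := b.2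
    show (a : G ⧸ D) * b = b * a
    rw [← ea, ← eb]
    exact hcomm0 a' ha b' hb)⟩⟩
  apply hL'ne
  intro c hc
  refine hDC c ((QuotientGroup.eq_one_iff c).1 ?_) hc.2
  have h := CfsgLib.Solvable.centralizer_inf_commutator_eq_bot (V := H.map f) (A := (zpowers x).map f)
    ((map_mono (hzN H hxH)).trans (le_normalizer_map f))
    ((hcZ H le_rfl).of_dvd (card_map_dvd _ _) (card_map_dvd _ _))
  have hm : f c ∈ H.map f ⊓ centralizer (((zpowers x).map f : Subgroup (G ⧸ D)) : Set (G ⧸ D)) := by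
    refine ⟨mem_map_of_mem f hc.1, ?_⟩
    rintro _ ⟨a, ha, rfl⟩
    rw [← map_mul, ← map_mul, (mem_centralizer_zpowers.2 hc.2) a ha]
  rw [← map_commutator, hgen] at h
  exact (eq_bot_iff.1 h) ⟨hm, mem_map_of_mem f hc.1⟩

end PrimePower

end CfsgLib.Solvable.Flavell
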