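import Mathlib
import Cfsg.Prelude.Def_OddOrderLocal
import Cfsg.Agent.Lib.Solvable.FlavellFixed
import Cfsg.Agent.Lib.Solvable.Basic
import Cfsg.Agent.Lib.Frobenius.FixedDim

/-!
Fixed points of a coprime element of odd prime order in `[H, P]`: the solvable case.
-/

set_option autoImplicit false
set_option linter.style.haveILetI false
set_option linter.unusedSectionVars false

namespace CfsgLib.Solvable.Flavell

open Subgroup
open scoped commutatorElement Pointwise

universe u

variable {G : Type u} [Group G] [Finite G] {p : ℕ}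

theorem mem_normalizer_of_conj_le {g : G} {K : Subgroup G} (h : ∀ k ∈ K, g * k * g⁻¹ ∈ K) :
    g ∈ normalizer (K : Set G) :=
  zpowers_le_normalizer h (mem_zpowers g)

theorem le_normalizer_of_conj {A K : Subgroup G} (h : ∀ a ∈ A, ∀ k ∈ K, a * k * a⁻¹ ∈ K) :
    A ≤ normalizer (K : Set G) := fun a ha => mem_normalizer_of_conj_le (h a ha)

/-- A factor fixed by `x` does not matter. -/
theorem brk_mul_of_fixed {x c j : G} (hc : c ∈ centralizer ({x} : Set G)) : brk x (c * j) = brk x j := by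
  unfold brk
  congr 2
  funext i
  have h : Commute c (x ^ i) := (show Commute c x from mem_centralizer_singleton_iff.1 hc).pow_right i
  calc (c * j)⁻¹ * (x ^ i * (c * j) * (x ^ i)⁻¹) = j⁻¹ * c⁻¹ * (x ^ i * c) * j * (x ^ i)⁻¹ := by group
    _ = j⁻¹ * c⁻¹ * (c * x ^ i) * j * (x ^ i)⁻¹ := by rw [h.eq]
    _ = _ := by group

/-- An element may be replaced by one inside its own commutator group. -/
theorem exists_mem_brk_eq {x g : G} {H : Subgroup G} (hx : x ∈ normalizer (H : Set G))
    (hcop : (Nat.card (zpowers x)).Coprime (Nat.card H)) (hg : g ∈ H) :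
    ∃ j ∈ H, brk x j = brk x g ∧ j ∈ brk x j := by
  obtain ⟨d, hd, hgd⟩ := exists_fixed_mem_coset (A := zpowers x) (K := H) (D := brk x g)
    (zpowers_le.2 hx) (brk_le hx hg) (zpowers_le_normalizer_brk x g) hcop (Or.inl inferInstance) hg
    (fun a ha => by
      obtain ⟨i, rfl⟩ := mem_powers_iff_mem_zpowers.2 ha
      exact gen_mem_brk x g i)
  have hgx : g * d ∈ centralizer ({x} : Set G) := mem_centralizer_zpowers.1 hgd.2
  have e : brk x g = brk x d⁻¹ := by
    conv_lhs => rw [show g = (g * d) * d⁻¹ by group]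
    exact brk_mul_of_fixed hgx
  exact ⟨d⁻¹, Subgroup.inv_mem _ (brk_le hx hg hd), e.symm, e ▸ Subgroup.inv_mem _ hd⟩

theorem commutator_coprime_card {x : G} {H K : Subgroup G} (hxp : x ^ p = 1) (hcop : (Nat.card H).Coprime p)
    (hK : K ≤ H) : (Nat.card (zpowers x)).Coprime (Nat.card K) :=
  (Nat.Coprime.of_dvd (card_dvd_of_le hK) (by rw [Nat.card_zpowers]; exact orderOf_dvd_of_pow_eq_one hxp) hcop).symm

/-- Conjugation by a fixed element carries the `[j, P]` to each other. -/
theorem map_conj_brk {x c : G} (j : G) (hc : c ∈ centralizer ({x} : Set G)) :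
    (brk x j).map (MulAut.conj c).toMonoidHom = brk x (c * j * c⁻¹) := by
  rw [map_brk]
  have e : (MulAut.conj c).toMonoidHom x = x := by
    show c * x * c⁻¹ = x
    rw [mem_centralizer_singleton_iff.1 hc]; group
  rw [e]
  rfl

section Main

variable {x : G} {H V : Subgroup G} {r : ℕ} [hr : Fact r.Prime]

/-- The central case: transfer into `R P / T`. -/
theorem central_case (hp : p.Prime) (hxp : x ^ p = 1) [H.Normal] (htop : H ⊔ zpowers x = ⊤)
    (hcop : (Nat.card H).Coprime p) (hgen : ⁅H, zpowers x⁆ = H) (hH : ¬ IsPGroup r H)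
    [V.Normal] (hVH : V ≤ H) (hVr : IsPGroup r V) (hVab : ∀ a ∈ V, ∀ b ∈ V, Commute a b)
    (hVc : ∀ v ∈ V, ∀ h ∈ H, Commute v h)
    (hred : ∀ c ∈ H ⊓ centralizer ({x} : Set G), ∃ l ∈ fixGen x H, ∃ v ∈ V ⊓ centralizer ({x} : Set G), c = l * v)
    (sub : ∀ K ≤ H, K ≠ H → x ∈ normalizer (K : Set G) → Claim x K) :
    V ⊓ centralizer ({x} : Set G) ≤ fixGen x H := by
  classical
  rcases V.bot_or_exists_ne_one with hV | ⟨v₀, hv₀, hv₀1⟩
  · rw [hV, bot_inf_eq]; exact bot_le
  have hxH : x ∈ normalizer (H : Set G) := by rw [normalizer_eq_top]; exact mem_top x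
  set L := fixGen x H with hL
  have hLC : L ≤ H ⊓ centralizer ({x} : Set G) := fixGen_le hxH
  obtain ⟨P, hVP, hxP⟩ := exists_invariant_sylow_ge (A := zpowers x) (K := H) (zpowers_le.2 hxH)
    (commutator_coprime_card hxp hcop le_rfl) (Or.inl inferInstance) r hVH hVr
    (by rw [normalizer_eq_top]; exact le_top)
  set R := (P : Subgroup H).map H.subtype with hR
  have hRH : R ≤ H := map_subtype_le _
  have hRp : IsPGroup r R := P.isPGroup'.map H.subtype
  have hRne : R ≠ H := fun h => hH (by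
    have : IsPGroup r R := hRp
    rwa [h] at this)
  have hxR : x ∈ normalizer (R : Set G) := hxP (mem_zpowers x)
  set CR := R ⊓ centralizer ({x} : Set G) with hCR
  set T₀ := ⁅R, zpowers x⁆ ⊔ (R ⊓ L) with hT₀
  set T := T₀ ⊔ zpowers x with hT
  set S := R ⊔ zpowers x with hS
  have hRP : ⁅R, zpowers x⁆ ≤ R := commutator_le_of_normalizes hxP
  have hT₀R : T₀ ≤ R := sup_le hRP inf_le_left
  have hTS : T ≤ S := sup_le_sup_right hT₀R _
  have hxT₀ : zpowers x ≤ normalizer (T₀ : Set G) := by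
    refine le_normalizer_of_conj fun a ha => ?_
    have h1 : T₀ ≤ (T₀.comap (MulAut.conj a).toMonoidHom) := sup_le
      (fun t ht => mem_sup_left ((mem_normalizer_iff.1 (le_normalizer_commutator_right R _ ha) t).1 ht))
      (fun l hl => by
        refine mem_sup_right (?_ : a * l * a⁻¹ ∈ R ⊓ L)
        rw [(mem_centralizer_zpowers.2 (hLC hl.2).2) a ha, mul_assoc, mul_inv_cancel, mul_one]
        exact hl)
    exact fun k hk => h1 hk
  have hCRT : CR ≤ normalizer (T : Set G) := by
    refine le_normalizer_of_conj fun c hc => ?_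
    have hcx : ∀ a ∈ zpowers x, c * a * c⁻¹ = a := fun a ha => by
      rw [← (mem_centralizer_zpowers.2 hc.2) a ha]; group
    have h1 : T ≤ T.comap (MulAut.conj c).toMonoidHom := sup_le (sup_le
      (fun t ht => mem_sup_left (mem_sup_left (by
        have hle : ⁅R, zpowers x⁆.map (MulAut.conj c).toMonoidHom ≤ ⁅R, zpowers x⁆ := by
          rw [map_commutator]
          refine commutator_mono ?_ ?_
          · rintro _ ⟨k, hk, rfl⟩; exact R.mul_mem (R.mul_mem hc.1 hk) (R.inv_mem hc.1)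
          · rintro _ ⟨a, ha, rfl⟩
            show c * a * c⁻¹ ∈ zpowers x
            rw [hcx a ha]; exact ha
        exact hle (mem_map_of_mem _ ht))))
      (fun l hl => mem_sup_left (mem_sup_right (⟨R.mul_mem (R.mul_mem hc.1 hl.1) (R.inv_mem hc.1),
        conj_mem_fixGen (hRH hc.1) hc.2 hl.2⟩ : c * l * c⁻¹ ∈ R ⊓ L))))
      (fun a ha => by
        show c * a * c⁻¹ ∈ T
        rw [hcx a ha]; exact mem_sup_right ha)
    exact fun k hk => h1 hk
  have hsplit := commutator_sup_centralizer (A := zpowers x) (K := R) hxP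
    (commutator_coprime_card hxp hcop hRH) (Or.inl inferInstance)
  rw [centralizer_zpowers_eq] at hsplit
  have hST : S ≤ T ⊔ (V ⊓ centralizer ({x} : Set G)) := by
    refine sup_le ?_ (le_sup_right.trans le_sup_left)
    rw [← hsplit]
    refine sup_le ((le_sup_left.trans le_sup_left).trans le_sup_left) fun c hc => ?_
    obtain ⟨l, hl, v, hv, rfl⟩ := hred c ⟨hRH hc.1, hc.2⟩
    refine Subgroup.mul_mem _ (mem_sup_left (mem_sup_left (mem_sup_right ⟨?_, hl⟩))) (mem_sup_right hv)
    have := R.mul_mem hc.1 (R.inv_mem (hVP hv.1))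
    simpa using this
  have hCVR : V ⊓ centralizer ({x} : Set G) ≤ CR := inf_le_inf_right _ hVP
  have hSN : S ≤ normalizer (T : Set G) := hST.trans (sup_le le_normalizer (hCVR.trans hCRT))
  set T' := T.subgroupOf S
  haveI hT'n : T'.Normal := normal_subgroupOf_of_le_normalizer hSN
  have hrep : ∀ s : S, ∃ v : S, (v : G) ∈ V ∧ (QuotientGroup.mk s : S ⧸ T') = QuotientGroup.mk v := by
    intro s
    obtain ⟨t, ht, v, hv, e⟩ := (mem_sup_of_le_normalizer (hCVR.trans hCRT)).1 (hST s.2)
    refine ⟨⟨v, mem_sup_left (hVP hv.1)⟩, hv.1, (QuotientGroup.eq).2 ?_⟩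
    have : ((s⁻¹ * ⟨v, mem_sup_left (hVP hv.1)⟩ : S) : G) = v⁻¹ * t⁻¹ * v := by
      show (s : G)⁻¹ * v = _
      rw [← e]; group
    show ((s⁻¹ * ⟨v, mem_sup_left (hVP hv.1)⟩ : S) : G) ∈ T
    rw [this]
    have h := (mem_normalizer_iff''.1 (hCRT (hCVR hv)) t⁻¹).1 (Subgroup.inv_mem _ ht)
    exact h
  letI : CommGroup (S ⧸ T') := { (inferInstance : Group (S ⧸ T')) with
    mul_comm := fun a b => by
      obtain ⟨a, rfl⟩ := QuotientGroup.mk_surjective a
      obtain ⟨b, rfl⟩ := QuotientGroup.mk_surjective b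
      obtain ⟨va, hva, ea⟩ := hrep a
      obtain ⟨vb, hvb, eb⟩ := hrep b
      rw [ea, eb, ← QuotientGroup.mk_mul, ← QuotientGroup.mk_mul]
      exact congrArg _ (Subtype.ext (hVab _ hva _ hvb).eq) }
  let τ : G →* S ⧸ T' := MonoidHom.transfer (QuotientGroup.mk' T')
  have hτ : H ≤ τ.ker := by
    conv_lhs => rw [← hgen]
    rw [commutator_le]
    intro a _ b _
    rw [MonoidHom.mem_ker, map_commutatorElement, commutatorElement_eq_one_iff_mul_comm, mul_comm]
  intro v hv
  have hvc : ∀ g : G, Commute v g := by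
    intro g
    have hle : H ⊔ zpowers x ≤ centralizer ({v} : Set G) := sup_le
      (fun h hh => mem_centralizer_singleton_iff.2 (hVc v hv.1 h hh).symm.eq)
      (fun a ha => mem_centralizer_singleton_iff.2 ((mem_centralizer_zpowers.2 hv.2) a ha))
    rw [htop] at hle
    exact (show Commute g v from mem_centralizer_singleton_iff.1 (hle (mem_top g))).symm
  have hkey : ∀ (k : ℕ) (g₀ : G), g₀⁻¹ * v ^ k * g₀ ∈ S → g₀⁻¹ * v ^ k * g₀ = v ^ k := by
    intro k g₀ _
    rw [mul_assoc, ((hvc g₀).pow_left k).eq]; group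
  have h1 : τ v = 1 := hτ (hVH hv.1)
  rw [MonoidHom.transfer_eq_pow _ v hkey] at h1
  have h2 : v ^ S.index ∈ T := (QuotientGroup.eq_one_iff (N := T') _).1 h1
  -- the index is prime to `r`
  have hrp : r ≠ p := by
    intro h
    obtain ⟨k, hk⟩ := hVr ⟨v₀, hv₀⟩
    have h0 : v₀ ^ r ^ k = 1 := congrArg Subtype.val hk
    have hd := Subgroup.orderOf_dvd_natCard H (hVH hv₀)
    have := Nat.eq_one_of_dvd_coprimes (hcop.pow_right k) hd
      (by rw [← h]; exact orderOf_dvd_of_pow_eq_one h0)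
    exact hv₀1 (orderOf_eq_one_iff.1 this)
  have hidx : S.index.Coprime r := by
    have h3 : S.index ∣ R.index := index_dvd_of_le le_sup_left
    rw [← relIndex_mul_index hRH] at h3
    have h4 : R.relIndex H = (P : Subgroup H).index := by
      rw [relIndex, hR, subgroupOf, comap_map_eq_self_of_injective H.subtype_injective]
    have h5 : H.index ∣ p := by
      rw [← relIndex_top_right, ← htop, relIndex_sup_of_le_normalizer (zpowers_le.2 hxH)]
      refine (relIndex_dvd_card H (zpowers x)).trans ?_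
      rw [Nat.card_zpowers]; exact orderOf_dvd_of_pow_eq_one hxp
    refine Nat.Coprime.coprime_dvd_left h3 (Nat.Coprime.mul_left ?_ ?_)
    · rw [h4]; exact ((Fact.out : r.Prime).coprime_iff_not_dvd.2 P.not_dvd_index).symm
    · exact ((Nat.coprime_primes hp (Fact.out : r.Prime)).2 hrp.symm).coprime_dvd_left h5
  have hvT : v ∈ T := by
    obtain ⟨k, hk⟩ := hVr ⟨v, hv.1⟩
    have hk' : v ^ r ^ k = 1 := congrArg Subtype.val hk
    have hc : S.index.Coprime (orderOf v) :=
      (hidx.pow_right k).coprime_dvd_right (orderOf_dvd_of_pow_eq_one hk')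
    obtain ⟨m, hm⟩ := exists_pow_eq_self_of_coprime hc
    rw [← hm]
    exact pow_mem h2 m
  obtain ⟨n, hn, a, ha, e⟩ := (mem_sup_of_le_normalizer hxT₀).1 hvT
  have haH : a ∈ H := by
    have : a = n⁻¹ * v := by rw [← e]; group
    rw [this]; exact H.mul_mem (H.inv_mem (hRH (hT₀R hn))) (hVH hv.1)
  have ha1 : a = 1 := disjoint_def.1 (disjoint_of_coprime_natCard (commutator_coprime_card hxp hcop le_rfl)) ha haH
  rw [ha1, mul_one] at e
  subst e
  have hle : R ⊓ L ≤ normalizer ((⁅R, zpowers x⁆ : Subgroup G) : Set G) :=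
    inf_le_left.trans (le_normalizer_commutator_left R _)
  obtain ⟨t, ht, l, hl, rfl⟩ := (mem_sup_of_le_normalizer hle).1 hn
  have htx : t ∈ centralizer ({x} : Set G) := by
    have := Subgroup.mul_mem _ hv.2 (Subgroup.inv_mem _ (hLC hl.2).2)
    simpa using this
  exact L.mul_mem (fixGen_mono hRH (sub R hRH hRne hxR ⟨ht, htx⟩)) hl.2

/-- The non-central case. -/
theorem noncentral_case (hp : p.Prime) (hp2 : p ≠ 2) (hxp : x ^ p = 1) (hx1 : x ≠ 1) [H.Normal]
    (htop : H ⊔ zpowers x = ⊤) [Group.IsSolvable H]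
    (hcop : (Nat.card H).Coprime p) (hgen : ⁅H, zpowers x⁆ = H) (hH : ¬ IsPGroup r H)
    [V.Normal] (hVH : V ≤ H) (hVr : Cfsg.IsElementaryAbelian r V)
    (hmin : ∀ W : Subgroup G, W.Normal → W ≤ V → W = ⊥ ∨ W = V)
    (hnc : ¬ V ≤ centralizer (H : Set G))
    (sub : ∀ K ≤ H, K ≠ H → x ∈ normalizer (K : Set G) → Claim x K) :
    V ⊓ centralizer ({x} : Set G) ≤ fixGen x H := by
  classical
  have hxH : x ∈ normalizer (H : Set G) := by rw [normalizer_eq_top]; exact mem_top x
  have hnormal : ∀ K : Subgroup G, H ≤ normalizer (K : Set G) → x ∈ normalizer (K : Set G) → K.Normal :=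
    fun K h1 h2 => normalizer_eq_top_iff.1 (eq_top_iff.2 (htop ▸ sup_le h1 (zpowers_le.2 h2)))
  have hxV : x ∈ normalizer (V : Set G) := by rw [normalizer_eq_top]; exact mem_top x
  have hVn : ∀ (g : G), ∀ v ∈ V, g * v * g⁻¹ ∈ V := fun g v hv => Normal.conj_mem ‹_› v hv g
  have hcz : ∀ K ≤ H, (Nat.card (zpowers x)).Coprime (Nat.card K) := fun K hK =>
    commutator_coprime_card hxp hcop hK
  have hVab : ∀ a ∈ V, ∀ b ∈ V, Commute a b := fun a ha b hb =>
    congrArg Subtype.val (hVr.1.is_comm.comm (⟨a, ha⟩ : V) ⟨b, hb⟩)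
  set L := fixGen x H with hL
  have hLC : L ≤ H ⊓ centralizer ({x} : Set G) := fixGen_le hxH
  set CV := V ⊓ centralizer ({x} : Set G) with hCV
  -- the norm map
  letI : CommGroup V := { (inferInstance : Group V) with
    mul_comm := fun a b => Subtype.ext (hVab a a.2 b b.2).eq }
  let nm : V →* V :=
    { toFun := fun v => ∏ i ∈ Finset.range p, MulAut.conjNormal (H := V) (x ^ i) v
      map_one' := by simp
      map_mul' := fun a b => by simp [Finset.prod_mul_distrib] }
  have hnm_fix : ∀ v : V, (nm v : G) ∈ centralizer ({x} : Set G) := by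
    intro v
    have h : MulAut.conjNormal (H := V) x (nm v) = nm v := by
      show MulAut.conjNormal (H := V) x (∏ i ∈ Finset.range p, MulAut.conjNormal (H := V) (x ^ i) v) = _
      rw [map_prod]
      have e : ∀ i, MulAut.conjNormal (H := V) x (MulAut.conjNormal (H := V) (x ^ i) v) =
          MulAut.conjNormal (H := V) (x ^ (i + 1)) v := fun i => by
        rw [pow_succ', map_mul]; rfl
      simp only [e]
      have h1 := Finset.prod_range_succ (fun i => MulAut.conjNormal (H := V) (x ^ i) v) p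
      have h2 := Finset.prod_range_succ' (fun i => MulAut.conjNormal (H := V) (x ^ i) v) p
      rw [h1] at h2
      simp only [hxp, pow_zero] at h2
      exact (mul_right_cancel h2).symm
    refine mem_centralizer_singleton_iff.2 ?_
    have h' := congrArg Subtype.val h
    rw [MulAut.conjNormal_apply, mul_inv_eq_iff_eq_mul] at h'
    exact h'.symm
  have hnm_C : ∀ c (hc : c ∈ CV), (nm ⟨c, hc.1⟩ : G) = c ^ p := by
    intro c hc
    have e : ∀ i, MulAut.conjNormal (H := V) (x ^ i) (⟨c, hc.1⟩ : V) = ⟨c, hc.1⟩ := fun i => Subtype.ext (by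
      rw [MulAut.conjNormal_apply]
      show x ^ i * c * (x ^ i)⁻¹ = c
      rw [← ((show Commute c x from mem_centralizer_singleton_iff.1 hc.2).pow_right i).eq]; group)
    show ((∏ i ∈ Finset.range p, MulAut.conjNormal (H := V) (x ^ i) ⟨c, hc.1⟩ : V) : G) = _
    simp only [e, Finset.prod_const, Finset.card_range, SubgroupClass.coe_pow]
  let Pre : Subgroup G := (Subgroup.comap nm (L.subgroupOf V)).map V.subtype
  have hPre : ∀ v (hv : v ∈ V), (nm ⟨v, hv⟩ : G) ∈ L → v ∈ Pre := fun v hv h => ⟨⟨v, hv⟩, h, rfl⟩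
  have hfinish : V ≤ Pre → CV ≤ L := by
    intro hle c hc
    obtain ⟨⟨c', hc'⟩, h1, e⟩ := hle hc.1
    have e' : c' = c := e
    subst e'
    have h2 : (nm ⟨c', hc.1⟩ : G) ∈ L := h1
    rw [hnm_C c' hc] at h2
    have hd := Subgroup.orderOf_dvd_natCard H (hVH hc.1)
    obtain ⟨m, hm⟩ := exists_pow_eq_self_of_coprime ((hcop.coprime_dvd_left hd).symm)
    rw [← hm]
    exact pow_mem h2 m
  -- commutators with small invariant subgroups
  have hsmall : ∀ B : Subgroup G, B ≤ H → x ∈ normalizer (B : Set G) → B ≤ ⁅B, zpowers x⁆ → V ⊔ B ≠ H →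
      ⁅V, B⁆ ≤ Pre := by
    intro B hBH hxB hBP hne u hu
    have huV : u ∈ V := commutator_le_left V B hu
    set E := V ⊔ B
    have hxE : x ∈ normalizer (E : Set G) := by
      refine mem_normalizer_of_conj_le fun e he => ?_
      have hle : E.map (MulAut.conj x).toMonoidHom ≤ E := by
        rw [Subgroup.map_sup]
        refine sup_le_sup ?_ ?_
        · rintro _ ⟨v, hv, rfl⟩; exact hVn x v hv
        · rintro _ ⟨b, hb, rfl⟩; exact (mem_normalizer_iff.1 hxB b).1 hb
      exact hle (mem_map_of_mem _ he)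
    have hBE : B ≤ ⁅E, zpowers x⁆ := hBP.trans (commutator_mono le_sup_right le_rfl)
    have huE : ⁅V, B⁆ ≤ ⁅E, zpowers x⁆ := by
      rw [commutator_le]
      intro v hv b hb
      rw [commutatorElement_def]
      exact Subgroup.mul_mem _ ((mem_normalizer_iff.1 (le_normalizer_commutator_left E _ (mem_sup_left hv)) b).1 (hBE hb))
        (Subgroup.inv_mem _ (hBE hb))
    refine hPre u huV ?_
    refine fixGen_mono (sup_le hVH hBH) (sub E (sup_le hVH hBH) hne hxE ⟨?_, hnm_fix _⟩)
    show ((∏ i ∈ Finset.range p, MulAut.conjNormal (H := V) (x ^ i) ⟨u, huV⟩ : V) : G) ∈ ⁅E, zpowers x⁆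
    refine Finset.prod_induction (fun i => MulAut.conjNormal (H := V) (x ^ i) (⟨u, huV⟩ : V))
      (fun w : V => (w : G) ∈ ⁅E, zpowers x⁆) (fun a b ha hb => Subgroup.mul_mem _ ha hb) (one_mem _) fun i _ => ?_
    rw [MulAut.conjNormal_apply]
    exact (mem_normalizer_iff.1 (le_normalizer_commutator_right E _ (pow_mem (mem_zpowers x) i)) u).1 (huE hu)
  -- the generating family
  let Fam : Set (Subgroup G) := {B | ∃ j q, Nat.Prime q ∧ j ∈ H ∧ B = brk x j ∧ IsPGroup q B ∧ j ∈ B}
  set T := sSup Fam with hT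
  have hFamH : ∀ B ∈ Fam, B ≤ H := by
    rintro _ ⟨j, q, -, hj, rfl, -, -⟩; exact brk_le hxH hj
  have hTH : T = H := by
    refine le_antisymm (sSup_le hFamH) ?_
    have hxT : zpowers x ≤ normalizer (T : Set G) := by
      refine zpowers_le_normalizer fun k hk => ?_
      have hle : T.map (MulAut.conj x).toMonoidHom ≤ T := by
        rw [hT, (gc_map_comap (MulAut.conj x).toMonoidHom).l_sSup, iSup₂_le_iff]
        intro B hB
        refine le_trans ?_ (le_sSup hB)
        obtain ⟨j, q, -, hj, rfl, -, -⟩ := hB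
        rintro _ ⟨k, hk, rfl⟩
        exact (mem_normalizer_iff.1 (zpowers_le_normalizer_brk x j (mem_zpowers x)) k).1 hk
      exact hle (mem_map_of_mem _ hk)
    set CH := H ⊓ centralizer ({x} : Set G)
    have hCT : CH ≤ normalizer (T : Set G) := by
      refine le_normalizer_of_conj fun c hc k hk => ?_
      have hle : T.map (MulAut.conj c).toMonoidHom ≤ T := by
        rw [hT, (gc_map_comap (MulAut.conj c).toMonoidHom).l_sSup, iSup₂_le_iff]
        rintro B ⟨j, q, hq, hj, rfl, hBq, hjB⟩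
        refine le_sSup ⟨c * j * c⁻¹, q, hq, Subgroup.mul_mem _ (Subgroup.mul_mem _ hc.1 hj) (Subgroup.inv_mem _ hc.1), map_conj_brk j hc.2,
          hBq.map _, ?_⟩
        exact mem_map_of_mem (MulAut.conj c).toMonoidHom hjB
      exact hle (mem_map_of_mem _ hk)
    have hTC : H ≤ T ⊔ CH := by
      have key : ∀ q : ℕ, q.Prime → ∃ Q : Sylow q H, (Q : Subgroup H).map H.subtype ≤ T ⊔ CH := by
        intro q hq
        haveI := Fact.mk hq
        obtain ⟨Q, hQ⟩ := exists_invariant_sylow (A := zpowers x) (K := H) (zpowers_le.2 hxH) (hcz H le_rfl)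
          (Or.inl inferInstance) q
        refine ⟨Q, ?_⟩
        set Q' := (Q : Subgroup H).map H.subtype
        have hQH : Q' ≤ H := map_subtype_le _
        have hxQ : x ∈ normalizer (Q' : Set G) := hQ (mem_zpowers x)
        rw [← commutator_sup_centralizer (A := zpowers x) (K := Q') hQ (hcz Q' hQH) (Or.inl inferInstance),
          centralizer_zpowers_eq]
        refine sup_le_sup ?_ (inf_le_inf_right _ hQH)
        rw [commutator_zpowers_eq hxQ]
        refine iSup_le fun g => ?_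
        obtain ⟨j, hj, e, hjB⟩ := exists_mem_brk_eq hxQ (hcz Q' hQH) g.2
        rw [← e]
        exact le_sSup ⟨j, q, hq, hQH hj, rfl,
          (Q.isPGroup'.map H.subtype).to_le (brk_le hxQ hj), hjB⟩
      refine subgroupOf_eq_top.1 (Subgroup.eq_top_of_le_card _ (Nat.le_of_dvd Nat.card_pos ?_))
      rw [Nat.dvd_iff_prime_pow_dvd_dvd]
      intro q k hq hk
      haveI := Fact.mk hq
      obtain ⟨Q, hQ⟩ := key q hq
      exact (Q.pow_dvd_card_of_pow_dvd_card hk).trans (card_dvd_of_le fun a ha => hQ (mem_map_of_mem H.subtype ha))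
    conv_lhs => rw [← hgen]
    rw [commutator_le]
    intro h hh a ha
    obtain ⟨t, ht, c, hc, rfl⟩ := (mem_sup_of_le_normalizer hCT).1 (hTC hh)
    have hca : c * a * c⁻¹ = a := by rw [← (mem_centralizer_zpowers.2 hc.2) a ha]; group
    rw [show ⁅t * c, a⁆ = t * (c * a * c⁻¹) * t⁻¹ * a⁻¹ by rw [commutatorElement_def]; group, hca,
      show t * a * t⁻¹ * a⁻¹ = t * (a * t⁻¹ * a⁻¹) by group]
    exact Subgroup.mul_mem _ ht ((mem_normalizer_iff.1 (hxT ha) _).1 (Subgroup.inv_mem _ ht))
  by_cases hall : ∀ B ∈ Fam, V ⊔ B ≠ H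
  · -- `V = [V, H]` comes from small subgroups
    refine hfinish ?_
    set S := ⨆ B : Fam, ⁅V, (B : Subgroup G)⁆ with hS
    have hSV : S ≤ V := iSup_le fun B => commutator_le_left V _
    have hSPre : S ≤ Pre := iSup_le fun B => by
      obtain ⟨j, q, hq, hj, hB, hBq, hjB⟩ := B.2
      refine hsmall _ (hFamH _ B.2) ?_ ?_ (hall _ B.2)
      · rw [hB]; exact zpowers_le_normalizer_brk x j (mem_zpowers x)
      · have hxB : x ∈ normalizer (((B : Subgroup G)) : Set G) := by
          rw [hB]; exact zpowers_le_normalizer_brk x j (mem_zpowers x)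
        rw [commutator_zpowers_eq hxB]
        exact le_trans (le_of_eq hB) (le_iSup (fun h : (B : Subgroup G) => brk x (h : G)) ⟨j, hjB⟩)
    refine le_trans ?_ hSPre
    have hVH1 : ⁅V, H⁆ = V := (hmin _ (commutator_normal V H) (commutator_le_left V H)).resolve_left
      fun h => hnc (commutator_eq_bot_iff_le_centralizer.1 h)
    let M : Submonoid G :=
      { carrier := {g | ∀ v ∈ V, ⁅v, g⁆ ∈ S}
        one_mem' := fun v _ => by rw [commutatorElement_one_right]; exact one_mem _
        mul_mem' := fun {a b} ha hb v hv => by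
          have hs := hb v hv
          have h1 : a * ⁅v, b⁆ * a⁻¹ = ⁅⁅v, b⁆, a⁆⁻¹ * ⁅v, b⁆ := by
            simp only [commutatorElement_def]; group
          have e : ⁅v, a * b⁆ = ⁅v, a⁆ * (a * ⁅v, b⁆ * a⁻¹) := by
            simp only [commutatorElement_def]; group
          rw [e, h1]
          exact Subgroup.mul_mem _ (ha v hv) (Subgroup.mul_mem _ (Subgroup.inv_mem _ (ha _ (hSV hs))) hs) }
    let M' : Subgroup G :=
      { M with
        inv_mem' := fun {a} ha => by
          have : a⁻¹ = a ^ (orderOf a - 1) := inv_eq_of_mul_eq_one_right (by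
            rw [← pow_succ', show orderOf a - 1 + 1 = orderOf a by have := orderOf_pos a; omega, pow_orderOf_eq_one])
          show a⁻¹ ∈ M
          rw [this]
          exact pow_mem ha _ }
    have hHM : H ≤ M' := by
      rw [← hTH, hT]
      exact sSup_le fun B hB b hb v hv =>
        le_iSup (fun B : Fam => ⁅V, (B : Subgroup G)⁆) ⟨B, hB⟩ (commutator_mem_commutator hv hb)
    calc V = ⁅V, H⁆ := hVH1.symm
      _ ≤ S := commutator_le.2 fun v hv g hg => hHM hg v hv
  -- `H = V B`
  push Not at hall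
  obtain ⟨B, ⟨j, q, hq, hjH, hBdef, hBq, hjB⟩, hVB⟩ := hall
  haveI := Fact.mk hq
  have hBH : B ≤ H := hBdef ▸ brk_le hxH hjH
  have hxB : zpowers x ≤ normalizer (B : Set G) := hBdef ▸ zpowers_le_normalizer_brk x j
  have hBN : ∀ K : Subgroup G, B ≤ normalizer (K : Set G) → V ≤ normalizer (K : Set G) →
      x ∈ normalizer (K : Set G) → K.Normal := fun K h1 h2 h3 => hnormal K (hVB ▸ sup_le h2 h1) h3
  have hVp : IsPGroup r V := fun v => ⟨1, Subtype.ext (by rw [pow_one]; exact hVr.2 v v.2)⟩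
  have hqr : q ≠ r := fun h => hH (by
    rw [← hVB]; exact hVp.to_sup_of_normal_left (h ▸ hBq))
  have hVBcop : (Nat.card B).Coprime (Nat.card V) := by
    obtain ⟨a, ha⟩ := IsPGroup.iff_card.1 hBq
    obtain ⟨b, hb⟩ := IsPGroup.iff_card.1 hVp
    rw [ha, hb]; exact Nat.Coprime.pow a b ((Nat.coprime_primes hq (Fact.out : r.Prime)).2 hqr)
  have hdis : ∀ g ∈ B, g ∈ V → g = 1 := fun g => disjoint_def.1 (disjoint_of_coprime_natCard hVBcop)
  have hBne : B ≠ H := fun h => hnc (by
    intro v hv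
    have : v = 1 := hdis v (h.symm ▸ hVH hv) hv
    subst this; exact one_mem _)
  have hBP : B ≤ ⁅B, zpowers x⁆ := by
    rw [commutator_zpowers_eq (hxB (mem_zpowers x))]
    exact le_trans (le_of_eq hBdef) (le_iSup (fun h : B => brk x (h : G)) ⟨j, hjB⟩)
  have hCBL : B ⊓ centralizer ({x} : Set G) ≤ L := fun c hc =>
    fixGen_mono hBH (sub B hBH hBne (hxB (mem_zpowers x)) ⟨hBP hc.1, hc.2⟩)
  -- the kernel
  set K₀ := B ⊓ centralizer (V : Set G) with hK₀
  haveI hCVn : (centralizer (V : Set G)).Normal := inferInstance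
  have hxK₀ : x ∈ normalizer (K₀ : Set G) := mem_normalizer_of_conj_le fun k hk =>
    ⟨(mem_normalizer_iff.1 (hxB (mem_zpowers x)) k).1 hk.1, hCVn.conj_mem k hk.2 x⟩
  haveI hK₀n : K₀.Normal := by
    refine hBN K₀ (le_normalizer_of_conj fun b hb k hk =>
      ⟨Subgroup.mul_mem _ (Subgroup.mul_mem _ hb hk.1) (Subgroup.inv_mem _ hb), hCVn.conj_mem k hk.2 b⟩)
      (le_normalizer_of_conj fun v hv k hk => ?_) hxK₀
    rw [mem_centralizer_iff.1 hk.2 v hv, mul_assoc, mul_inv_cancel, mul_one]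
    exact hk
  have hVK₀ : ∀ g ∈ V, g ∈ K₀ → g = 1 := fun g h1 h2 => hdis g h2.1 h1
  have hBK₀ : ¬ B ≤ K₀ := fun h => hnc (fun v hv g hg => by
    have hle : H ≤ centralizer ({v} : Set G) := by
      rw [← hVB]
      exact sup_le (fun w hw => mem_centralizer_singleton_iff.2 (hVab w hw v hv).eq)
        (fun b hb => mem_centralizer_singleton_iff.2 ((h hb).2 v hv).symm)
    exact mem_centralizer_singleton_iff.1 (hle hg))
  -- case A
  by_cases hA : ∃ z ∈ B ⊓ centralizer ({x} : Set G), z ∉ K₀ ∧ ∀ b ∈ B, ⁅z, b⁆ ∈ K₀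
  · obtain ⟨z, hz, hzK, hzb⟩ := hA
    have hVz : V ⊓ centralizer ({z} : Set G) = ⊥ := by
      refine (hmin _ ?_ inf_le_left).resolve_right fun h => hzK ⟨hz.1, fun v hv => ?_⟩
      · refine hBN _ (le_normalizer_of_conj fun b hb v hv => ⟨hVn b v hv.1, ?_⟩)
          (le_normalizer_of_conj fun w hw v hv => ?_) (mem_normalizer_of_conj_le fun v hv => ⟨hVn x v hv.1, ?_⟩)
        · -- `z b = k b z`
          refine mem_centralizer_singleton_iff.2 ?_
          have hk := hzb b hb
          have hv' : Commute v z := mem_centralizer_singleton_iff.1 hv.2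
          have hkw : ⁅z, b⁆ * (b * v * b⁻¹) = (b * v * b⁻¹) * ⁅z, b⁆ :=
            ((mem_centralizer_iff.1 hk.2) _ (hVn b v hv.1)).symm
          calc b * v * b⁻¹ * z = (b * v * b⁻¹) * ⁅z, b⁆ * (⁅z, b⁆⁻¹ * z) := by group
            _ = ⁅z, b⁆ * (b * v * b⁻¹) * (⁅z, b⁆⁻¹ * z) := by rw [hkw]
            _ = z * b * z⁻¹ * (v * z) * b⁻¹ := by rw [commutatorElement_def]; group
            _ = z * b * z⁻¹ * (z * v) * b⁻¹ := by rw [hv'.eq]
            _ = z * (b * v * b⁻¹) := by group
        · rw [(hVab w hw v hv.1).eq, mul_assoc, mul_inv_cancel, mul_one]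
          exact hv
        · refine mem_centralizer_singleton_iff.2 ?_
          have h1 : Commute z x := mem_centralizer_singleton_iff.1 hz.2
          have hv' : Commute v z := mem_centralizer_singleton_iff.1 hv.2
          exact ((h1.symm.mul_left hv').mul_left h1.symm.inv_left).eq
      · have hv' : v ∈ V ⊓ centralizer ({z} : Set G) := h.symm ▸ hv
        exact mem_centralizer_singleton_iff.1 hv'.2
    have hzL : z ∈ L := hCBL hz
    have hzC : ∀ u ∈ CV, z * u⁻¹ * z⁻¹ ∈ CV := fun u hu => ⟨hVn z _ (Subgroup.inv_mem _ hu.1),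
      Subgroup.mul_mem _ (Subgroup.mul_mem _ hz.2 (Subgroup.inv_mem _ hu.2)) (Subgroup.inv_mem _ hz.2)⟩
    let ψ : CV → CV := fun u => ⟨(u : G) * (z * (u : G)⁻¹ * z⁻¹), Subgroup.mul_mem _ u.2 (hzC u u.2)⟩
    have hψ : Function.Injective ψ := by
      rintro ⟨a, ha⟩ ⟨b, hb⟩ h
      have h' : a * (z * a⁻¹ * z⁻¹) = b * (z * b⁻¹ * z⁻¹) := congrArg Subtype.val h
      have hmem : b⁻¹ * a ∈ V ⊓ centralizer ({z} : Set G) := by
        refine ⟨Subgroup.mul_mem _ (Subgroup.inv_mem _ hb.1) ha.1, mem_centralizer_singleton_iff.2 ?_⟩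
        calc b⁻¹ * a * z = b⁻¹ * (a * (z * a⁻¹ * z⁻¹)) * (z * a) := by group
          _ = b⁻¹ * (b * (z * b⁻¹ * z⁻¹)) * (z * a) := by rw [h']
          _ = z * (b⁻¹ * a) := by group
      rw [hVz, mem_bot, inv_mul_eq_one] at hmem
      exact Subtype.ext hmem.symm
    intro c hc
    obtain ⟨u, hu⟩ := (Finite.injective_iff_surjective.1 hψ) ⟨c, hc⟩
    have hu' : (u : G) * (z * (u : G)⁻¹ * z⁻¹) = c := congrArg Subtype.val hu
    rw [← hu', show (u : G) * (z * (u : G)⁻¹ * z⁻¹) = ((u : G) * z * (u : G)⁻¹) * z⁻¹ by group]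
    exact Subgroup.mul_mem _ (conj_mem_fixGen (hVH u.2.1) u.2.2 hzL) (Subgroup.inv_mem _ hzL)
  push Not at hA
  by_cases hBab : ∀ a ∈ B, ∀ b ∈ B, ⁅a, b⁆ ∈ K₀
  · -- case B: a Frobenius group
    have hCB : ∀ c ∈ B, c ∈ centralizer ({x} : Set G) → c ∈ K₀ := by
      intro c hc hcx
      by_contra h
      obtain ⟨b, hb, hb'⟩ := hA c ⟨hc, hcx⟩ h
      exact hb' (hBab c hc b hb)
    by_cases hnon : ∃ v ∈ V, brk x (j * v) ⊓ V ≠ ⊥
    · -- some `[j v, P]` contains `V`
      obtain ⟨v, hv, hJ⟩ := hnon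
      set J := brk x (j * v) with hJdef
      have hJH : J ≤ H := brk_le hxH (Subgroup.mul_mem _ hjH (hVH hv))
      have hxJ : x ∈ normalizer (J : Set G) := zpowers_le_normalizer_brk x _ (mem_zpowers x)
      have hJV : H ≤ J ⊔ V := by
        rw [← hVB]
        refine sup_le le_sup_right ?_
        rw [hBdef, brk, closure_le]
        rintro _ ⟨i, rfl⟩
        have hg := gen_mem_brk x (j * v) i
        set w := x ^ i * v * (x ^ i)⁻¹
        have hw : w ∈ V := hVn (x ^ i) v hv
        have e : j⁻¹ * (x ^ i * j * (x ^ i)⁻¹) =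
            v * ((j * v)⁻¹ * (x ^ i * (j * v) * (x ^ i)⁻¹)) * w⁻¹ := by
          show _ = v * _ * (x ^ i * v * (x ^ i)⁻¹)⁻¹
          group
        show j⁻¹ * (x ^ i * j * (x ^ i)⁻¹) ∈ J ⊔ V
        rw [e]
        exact Subgroup.mul_mem _ (Subgroup.mul_mem _ (mem_sup_right hv) (mem_sup_left hg)) (mem_sup_right (Subgroup.inv_mem _ hw))
      have hn : (J ⊓ V).Normal := by
        refine hnormal _ (hJV.trans (sup_le ?_ ?_)) (mem_normalizer_of_conj_le fun y hy =>
          ⟨(mem_normalizer_iff.1 hxJ y).1 hy.1, hVn x y hy.2⟩)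
        · exact le_normalizer_of_conj fun a ha y hy => ⟨Subgroup.mul_mem _ (Subgroup.mul_mem _ ha hy.1) (Subgroup.inv_mem _ ha), hVn a y hy.2⟩
        · refine le_normalizer_of_conj fun w hw y hy => ?_
          rw [(hVab w hw y hy.2).eq, mul_assoc, mul_inv_cancel, mul_one]
          exact hy
      have hVJ : V ≤ J := by
        rw [← (hmin _ hn inf_le_right).resolve_left hJ]; exact inf_le_left
      exact fun c hc => mem_fixGen (Subgroup.mul_mem _ hjH (hVH hv)) (hVJ hc.1) hc.2
    push Not at hnon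
    -- counting
    have hcount : Nat.card V ≤ Nat.card CV * Nat.card CV := by
      rw [← Nat.card_prod]
      refine Nat.card_le_card_of_surjective (fun au : CV × CV => (⟨j⁻¹ * (au.1 : G) * j * (au.2 : G)⁻¹,
        Subgroup.mul_mem _ (by simpa using hVn j⁻¹ _ au.1.2.1) (Subgroup.inv_mem _ au.2.2.1)⟩ : V)) ?_
      rintro ⟨v, hv⟩
      set g := j * v with hg
      set J := brk x g with hJdef
      have hgH : g ∈ H := Subgroup.mul_mem _ hjH (hVH hv)
      have hJH : J ≤ H := brk_le hxH hgH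
      -- `J` and `B` are conjugate by a fixed element
      set f := QuotientGroup.mk' V
      have hfJ : J.map f = B.map f := by
        rw [hJdef, hBdef, map_brk, map_brk]
        have : f g = f j := by
          rw [hg, map_mul]
          have : f v = 1 := (QuotientGroup.eq_one_iff v).2 hv
          rw [this, mul_one]
        rw [this]
      have hinjcard : ∀ K : Subgroup G, K ⊓ V = ⊥ → Nat.card (K.map f) = Nat.card K := fun K hK =>
        (Nat.card_congr (Equiv.ofBijective (f.subgroupMap K) ⟨fun a b h => by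
          have h1 : (a : G)⁻¹ * b ∈ K ⊓ V := ⟨Subgroup.mul_mem _ (Subgroup.inv_mem _ a.2) b.2,
            QuotientGroup.eq.1 (congrArg Subtype.val h)⟩
          rw [hK, mem_bot, inv_mul_eq_one] at h1
          exact Subtype.ext h1, f.subgroupMap_surjective K⟩)).symm
      have hcardJ : Nat.card J = Nat.card B := by
        rw [← hinjcard J (hnon v hv), hfJ, hinjcard B (eq_bot_iff.2 fun g hg => mem_bot.2 (hdis g hg.1 hg.2))]
      obtain ⟨a, ha⟩ := IsPGroup.iff_card.1 hBq
      have hsyl : ∀ K ≤ H, Nat.card K = q ^ a → IsPGroup q K ∧ ¬ q ∣ (K.subgroupOf H).index := by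
        intro K hK hKc
        refine ⟨IsPGroup.of_card hKc, ?_⟩
        have h1 := (K.subgroupOf H).card_mul_index
        rw [Nat.card_congr (subgroupOfEquivOfLe hK).toEquiv, hKc] at h1
        have hcardH : Nat.card H = q ^ a * Nat.card V := by
          rw [← card_mul_index (V.subgroupOf H), Nat.card_congr (subgroupOfEquivOfLe hVH).toEquiv]
          rw [mul_comm]
          congr 1
          have : V.relIndex H = V.relIndex B := by
            rw [← relIndex_sup_of_le_normalizer (show B ≤ normalizer (V : Set G) by rw [normalizer_eq_top]; exact le_top), hVB]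
          show V.relIndex H = _
          rw [this, ← ha]
          have h2 := card_inf_mul_relIndex V B
          rwa [show V ⊓ B = ⊥ from eq_bot_iff.2 fun g hg => mem_bot.2 (hdis g hg.2 hg.1), card_bot, one_mul] at h2
        rw [hcardH] at h1
        have h3 := Nat.eq_of_mul_eq_mul_left (pow_pos hq.pos a) h1
        rw [h3]
        obtain ⟨b, hb⟩ := IsPGroup.iff_card.1 hVp
        rw [hb]
        exact fun h => hqr ((Nat.prime_dvd_prime_iff_eq hq (Fact.out : r.Prime)).1 (hq.dvd_of_dvd_pow h))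
      obtain ⟨hJp, hJi⟩ := hsyl J hJH (hcardJ.trans ha)
      obtain ⟨-, hBi⟩ := hsyl B hBH ha
      let PJ : Sylow q H := (hJp.of_equiv (subgroupOfEquivOfLe hJH).symm).toSylow hJi
      let PB : Sylow q H := (hBq.of_equiv (subgroupOfEquivOfLe hBH).symm).toSylow hBi
      have hPJ : (PJ : Subgroup H).map H.subtype = J := map_subgroupOf_eq_of_le hJH
      have hPB : (PB : Subgroup H).map H.subtype = B := map_subgroupOf_eq_of_le hBH
      obtain ⟨c, hc, hcPB⟩ := exists_invariant_sylow_conj (A := zpowers x) (K := H) (zpowers_le.2 hxH)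
        (hcz H le_rfl) (Or.inl inferInstance) PB PJ (by rw [hPB]; exact hxB)
        (by rw [hPJ]; exact zpowers_le_normalizer_brk x g)
      have hcJ : ∀ y ∈ J, (c : G)⁻¹ * y * c ∈ B := by
        intro y hy
        rw [← hPJ, ← hcPB] at hy
        obtain ⟨y', hy', rfl⟩ := hy
        change y' ∈ MulAut.conj c • (PB : Subgroup H) at hy'
        rw [Subgroup.mem_pointwise_smul_iff_inv_smul_mem] at hy'
        rw [← hPB]
        refine ⟨_, hy', ?_⟩
        simp [MulAut.inv_apply, MulAut.conj_symm_apply]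
      -- decompose the fixed elements
      have hdecomp : ∀ y ∈ H, y ∈ centralizer ({x} : Set G) → ∃ u ∈ CV, ∃ b ∈ B ⊓ centralizer ({x} : Set G), y = u * b := by
        intro y hy hyx
        rw [← hVB] at hy
        obtain ⟨a', ha', b', hb', rfl⟩ := (mem_sup_of_normal_left (s := V)).1 hy
        obtain ⟨u, hu, b, hb, e⟩ := centralizer_of_product (A := zpowers x) (K := H) (hcz H le_rfl)
          (Or.inl inferInstance) hVH (zpowers_le.2 hxV) hxB ha' hb' (mem_centralizer_zpowers.2 hyx)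
        exact ⟨u, ⟨hu.1, mem_centralizer_zpowers.1 hu.2⟩, b, ⟨hb.1, mem_centralizer_zpowers.1 hb.2⟩, e⟩
      obtain ⟨u₁, hu₁, b₁, hb₁, ec⟩ := hdecomp c c.2 (mem_centralizer_zpowers.1 hc)
      obtain ⟨d, hd, hgd⟩ := exists_fixed_mem_coset (A := zpowers x) (K := H) (D := J)
        (zpowers_le.2 hxH) hJH (zpowers_le_normalizer_brk x g) (hcz H le_rfl) (Or.inl inferInstance) hgH
        (fun a ha => by
          obtain ⟨i, rfl⟩ := mem_powers_iff_mem_zpowers.2 ha
          exact gen_mem_brk x g i)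
      obtain ⟨u₂, hu₂, b₂, hb₂, eg⟩ := hdecomp _ hgd.1 (mem_centralizer_zpowers.1 hgd.2)
      have he : u₁⁻¹ * d * u₁ ∈ B := by
        have h1 := hcJ d hd
        rw [ec] at h1
        have h2 := Subgroup.mul_mem _ (Subgroup.mul_mem _ hb₁.1 h1) (Subgroup.inv_mem _ hb₁.1)
        convert h2 using 1
        group
      set e := u₁⁻¹ * d * u₁ with hedef
      -- `j v = u' j u₁⁻¹`
      have hu' : u₂ * (b₂ * u₁ * b₂⁻¹) ∈ CV := Subgroup.mul_mem _ hu₂ ⟨hVn b₂ u₁ hu₁.1,
        Subgroup.mul_mem _ (Subgroup.mul_mem _ hb₂.2 hu₁.2) (Subgroup.inv_mem _ hb₂.2)⟩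
      set u' := u₂ * (b₂ * u₁ * b₂⁻¹) with hu'def
      have e1 : j * v = u' * (b₂ * e⁻¹) * u₁⁻¹ := by
        have : j * v = (g * d) * d⁻¹ := by rw [hg]; group
        rw [this, eg, hedef, hu'def]; group
      have e2 : b₂ * e⁻¹ = j := by
        have hb : b₂ * e⁻¹ ∈ B := Subgroup.mul_mem _ hb₂.1 (Subgroup.inv_mem _ he)
        have h1 : j⁻¹ * (b₂ * e⁻¹) ∈ V := by
          have : j⁻¹ * (b₂ * e⁻¹) = (j⁻¹ * u'⁻¹ * j⁻¹⁻¹) * v * u₁ := by
            calc j⁻¹ * (b₂ * e⁻¹) = j⁻¹ * u'⁻¹ * (u' * (b₂ * e⁻¹) * u₁⁻¹) * u₁ := by group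
              _ = j⁻¹ * u'⁻¹ * (j * v) * u₁ := by rw [e1]
              _ = _ := by group
          rw [this]
          exact Subgroup.mul_mem _ (Subgroup.mul_mem _ (hVn j⁻¹ _ (Subgroup.inv_mem _ hu'.1)) hv) hu₁.1
        exact (inv_mul_eq_one.1 (hdis _ (Subgroup.mul_mem _ (Subgroup.inv_mem _ hjB) hb) h1)).symm
      rw [e2] at e1
      refine ⟨(⟨u', hu'⟩, ⟨u₁, hu₁⟩), Subtype.ext ?_⟩
      show j⁻¹ * u' * j * u₁⁻¹ = v
      calc j⁻¹ * u' * j * u₁⁻¹ = j⁻¹ * (u' * j * u₁⁻¹) := by group
        _ = v := by rw [← e1]; group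
    -- the Frobenius module
    set f := QuotientGroup.mk' K₀ with hf
    have hxo : orderOf x = p := by haveI := Fact.mk hp; exact orderOf_eq_prime hxp hx1
    have hinjV : ∀ a ∈ V, ∀ b ∈ V, f a = f b → a = b := fun a ha b hb h =>
      inv_mul_eq_one.1 (hVK₀ _ (Subgroup.mul_mem _ (Subgroup.inv_mem _ ha) hb) (QuotientGroup.eq.1 h))
    have hnz : ∀ k : ℕ, ¬ p ∣ k → x ^ k ∉ K₀ := by
      intro k hk h
      have h1 : x ^ k = 1 := disjoint_def.1 (disjoint_of_coprime_natCard (hcz H le_rfl))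
        (pow_mem (mem_zpowers x) k) (hBH h.1)
      exact hk (hxo ▸ orderOf_dvd_of_pow_eq_one h1)
    have hxf1 : f x ≠ 1 := fun h => hnz 1 hp.not_dvd_one (by rw [pow_one]; exact (QuotientGroup.eq_one_iff x).1 h)
    have hfx : orderOf (f x) = p := by
      haveI := Fact.mk hp
      exact orderOf_eq_prime (by rw [← map_pow, hxp, map_one]) hxf1
    set R := (zpowers x).map f with hR
    have hRz : R = zpowers (f x) := MonoidHom.map_zpowers f x
    have hCBfix : ∀ b ∈ B, f x * f b = f b * f x → f b = 1 := by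
      intro b hb hc
      have hc' : Commute (f x) (f b) := hc
      obtain ⟨c, hc2, hcK⟩ := exists_fixed_of_fixed_mod (A := zpowers x) (K := B) (N := K₀) hxB (hcz B hBH)
        (Or.inl inferInstance) inf_le_left (by rw [normalizer_eq_top]; exact le_top)
        (by rw [normalizer_eq_top]; exact le_top) hb (fun a ha => (QuotientGroup.eq_one_iff _).1 (by
          obtain ⟨i, rfl⟩ := mem_powers_iff_mem_zpowers.2 ha
          show f (x ^ i * b * (x ^ i)⁻¹ * b⁻¹) = 1
          simp only [map_mul, map_inv, map_pow]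
          rw [(hc'.pow_left i).eq]; group))
      have hcK₀ := hCB c hc2.1 (mem_centralizer_zpowers.1 hc2.2)
      refine (QuotientGroup.eq_one_iff b).2 ?_
      have e : b = c * (b⁻¹ * c)⁻¹ := by group
      rw [e]; exact Subgroup.mul_mem _ hcK₀ (Subgroup.inv_mem _ hcK)
    have hVnf : ∀ A : Subgroup (G ⧸ K₀), A ≤ normalizer ((V.map f : Subgroup (G ⧸ K₀)) : Set (G ⧸ K₀)) := fun A => by
      haveI : (V.map f).Normal := Normal.map inferInstance f (QuotientGroup.mk'_surjective _)
      rw [normalizer_eq_top]; exact le_top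
    have hfrob := CfsgLib.Frobenius.frobenius_fixed_card (ℓ := r) (V := V.map f) (K := B.map f) (R := R)
      ⟨⟨fun a b => Subtype.ext (by
        obtain ⟨a', ha, ea⟩ := a.2
        obtain ⟨b', hb, eb⟩ := b.2
        show (a : G ⧸ K₀) * b = b * a
        rw [← ea, ← eb, ← map_mul, ← map_mul, (hVab a' ha b' hb).eq])⟩⟩
      (by rintro _ ⟨v, hv, rfl⟩; exact (map_pow f v r).symm.trans ((congrArg f (hVr.2 v hv)).trans (map_one f)))
      (hVnf _) (hVnf _) ((map_mono hxB).trans (le_normalizer_map f))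
      (fun h => hBK₀ fun b hb => (QuotientGroup.eq_one_iff b).1 (by
        show f b = 1
        rw [← mem_bot, ← h]; exact mem_map_of_mem f hb))
      (fun h => hxf1 (by rw [← mem_bot, ← h]; exact mem_map_of_mem f (mem_zpowers x)))
      (by
        refine disjoint_iff.1 (disjoint_of_coprime_natCard ?_)
        exact ((hcz B hBH).symm).of_dvd (card_map_dvd _ _) (card_map_dvd _ _))
      (by
        intro y hy hy1
        rw [eq_bot_iff]
        rintro _ ⟨⟨b, hb, rfl⟩, hc⟩
        rw [mem_bot]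
        refine hCBfix b hb ?_
        rw [hRz] at hy
        obtain ⟨k, rfl⟩ := mem_powers_iff_mem_zpowers.2 hy
        have hk : ¬ p ∣ k := by
          rintro ⟨m, rfl⟩
          apply hy1
          show f x ^ (p * m) = 1
          rw [pow_mul, ← hfx, pow_orderOf_eq_one, one_pow]
        obtain ⟨m, hm⟩ := exists_pow_eq_self_of_coprime
          (show k.Coprime (orderOf (f x)) by rw [hfx]; exact (hp.coprime_iff_not_dvd.2 hk).symm)
        have hc' : Commute (f b) (f x ^ k) := mem_centralizer_singleton_iff.1 hc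
        have := (hc'.pow_right m)
        rw [hm] at this
        exact this.eq.symm)
      (by
        intro hd
        rw [hR, ← Subgroup.map_sup] at hd
        have h1 := hd.trans (card_map_dvd _ _)
        have h2 : Nat.card ↥(B ⊔ zpowers x) ∣ Nat.card B * p := by
          rw [← card_mul_index (B.subgroupOf (B ⊔ zpowers x)),
            Nat.card_congr (subgroupOfEquivOfLe le_sup_left).toEquiv]
          refine mul_dvd_mul_left _ ?_
          show B.relIndex (B ⊔ zpowers x) ∣ p
          rw [relIndex_sup_of_le_normalizer hxB, ← hxo, ← Nat.card_zpowers]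
          exact relIndex_dvd_card _ _
        obtain ⟨a, ha⟩ := IsPGroup.iff_card.1 hBq
        rw [ha] at h2
        rcases (Fact.out : r.Prime).dvd_mul.1 (h1.trans h2) with h | h
        · exact hqr ((Nat.prime_dvd_prime_iff_eq (Fact.out : r.Prime) hq).1 ((Fact.out : r.Prime).dvd_of_dvd_pow h)).symm
        · obtain ⟨v, hv, hv1⟩ := (Subgroup.bot_or_exists_ne_one V).resolve_left (fun h => hnc (h ▸ bot_le))
          have hrp := (Nat.prime_dvd_prime_iff_eq (Fact.out : r.Prime) hp).1 h
          have := Nat.eq_one_of_dvd_coprimes hcop (Subgroup.orderOf_dvd_natCard H (hVH hv))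
            (by rw [← hrp]; exact orderOf_dvd_of_pow_eq_one (hVr.2 v hv))
          exact hv1 (orderOf_eq_one_iff.1 this))
    have hCB0 : (V.map f) ⊓ centralizer ((B.map f : Subgroup (G ⧸ K₀)) : Set (G ⧸ K₀)) = ⊥ := by
      rw [eq_bot_iff]
      rintro _ ⟨⟨v, hv, rfl⟩, hc⟩
      rw [mem_bot]
      have hvc : v ∈ V ⊓ centralizer (H : Set G) := by
        refine ⟨hv, ?_⟩
        have hle : H ≤ centralizer ({v} : Set G) := by
          rw [← hVB]
          refine sup_le (fun w hw => mem_centralizer_singleton_iff.2 (hVab w hw v hv).eq) fun b hb => ?_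
          refine mem_centralizer_singleton_iff.2 ?_
          have h1 : f (⁅b, v⁆) = 1 := by
            rw [map_commutatorElement, commutatorElement_eq_one_iff_mul_comm]
            exact hc (f b) (mem_map_of_mem f hb)
          have h2 : ⁅b, v⁆ ∈ V := by
            rw [commutatorElement_def]; exact Subgroup.mul_mem _ (hVn b v hv) (Subgroup.inv_mem _ hv)
          exact commutatorElement_eq_one_iff_mul_comm.1 (hVK₀ _ h2 ((QuotientGroup.eq_one_iff _).1 h1))
        exact fun h hh => mem_centralizer_singleton_iff.1 (hle hh)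
      have hnrm : (V ⊓ centralizer (H : Set G)).Normal := inferInstance
      rw [(hmin _ hnrm inf_le_left).resolve_right (fun h => hnc (h ▸ inf_le_right)), mem_bot] at hvc
      rw [hvc, map_one]
    have hCR : Nat.card ↥((V.map f) ⊓ centralizer ((R : Subgroup (G ⧸ K₀)) : Set (G ⧸ K₀))) = Nat.card CV := by
      have e : (V.map f) ⊓ centralizer ((R : Subgroup (G ⧸ K₀)) : Set (G ⧸ K₀)) = CV.map f := by
        refine le_antisymm ?_ ?_
        · rintro _ ⟨⟨v, hv, rfl⟩, hc⟩
          refine ⟨v, ⟨hv, mem_centralizer_singleton_iff.2 ?_⟩, rfl⟩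
          have h1 : f (x * v * x⁻¹) = f v := by
            rw [map_mul, map_mul, hc (f x) (mem_map_of_mem f (mem_zpowers x)), map_inv]; group
          have h2 := hinjV _ (hVn x v hv) _ hv h1
          exact (mul_inv_eq_iff_eq_mul.1 h2).symm
        · rintro _ ⟨c, hc, rfl⟩
          refine ⟨mem_map_of_mem f hc.1, ?_⟩
          rintro _ ⟨a, ha, rfl⟩
          rw [← map_mul, ← map_mul, (mem_centralizer_zpowers.2 hc.2) a ha]
      rw [e]
      exact (Nat.card_congr (Equiv.ofBijective (f.subgroupMap CV)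
        ⟨fun a b h => Subtype.ext (hinjV _ a.2.1 _ b.2.1 (congrArg Subtype.val h)),
          f.subgroupMap_surjective CV⟩)).symm
    have hVf : Nat.card (V.map f) = Nat.card V := (Nat.card_congr (Equiv.ofBijective (f.subgroupMap V)
      ⟨fun a b h => Subtype.ext (hinjV _ a.2 _ b.2 (congrArg Subtype.val h)), f.subgroupMap_surjective V⟩)).symm
    have hbot : (V.map f) ⊓ centralizer ((B.map f ⊔ R : Subgroup (G ⧸ K₀)) : Set (G ⧸ K₀)) = ⊥ :=
      eq_bot_iff.2 (le_trans (inf_le_inf_left _ (centralizer_le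
        (SetLike.coe_subset_coe.2 (le_sup_left : B.map f ≤ B.map f ⊔ R)))) hCB0.le)
    rw [hbot, card_bot, one_pow, one_mul, hCB0, card_bot, mul_one, hCR, hVf, hRz, Nat.card_zpowers, hfx] at hfrob
    have hCV1 : Nat.card CV ≤ 1 := by
      by_contra hlt
      push Not at hlt
      have h3 : 3 ≤ p := by have := hp.two_le; omega
      have h4 : Nat.card CV ^ 2 < Nat.card CV ^ p := Nat.pow_lt_pow_right hlt (by omega)
      rw [sq] at h4
      omega
    intro c hc
    have hbot' : CV = ⊥ := card_eq_one.1 (by have : 0 < Nat.card CV := Nat.card_pos; omega)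
    rw [hbot', mem_bot] at hc
    rw [hc]; exact one_mem _
  -- case C
  refine hfinish ?_
  push Not at hBab
  obtain ⟨a₀, ha₀, b₀, hb₀, hab₀⟩ := hBab
  haveI := hBq.isNilpotent
  set K₁ := K₀.subgroupOf B with hK₁
  haveI : K₁.Normal := inferInstance
  set Z := ((center (B ⧸ K₁)).comap (QuotientGroup.mk' K₁)).map B.subtype with hZdef
  have hZB : Z ≤ B := map_subtype_le _
  have hZcomm : ∀ z ∈ Z, ∀ b ∈ B, ⁅z, b⁆ ∈ K₀ := by
    rintro _ ⟨z', hz', rfl⟩ b hb
    have h1 : QuotientGroup.mk' K₁ ⁅z', (⟨b, hb⟩ : B)⁆ = 1 := by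
      rw [map_commutatorElement, commutatorElement_eq_one_iff_mul_comm]
      exact (mem_center_iff.1 hz' _).symm
    exact (QuotientGroup.eq_one_iff (N := K₁) _).1 h1
  have hZne : Z ≠ B := by
    intro h
    exact hab₀ (hZcomm a₀ (h.symm ▸ ha₀) b₀ hb₀)
  have hZmem : ∀ z ∈ B, (∀ b ∈ B, ⁅z, b⁆ ∈ K₀) → z ∈ Z := fun z hz h =>
    ⟨⟨z, hz⟩, mem_center_iff.2 (fun w => by
      obtain ⟨b, rfl⟩ := QuotientGroup.mk'_surjective K₁ w
      have h1 : QuotientGroup.mk' K₁ ⁅(⟨z, hz⟩ : B), b⁆ = 1 := (QuotientGroup.eq_one_iff _).2 (h b b.2)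
      rw [map_commutatorElement, commutatorElement_eq_one_iff_mul_comm] at h1
      exact h1.symm), rfl⟩
  have hxZ : x ∈ normalizer (Z : Set G) := mem_normalizer_of_conj_le fun z hz => by
    refine hZmem _ ((mem_normalizer_iff.1 (hxB (mem_zpowers x)) z).1 (hZB hz)) fun b hb => ?_
    have hb' : x⁻¹ * b * x ∈ B := by
      have := (mem_normalizer_iff.1 (Subgroup.inv_mem _ (hxB (mem_zpowers x))) b).1 hb
      simpa using this
    have := hK₀n.conj_mem _ (hZcomm z hz _ hb') x
    convert this using 1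
    simp only [commutatorElement_def]; group
  have hBZ : B ≤ normalizer (Z : Set G) := le_normalizer_of_conj fun b hb z hz => by
    refine hZmem _ (Subgroup.mul_mem _ (Subgroup.mul_mem _ hb (hZB hz)) (Subgroup.inv_mem _ hb)) fun c hc => ?_
    have := hK₀n.conj_mem _ (hZcomm z hz (b⁻¹ * c * b) (Subgroup.mul_mem _ (Subgroup.mul_mem _ (Subgroup.inv_mem _ hb) hc) hb)) b
    convert this using 1
    simp only [commutatorElement_def]; group
  have hzx : zpowers x ≤ normalizer (Z : Set G) := zpowers_le.2 hxZ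
  set B₁ := ⁅Z, zpowers x⁆ with hB₁
  have hB₁Z : B₁ ≤ Z := commutator_le_of_normalizes hzx
  have hxB₁ : x ∈ normalizer (B₁ : Set G) := le_normalizer_commutator_right Z _ (mem_zpowers x)
  have hcomm := commutator_commutator_eq (A := zpowers x) (K := Z) hzx (hcz Z (hZB.trans hBH)) (Or.inl inferInstance)
  have hne1 : V ⊔ B₁ ≠ H := by
    intro h
    refine hZne (le_antisymm hZB fun b hb => ?_)
    have hbH : b ∈ V ⊔ B₁ := by rw [h]; exact hBH hb
    obtain ⟨v, hv, b₁, hb₁, e⟩ := (mem_sup_of_normal_left (s := V)).1 hbH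
    have hvB : v ∈ B := by
      rw [show v = b * b₁⁻¹ by rw [← e]; group]
      exact Subgroup.mul_mem _ hb (Subgroup.inv_mem _ (hZB (hB₁Z hb₁)))
    rw [← e, hdis v hvB hv, one_mul]
    exact hB₁Z hb₁
  have hVB₁ := hsmall B₁ ((hB₁Z.trans hZB).trans hBH) hxB₁ hcomm.ge hne1
  refine le_trans ?_ hVB₁
  have hsplit := commutator_sup_centralizer (A := zpowers x) (K := Z) hzx (hcz Z (hZB.trans hBH)) (Or.inl inferInstance)
  rw [centralizer_zpowers_eq] at hsplit
  have hVZ : ⁅V, Z⁆ ≤ ⁅V, B₁⁆ := by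
    rw [commutator_le]
    intro v hv z hz
    obtain ⟨a, ha, c, hc, rfl⟩ := (mem_sup_of_le_normalizer
      (inf_le_left.trans (le_normalizer_commutator_left Z _))).1 (hsplit.ge hz)
    have hcK : c ∈ K₀ := by
      by_contra h
      obtain ⟨b, hb, hb'⟩ := hA c ⟨hZB hc.1, hc.2⟩ h
      exact hb' (hZcomm c hc.1 b hb)
    have hcv : Commute v c := mem_centralizer_iff.1 hcK.2 v hv
    have e : ⁅v, a * c⁆ = ⁅v, a⁆ * (a * ⁅v, c⁆ * a⁻¹) := by simp only [commutatorElement_def]; group
    rw [e, commutatorElement_eq_one_iff_mul_comm.2 hcv.eq, mul_one, mul_inv_cancel, mul_one]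
    exact commutator_mem_commutator hv ha
  refine le_trans (le_of_eq ?_) hVZ
  symm
  refine (hmin _ ?_ (commutator_le_left V Z)).resolve_left ?_
  · have hmap : ∀ g : G, g ∈ normalizer (Z : Set G) → ∀ k ∈ ⁅V, Z⁆, g * k * g⁻¹ ∈ ⁅V, Z⁆ := by
      intro g hg k hk
      have hle : ⁅V, Z⁆.map (MulAut.conj g).toMonoidHom ≤ ⁅V, Z⁆ := by
        rw [map_commutator]
        refine commutator_mono ?_ ?_
        · rintro _ ⟨v, hv, rfl⟩; exact hVn g v hv
        · rintro _ ⟨z, hz, rfl⟩; exact (mem_normalizer_iff.1 hg z).1 hz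
      exact hle (mem_map_of_mem _ hk)
    exact hBN _ (le_normalizer_of_conj fun b hb => hmap b (hBZ hb)) (le_normalizer_commutator_left V Z)
      (mem_normalizer_of_conj_le (hmap x hxZ))
  · intro h
    haveI : Nontrivial (B ⧸ K₁) := by
      refine not_subsingleton_iff_nontrivial.1 fun hs => hBK₀ fun b hb => ?_
      exact (QuotientGroup.eq_one_iff (⟨b, hb⟩ : B)).1 (@Subsingleton.elim _ hs _ _)
    obtain ⟨w, hw, hw1⟩ := (Subgroup.bot_or_exists_ne_one (center (B ⧸ K₁))).resolve_left
      (Group.IsNilpotent.center_ne_bot (B ⧸ K₁))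
    obtain ⟨z', rfl⟩ := QuotientGroup.mk'_surjective K₁ w
    refine hw1 ((QuotientGroup.eq_one_iff z').2 (show (z' : G) ∈ K₀ from ⟨z'.2, fun v hv => ?_⟩))
    have hz : (z' : G) ∈ Z := ⟨z', hw, rfl⟩
    have := commutator_eq_bot_iff_le_centralizer.1 h hv
    exact ((mem_centralizer_iff.1 this) _ hz).symm

end Main

section Aux

theorem claim_aux {p : ℕ} (hp : p.Prime) (hp2 : p ≠ 2) :
    ∀ (n : ℕ) (G : Type u) [Group G] [Finite G] (x : G) (H : Subgroup G) [H.Normal],
      x ^ p = 1 → H ⊔ zpowers x = ⊤ → Group.IsSolvable H → (Nat.card H).Coprime p → Nat.card H = n →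
      Claim x H := by
  intro n
  induction n using Nat.strong_induction_on with
  | _ n ih =>
  intro G _ _ x H _ hxp htop hsol hcop hn
  haveI := hsol
  classical
  have hxH : x ∈ normalizer (H : Set G) := by rw [normalizer_eq_top]; exact mem_top x
  by_cases hx1 : x = 1
  · unfold Claim
    rintro c ⟨hc, -⟩
    rw [hx1, zpowers_one_eq_bot, commutator_bot_right] at hc
    rw [(mem_bot.1 hc : c = 1)]; exact one_mem _
  have sub : ∀ K ≤ H, K ≠ H → x ∈ normalizer (K : Set G) → Claim x K := by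
    intro K hKH hne hxK
    set Y := K ⊔ zpowers x with hY
    have hxY : x ∈ Y := mem_sup_right (mem_zpowers x)
    have hKY : K ≤ Y := le_sup_left
    haveI : (K.subgroupOf Y).Normal :=
      normal_subgroupOf_of_le_normalizer (sup_le le_normalizer (zpowers_le.2 hxK))
    haveI : Group.IsSolvable K := Group.isSolvable_of_isSolvable_injective (f := inclusion hKH) (inclusion_injective hKH)
    have hcardK : Nat.card (K.subgroupOf Y) = Nat.card K := Nat.card_congr (subgroupOfEquivOfLe hKY).toEquiv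
    have hlt : Nat.card K < n := by
      rw [← hn]
      refine lt_of_le_of_ne (Nat.card_mono (Set.toFinite _) hKH) fun he => hne ?_
      exact eq_of_le_of_card_ge hKH he.ge
    have hz : (zpowers (⟨x, hxY⟩ : Y)).map Y.subtype = zpowers x := MonoidHom.map_zpowers _ _
    have htop' : K.subgroupOf Y ⊔ zpowers (⟨x, hxY⟩ : Y) = ⊤ := by
      refine map_injective Y.subtype_injective ?_
      rw [Subgroup.map_sup, map_subgroupOf_eq_of_le hKY, hz, ← MonoidHom.range_eq_map, range_subtype]
    have h := ih _ (hcardK ▸ hlt) Y ⟨x, hxY⟩ (K.subgroupOf Y) (Subtype.ext hxp) htop'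
      (Group.isSolvable_of_isSolvable_injective (f := (subgroupOfEquivOfLe hKY).toMonoidHom)
        (subgroupOfEquivOfLe hKY).injective)
      (by rw [hcardK]; exact hcop.coprime_dvd_left (card_dvd_of_le hKH)) rfl
    rintro c ⟨hc, hcx⟩
    have hc' : c ∈ ⁅K.subgroupOf Y, zpowers (⟨x, hxY⟩ : Y)⁆.map Y.subtype := by
      rw [map_commutator, map_subgroupOf_eq_of_le hKY, hz]; exact hc
    obtain ⟨c', hc1, rfl⟩ := hc'
    have h2 := h ⟨hc1, mem_centralizer_singleton_iff.2 (Subtype.ext (mem_centralizer_singleton_iff.1 hcx))⟩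
    have hle : (fixGen (⟨x, hxY⟩ : Y) (K.subgroupOf Y)).map Y.subtype ≤ fixGen x K := by
      rw [fixGen, Subgroup.map_iSup, iSup_le_iff]
      rintro k _ ⟨y, hy, rfl⟩
      have hy1 := mem_map_of_mem Y.subtype hy.1
      rw [map_brk] at hy1
      exact mem_fixGen (h := ((k : Y) : G)) k.2 hy1
        (mem_centralizer_singleton_iff.2 (congrArg Subtype.val (mem_centralizer_singleton_iff.1 hy.2)))
    exact hle (mem_map_of_mem Y.subtype h2)
  by_cases hgen : ⁅H, zpowers x⁆ = H
  swap
  · intro c hc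
    have h := sub _ (commutator_le_of_normalizes (zpowers_le.2 hxH)) hgen
      (le_normalizer_commutator_right H _ (mem_zpowers x))
    refine fixGen_mono (commutator_le_of_normalizes (zpowers_le.2 hxH)) (h ?_)
    rw [commutator_commutator_eq (zpowers_le.2 hxH) (commutator_coprime_card hxp hcop le_rfl) (Or.inl inferInstance)]
    exact hc
  rcases eq_or_ne H ⊥ with hbot | hbot
  · intro c hc
    have h1 : ⁅H, zpowers x⁆ = ⊥ := by rw [hgen, hbot]
    rw [h1] at hc
    rw [mem_bot.1 hc.1]; exact one_mem _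
  by_cases hpg : ∃ q : ℕ, q.Prime ∧ IsPGroup q H
  · obtain ⟨q, hq, hH⟩ := hpg
    haveI := Fact.mk hq
    exact claim_of_isPGroup hp hp2 hxp htop hcop hH hgen sub
  push Not at hpg
  -- a minimal normal subgroup
  obtain ⟨V, ⟨hVn, hVH, hV1⟩, hVmin⟩ := (Set.toFinite {V : Subgroup G | V.Normal ∧ V ≤ H ∧ V ≠ ⊥}).exists_minimal
    ⟨H, inferInstance, le_rfl, hbot⟩
  haveI := hVn
  haveI : Group.IsSolvable V := Group.isSolvable_of_isSolvable_injective (f := inclusion hVH) (inclusion_injective hVH)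
  have hmin : ∀ W : Subgroup G, W.Normal → W ≤ V → W = ⊥ ∨ W = V := by
    intro W hW hWV
    by_cases h : W = ⊥
    · exact Or.inl h
    · exact Or.inr (le_antisymm hWV (hVmin ⟨hW, hWV.trans hVH, h⟩ hWV))
  haveI : Nontrivial V := (nontrivial_iff_ne_bot V).2 hV1
  have hVV : ⁅V, V⁆ = ⊥ := by
    refine (hmin _ (commutator_normal V V) (commutator_le_self V)).resolve_right fun h => ?_
    apply (Group.IsSolvable.commutator_lt_top_of_nontrivial V).ne
    refine map_injective V.subtype_injective ?_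
    rw [map_subtype_commutator, h, ← MonoidHom.range_eq_map, range_subtype]
  have hVab : ∀ a ∈ V, ∀ b ∈ V, Commute a b := fun a ha b hb =>
    commutatorElement_eq_one_iff_mul_comm.1 (mem_bot.1 (hVV ▸ commutator_mem_commutator ha hb))
  obtain ⟨r, hr, hrV⟩ := Nat.exists_prime_and_dvd (Finite.one_lt_card (α := V)).ne'
  haveI := Fact.mk hr
  have hVr : Cfsg.IsElementaryAbelian r V := by
    refine ⟨⟨⟨fun a b => Subtype.ext (hVab a a.2 b b.2).eq⟩⟩, ?_⟩
    let W : Subgroup G :=
      { carrier := {v | v ∈ V ∧ v ^ r = 1}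
        one_mem' := ⟨V.one_mem, one_pow _⟩
        mul_mem' := fun {a b} ha hb => ⟨V.mul_mem ha.1 hb.1, by rw [(hVab a ha.1 b hb.1).mul_pow, ha.2, hb.2, one_mul]⟩
        inv_mem' := fun {a} ha => ⟨V.inv_mem ha.1, by rw [inv_pow, ha.2, inv_one]⟩ }
    have hWn : W.Normal := ⟨fun v hv g => ⟨hVn.conj_mem v hv.1 g, by rw [conj_pow, hv.2]; group⟩⟩
    obtain ⟨z, hz⟩ := exists_prime_orderOf_dvd_card' r hrV
    have hzW : (z : G) ∈ W := ⟨z.2, by
      have := pow_orderOf_eq_one z
      rw [hz] at this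
      exact congrArg Subtype.val this⟩
    have hW : W = V := (hmin W hWn (fun v hv => hv.1)).resolve_left fun h => by
      rw [h, mem_bot] at hzW
      exact hr.ne_one (by rw [← hz, show z = 1 from Subtype.ext hzW, orderOf_one])
    intro v hv
    exact (hW.symm ▸ hv : v ∈ W).2
  -- reduction modulo `V`
  set f := QuotientGroup.mk' V
  haveI : (H.map f).Normal := Normal.map inferInstance f (QuotientGroup.mk'_surjective V)
  have hlt : Nat.card (H.map f) < n := by
    rw [← hn, ← card_mul_index (V.subgroupOf H)]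
    have h1 : Nat.card (H.map f) = (V.subgroupOf H).index := by
      have e : V.subgroupOf H = (f.subgroupMap H).ker := by
        ext m
        rw [MonoidHom.mem_ker, mem_subgroupOf]
        exact ⟨fun h => Subtype.ext ((QuotientGroup.eq_one_iff _).2 h),
          fun h => (QuotientGroup.eq_one_iff _).1 (congrArg Subtype.val h)⟩
      rw [e, index_ker, MonoidHom.range_eq_top.2 (f.subgroupMap_surjective H), card_top]
    rw [h1, Nat.card_congr (subgroupOfEquivOfLe hVH).toEquiv]
    exact lt_mul_of_one_lt_left (Nat.pos_of_ne_zero index_ne_zero_of_finite) (Finite.one_lt_card (α := V))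
  have hq := ih _ hlt (G ⧸ V) (f x) (H.map f) (by rw [← map_pow, hxp, map_one])
    (by rw [← MonoidHom.map_zpowers, ← Subgroup.map_sup, htop, Subgroup.map_top_of_surjective _ (QuotientGroup.mk'_surjective V)])
    (Group.isSolvable_of_surjective (f := f.subgroupMap H) (f.subgroupMap_surjective H))
    (hcop.coprime_dvd_left (card_map_dvd _ _)) rfl
  have hred : ∀ c ∈ H ⊓ centralizer ({x} : Set G),
      ∃ l ∈ fixGen x H, ∃ v ∈ V ⊓ centralizer ({x} : Set G), c = l * v := by
    intro c hc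
    have h1 : f c ∈ ⁅H.map f, zpowers (f x)⁆ := by
      rw [← MonoidHom.map_zpowers, ← map_commutator, hgen]; exact mem_map_of_mem f hc.1
    have h2 := hq ⟨h1, mem_centralizer_singleton_iff.2 (by
      rw [← map_mul, ← map_mul, mem_centralizer_singleton_iff.1 hc.2])⟩
    have hle : fixGen (f x) (H.map f) ≤ (fixGen x H).map f := by
      refine iSup_le ?_
      rintro ⟨_, h, hh, rfl⟩ y hy
      have hy1 : y ∈ (brk x h).map f := (map_brk f x h).symm ▸ hy.1
      obtain ⟨k, hk, rfl⟩ := hy1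
      have hxk : Commute (f k) (f x) := mem_centralizer_singleton_iff.1 hy.2
      obtain ⟨c', hc', hcV⟩ := exists_fixed_of_fixed_mod (A := zpowers x) (K := brk x h) (N := brk x h ⊓ V)
        (zpowers_le_normalizer_brk x h) (commutator_coprime_card hxp hcop (brk_le hxH hh)) (Or.inl inferInstance)
        inf_le_left (fun a ha => inf_normalizer_le_normalizer_inf ⟨le_normalizer ha, by rw [normalizer_eq_top]; exact mem_top a⟩)
        (fun a ha => inf_normalizer_le_normalizer_inf ⟨zpowers_le_normalizer_brk x h ha, by rw [normalizer_eq_top]; exact mem_top a⟩)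
        hk (fun a ha => ⟨Subgroup.mul_mem _ ((mem_normalizer_iff.1 (zpowers_le_normalizer_brk x h ha) k).1 hk) (Subgroup.inv_mem _ hk),
          (QuotientGroup.eq_one_iff _).1 (by
            obtain ⟨i, rfl⟩ := mem_powers_iff_mem_zpowers.2 ha
            show f (x ^ i * k * (x ^ i)⁻¹ * k⁻¹) = 1
            simp only [map_mul, map_inv, map_pow]
            rw [(hxk.symm.pow_left i).eq]; group)⟩)
      exact ⟨c', mem_fixGen hh hc'.1 (mem_centralizer_zpowers.1 hc'.2), ((QuotientGroup.eq).2 hcV.2).symm⟩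
    obtain ⟨l, hl, e⟩ := hle h2
    exact ⟨l, hl, l⁻¹ * c, ⟨(QuotientGroup.eq).1 e, Subgroup.mul_mem _ (Subgroup.inv_mem _ (fixGen_le hxH hl).2) hc.2⟩, by group⟩
  have hV : V ⊓ centralizer ({x} : Set G) ≤ fixGen x H := by
    by_cases hc : V ≤ centralizer (H : Set G)
    · exact central_case hp hxp htop hcop hgen (hpg r hr) hVH
        (fun v => ⟨1, Subtype.ext (by rw [pow_one]; exact hVr.2 v v.2)⟩) hVab
        (fun v hv h hh => ((mem_centralizer_iff.1 (hc hv)) h hh).symm) hred sub
    · exact noncentral_case hp hp2 hxp hx1 htop hcop hgen (hpg r hr) hVH hVr hmin hc sub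
  intro c hc
  rw [hgen] at hc
  obtain ⟨l, hl, v, hv, rfl⟩ := hred c hc
  exact Subgroup.mul_mem _ hl (hV hv)

/-- **Flavell.** Fixed points in `[H, ⟨x⟩]` are generated by those in the `[h, ⟨x⟩]`. -/
theorem claim_of_coprime {G : Type u} [Group G] [Finite G] {p : ℕ} (hp : p.Prime) (hp2 : p ≠ 2) {x : G}
    {H : Subgroup G} [H.Normal] (hxp : x ^ p = 1) (htop : H ⊔ zpowers x = ⊤) (hsol : Group.IsSolvable H)
    (hcop : (Nat.card H).Coprime p) : Claim x H :=
  claim_aux hp hp2 _ G x H hxp htop hsol hcop rfl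

end Aux

end CfsgLib.Solvable.Flavell
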