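import Cfsg.Agent.Lib.Solvable.CoprimeAbelian
import Mathlib.GroupTheory.SpecificGroups.Cyclic
import Mathlib.GroupTheory.Sylow
import Mathlib.Data.Finite.Perm
import Mathlib.Data.Nat.Prime.Factorial

/-!
Coprime action with fixed points of prime index `p`: the commutator has order `p`.
-/

set_option autoImplicit false
set_option linter.style.haveILetI false

open scoped Pointwise commutatorElement
open Subgroup

namespace CfsgLib.Solvable

variable {G : Type*} [Group G]

/-- If `T ≤ K` contains `D` with index `p`, `D` centralised by `A` and normalised by `T`, then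
`⁅T, A⁆` has order `p` unless trivial. -/
theorem card_commutator_of_relIndex_prime [Finite G] {A T D : Subgroup G} {p : ℕ} (hp : p.Prime)
    (hAT : A ≤ normalizer (T : Set G)) (hcop : (Nat.card A).Coprime (Nat.card T))
    (hsolv : Group.IsSolvable A ∨ Group.IsSolvable T) (hTD : T ≤ normalizer (D : Set G))
    (hDA : A ≤ centralizer (D : Set G)) (hidx : D.relIndex T = p) (hne : ⁅T, A⁆ ≠ ⊥) :
    Nat.card (⁅T, A⁆ : Subgroup G) = p := by
  haveI : Fact p.Prime := ⟨hp⟩
  set W := ⁅T, A⁆ with hW
  have hWT : W ≤ T := commutator_le_of_normalizes hAT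
  have hWA : ⁅W, A⁆ = W := commutator_commutator_eq hAT hcop hsolv
  have hDA' : ⁅A, D⁆ = ⊥ := commutator_eq_bot_iff_le_centralizer.2 hDA
  have hWD : ⁅W, D⁆ = ⊥ := by
    refine commutator_commutator_eq_bot_of_rotate ?_ ?_
    · rw [hDA']; exact commutator_bot_left _
    · rw [eq_bot_iff]
      refine le_trans (commutator_mono (le_normalizer_iff_commutator_le_left.1 hTD) le_rfl) ?_
      rw [commutator_comm, hDA']
  have hWc : W ≤ centralizer (D : Set G) := commutator_eq_bot_iff_le_centralizer.1 hWD
  -- the quotient of `W` by `D ⊓ W` is cyclic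
  have hnorm : (D.subgroupOf W).Normal := by
    refine ⟨fun x hx g => ?_⟩
    rw [mem_subgroupOf] at hx ⊢
    exact (mem_normalizer_iff.1 ((le_trans hWT hTD) g.2) _).1 hx
  have hdvd : D.relIndex W ∣ p := by
    haveI : (D.subgroupOf T).Normal := normal_subgroupOf_of_le_normalizer hTD
    have h := Subgroup.relIndex_dvd_index_of_normal (D.subgroupOf T) (W.subgroupOf T)
    rwa [relIndex_subgroupOf hWT, ← relIndex, hidx] at h
  haveI : IsCyclic (W ⧸ D.subgroupOf W) := by
    rcases (Nat.dvd_prime hp).1 hdvd with h | h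
    · haveI : Subsingleton (W ⧸ D.subgroupOf W) := (Nat.card_eq_one_iff_unique.1 h).1
      infer_instance
    · exact isCyclic_of_prime_card (p := p) h
  have hcomm := MonoidHom.isMulCommutative_of_isCyclic_of_ker_le_center (QuotientGroup.mk' (D.subgroupOf W))
    (by
      rw [QuotientGroup.ker_mk']
      intro x hx
      rw [mem_center_iff]
      intro g
      exact Subtype.ext (hWc g.2 _ (mem_subgroupOf.1 hx)).symm)
  haveI := hcomm
  have hAW : A ≤ normalizer (W : Set G) := le_normalizer_commutator_right T A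
  have hdis := centralizer_inf_commutator_eq_bot hAW
    (hcop.coprime_dvd_right (card_dvd_of_le hWT))
  have hbot : D.subgroupOf W = ⊥ := by
    rw [subgroupOf_eq_bot, disjoint_iff, eq_bot_iff]
    rintro x ⟨hxD, hxW⟩
    rw [← hdis]
    exact ⟨⟨hxW, (le_centralizer_iff.1 hDA) hxD⟩, by rw [hWA]; exact hxW⟩
  have hcard : Nat.card W ∣ p := by
    rw [relIndex, hbot, index_bot] at hdvd
    exact hdvd
  exact ((Nat.dvd_prime hp).1 hcard).resolve_left fun h => hne (card_eq_one.1 h)

/-- Coprime action with fixed points of prime index `p`. -/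
theorem card_commutator_of_relIndex_centralizer [Finite G] {A K : Subgroup G}
    (hAK : A ≤ normalizer (K : Set G)) (hcop : (Nat.card A).Coprime (Nat.card K))
    (hsolv : Group.IsSolvable A ∨ Group.IsSolvable K) {p : ℕ} (hp : p.Prime)
    (hidx : (K ⊓ centralizer (A : Set G)).relIndex K = p) :
    Nat.card (⁅K, A⁆ : Subgroup G) = p := by
  classical
  haveI : Fact p.Prime := ⟨hp⟩
  set C := K ⊓ centralizer (A : Set G) with hC
  set C' : Subgroup K := C.subgroupOf K with hC'
  set D' : Subgroup K := C'.normalCore with hD'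
  set D : Subgroup G := D'.map K.subtype with hD
  have hDK : D ≤ K := map_subtype_le _
  have hDC : D ≤ C := by
    rintro _ ⟨x, hx, rfl⟩
    exact mem_subgroupOf.1 (normalCore_le C' hx)
  have hKD : K ≤ normalizer (D : Set G) := by
    refine le_normalizer_iff.2 ?_
    rintro k hk _ ⟨x, hx, rfl⟩
    exact ⟨⟨k, hk⟩ * x * ⟨k, hk⟩⁻¹, (normalCore_normal C').conj_mem x hx ⟨k, hk⟩, rfl⟩
  have hCC : ∀ a ∈ A, ∀ c ∈ C, a * c * a⁻¹ = c := by
    intro a ha c hc
    rw [show a * c = c * a from hc.2 a ha, mul_inv_cancel_right]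
  have hDA : A ≤ centralizer (D : Set G) := le_centralizer_iff.1 (le_trans hDC inf_le_right)
  have hAD : A ≤ normalizer (D : Set G) := le_trans hDA (centralizer_le_normalizer _)
  -- the index of the core divides `p!`
  have hfact : D'.index ∣ p.factorial := by
    rw [hD', normalCore_eq_ker, index_ker]
    have h := (MulAction.toPermHom K (K ⧸ C')).range.card_subgroup_dvd_card
    rwa [Nat.card_perm, ← index_eq_card, show C'.index = p from hidx] at h
  obtain ⟨P, hP⟩ := exists_invariant_sylow hAK hcop hsolv p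
  set P' := (P : Subgroup K).map K.subtype with hP'
  have hPK : P' ≤ K := map_subtype_le _
  have hPnotC : ¬ P' ≤ C := by
    intro hle
    apply P.not_dvd_index
    have h : C.relIndex K ∣ P'.relIndex K := relIndex_dvd_of_le_left _ hle
    rw [hidx] at h
    rwa [relIndex, subgroupOf, hP', comap_map_eq_self_of_injective K.subtype_injective] at h
  have hpow : ∀ Q : Sylow p K, ¬ (Q : Subgroup K).map K.subtype ≤ D →
      D.relIndex (D ⊔ (Q : Subgroup K).map K.subtype) = p := by
    intro Q hQ
    rw [relIndex_sup_of_le_normalizer (le_trans (map_subtype_le _) hKD)]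
    obtain ⟨j, hj⟩ := IsPGroup.iff_card.1 (Q.isPGroup'.map K.subtype)
    have h1 : D.relIndex ((Q : Subgroup K).map K.subtype) ∣ p ^ j := hj ▸ relIndex_dvd_card _ _
    obtain ⟨i, -, hi⟩ := (Nat.dvd_prime_pow hp).1 h1
    have h2 : D.relIndex ((Q : Subgroup K).map K.subtype) ∣ p.factorial := by
      refine dvd_trans ?_ hfact
      haveI : D'.Normal := normalCore_normal C'
      have := Subgroup.relIndex_dvd_index_of_normal D' (Q : Subgroup K)
      rwa [hD, relIndex_map_map_of_injective _ _ K.subtype_injective]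
    have hi0 : i ≠ 0 := fun h => hQ (relIndex_eq_one.1 (by rw [hi, h, pow_zero]))
    rcases Nat.lt_or_ge i 2 with h | h
    · rw [hi, show i = 1 by omega, pow_one]
    · exfalso
      rw [hi] at h2
      obtain ⟨r, hr⟩ := Nat.exists_eq_succ_of_ne_zero hp.ne_zero
      have h3 : p ^ 2 ∣ p.factorial := (pow_dvd_pow p h).trans h2
      rw [show p.factorial = p * r.factorial by rw [hr, Nat.factorial_succ], sq] at h3
      have := (Nat.Prime.dvd_factorial hp).1 ((Nat.mul_dvd_mul_iff_left hp.pos).1 h3)
      omega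
  set T := D ⊔ P' with hT
  have hTK : T ≤ K := sup_le hDK hPK
  have hAT : A ≤ normalizer (T : Set G) :=
    le_trans (le_inf hAD hP) (normalizer_inf_normalizer_le_normalizer_sup D P')
  have hPD : ¬ P' ≤ D := fun h => hPnotC (le_trans h hDC)
  have hTidx : D.relIndex T = p := hpow P hPD
  have hTC : ¬ T ≤ C := fun h => hPnotC (le_trans le_sup_right h)
  -- `T ⊓ C = D`
  have hgen : ∀ k ∈ K, ∃ t ∈ T, ∃ c ∈ C, k = t * c := by
    intro k hk
    have hcard : (C.subgroupOf T).index = p := by
      have h1 : C.relIndex T ∣ p := by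
        rw [← hTidx]; exact relIndex_dvd_of_le_left _ hDC
      exact ((Nat.dvd_prime hp).1 h1).resolve_left fun h => hTC (relIndex_eq_one.1 h)
    haveI : Finite (K ⧸ C.subgroupOf K) := inferInstance
    have hb : Function.Bijective (quotientSubgroupOfEmbeddingOfLE C hTK) := by
      refine (Nat.bijective_iff_injective_and_card _).2
        ⟨(quotientSubgroupOfEmbeddingOfLE C hTK).injective, ?_⟩
      show (C.subgroupOf T).index = (C.subgroupOf K).index
      rw [hcard]; exact hidx.symm
    obtain ⟨q, hq⟩ := hb.2 (QuotientGroup.mk (⟨k, hk⟩ : K))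
    obtain ⟨⟨t, ht⟩, rfl⟩ := QuotientGroup.mk_surjective q
    refine ⟨t, ht, t⁻¹ * k, ?_, (mul_inv_cancel_left t k).symm⟩
    have := QuotientGroup.eq.1 hq
    simpa [mem_subgroupOf] using this
  have hTsol : Group.IsSolvable A ∨ Group.IsSolvable T := solvable_or_of_le hTK hsolv
  have hne : ⁅T, A⁆ ≠ ⊥ := by
    intro h
    rw [commutator_eq_bot_iff_le_centralizer] at h
    exact hTC (le_inf hTK h)
  have heq : ⁅K, A⁆ = ⁅T, A⁆ := by
    refine le_antisymm ?_ (commutator_mono hTK le_rfl)
    rw [commutator_le]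
    intro k hk a ha
    obtain ⟨t, ht, c, hc, rfl⟩ := hgen k hk
    have h1 : ⁅t * c, a⁆ = ⁅t, a⁆ := by
      have hca : c * a * c⁻¹ = a := by
        rw [show c * a = a * c from (hc.2 a ha).symm, mul_inv_cancel_right]
      simp only [commutatorElement_def, mul_inv_rev]
      calc t * c * a * (c⁻¹ * t⁻¹) * a⁻¹ = t * (c * a * c⁻¹) * t⁻¹ * a⁻¹ := by
            simp only [mul_assoc]
        _ = t * a * t⁻¹ * a⁻¹ := by rw [hca]
    rw [h1]
    exact commutator_mem_commutator ht ha
  rw [heq]
  exact card_commutator_of_relIndex_prime hp hAT (hcop.coprime_dvd_right (card_dvd_of_le hTK)) hTsol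
    (le_trans hTK hKD) hDA hTidx hne

end CfsgLib.Solvable
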