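import Cfsg.Agent.Lib.Solvable.SchurZassenhaus
import Cfsg.Agent.Lib.Solvable.Hall
import Cfsg.Agent.Lib.Blocks82.HallHigman

/-!
Hall `p'`-subgroups of a finite `p`-soluble group: existence, conjugacy, domination.
-/

set_option autoImplicit false
open scoped Pointwise
open Subgroup

namespace CfsgLib.Solvable

universe u

variable {G : Type u} [Group G]

theorem exists_normal_pgroup_or_coprime {p : ℕ} [Fact p.Prime] [Finite G] [Nontrivial G]
    (hG : Cfsg.IsPSolvable p G) :
    ∃ N : Subgroup G, N.Normal ∧ N ≠ ⊥ ∧ (IsPGroup p N ∨ (Nat.card N).Coprime p) := by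
  obtain ⟨n, S, h0, hl, hm, hn, hfac⟩ := hG
  by_contra hne
  simp only [not_exists, not_and, not_or] at hne
  have hall : ∀ i, S i = ⊥ := by
    refine Fin.induction h0 fun i hi => ?_
    by_contra h
    obtain ⟨h1, h2⟩ := hne (S i.succ) (hn _) h
    rcases hfac i with ⟨m, hm⟩ | hc
    · rw [hi, relIndex_bot_left] at hm
      exact h1 (IsPGroup.of_card hm)
    · rw [hi, relIndex_bot_left] at hc
      exact h2 hc
  exact top_ne_bot (hl ▸ hall (Fin.last n))

/-- A `p`-soluble group has a `p'`-subgroup of `p`-power index containing a conjugate of every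
`p'`-subgroup. -/
theorem exists_hall_pprime_dominant {p : ℕ} [hp : Fact p.Prime] : ∀ (n : ℕ) (G : Type u) [Group G]
    [Finite G], Nat.card G = n → Cfsg.IsPSolvable p G →
    ∃ H : Subgroup G, (Nat.card H).Coprime p ∧ (∃ m : ℕ, H.index = p ^ m) ∧
      ∀ K : Subgroup G, (Nat.card K).Coprime p → ∃ g : G, MulAut.conj g • K ≤ H := by
  intro n
  induction n using Nat.strong_induction_on with
  | _ n ih =>
  intro G _ _ hn hG
  rcases subsingleton_or_nontrivial G with h1 | h1
  · exact ⟨⊥, by simp, ⟨0, by simp [Nat.card_unique]⟩,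
      fun K _ => ⟨1, fun x _ => mem_bot.mpr (Subsingleton.elim x 1)⟩⟩
  obtain ⟨N, hNn, hN1, hN⟩ := exists_normal_pgroup_or_coprime hG
  have hlt : Nat.card (G ⧸ N) < n := by
    rw [← hn, ← index_eq_card, ← card_mul_index N]
    exact lt_mul_of_one_lt_left (Nat.pos_of_ne_zero index_ne_zero_of_finite)
      (N.one_lt_card_iff_ne_bot.mpr hN1)
  obtain ⟨Hb, hHb, ⟨m, hm⟩, hdom⟩ :=
    ih _ hlt (G ⧸ N) rfl (CfsgLib.Blocks82.isPSolvable_quotient hG N)
  set f := QuotientGroup.mk' N with hf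
  have hsurj : Function.Surjective f := QuotientGroup.mk'_surjective N
  have key : ∀ K : Subgroup G, (Nat.card K).Coprime p →
      ∃ g : G, MulAut.conj g • K ≤ Hb.comap f := by
    intro K hK
    obtain ⟨g, hg⟩ := hdom (K.map f) (hK.coprime_dvd_left (card_map_dvd _ f))
    obtain ⟨g, rfl⟩ := hsurj g
    rw [← map_conj_smul, map_le_iff_le_comap] at hg
    exact ⟨g, hg⟩
  set L := Hb.comap f with hL
  have cL : Nat.card L = Nat.card N * Nat.card Hb := card_comap_mk' N Hb
  have iL : L.index = p ^ m := (index_comap_of_surjective _ hsurj).trans hm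
  rcases hN with hNp | hNc
  swap
  · exact ⟨L, cL ▸ Nat.Coprime.mul_left hNc hHb, ⟨m, iL⟩, key⟩
  obtain ⟨k, hk⟩ := hNp.exists_card_eq
  have hcop : ∀ j : ℕ, j.Coprime p → (Nat.card N).Coprime j := fun j hj =>
    hk ▸ (hj.symm.pow_left k)
  have hNL : N ≤ L := fun x hx => by
    rw [hL, mem_comap, hf, QuotientGroup.mk'_apply, (QuotientGroup.eq_one_iff x).mpr hx]
    exact one_mem _
  have cNL := Nat.card_congr (subgroupOfEquivOfLe hNL).toEquiv
  have hidx : (N.subgroupOf L).index = Nat.card Hb := by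
    have h := card_mul_index (N.subgroupOf L)
    rw [cNL, cL] at h
    exact Nat.eq_of_mul_eq_mul_left Nat.card_pos h
  obtain ⟨C, hC⟩ := exists_right_complement'_of_coprime (N := N.subgroupOf L)
    (by rw [cNL, hidx]; exact hcop _ hHb)
  set H := C.map L.subtype with hH
  have cH : Nat.card H = Nat.card Hb := by
    rw [hH, Subgroup.card_subtype, ← hidx, hC.symm.index_eq_card]
  have hHN : N ⊔ H = L := by
    rw [hH, ← map_subgroupOf_eq_of_le hNL, ← Subgroup.map_sup, hC.sup_eq_top,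
      ← MonoidHom.range_eq_map, range_subtype]
  refine ⟨H, cH ▸ hHb, ⟨k + m, ?_⟩, fun K hK => ?_⟩
  · refine Nat.eq_of_mul_eq_mul_left (Nat.card_pos (α := H)) ?_
    rw [card_mul_index, ← card_mul_index L, cL, iL, cH, hk, pow_add]
    ring
  obtain ⟨g, hg⟩ := key K hK
  rw [← hHN] at hg
  obtain ⟨a, -, ha⟩ := exists_conj_le_of_coprime (N := N) le_normalizer_of_normal hg
    (cH ▸ hcop _ hHb) (by rw [card_conj_smul]; exact hcop _ hK)
    (Or.inl (by have : Group.IsNilpotent N := hNp.isNilpotent; infer_instance))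
  exact ⟨a * g, by rwa [← conj_smul_conj_smul]⟩

theorem card_eq_of_hall_pprime [Finite G] {p : ℕ} {H K : Subgroup G}
    (hH : (Nat.card H).Coprime p) (hHi : ∃ m : ℕ, H.index = p ^ m)
    (hK : (Nat.card K).Coprime p) (hKi : ∃ m : ℕ, K.index = p ^ m) : Nat.card H = Nat.card K := by
  have : ∀ H K : Subgroup G, (Nat.card H).Coprime p → (∃ m : ℕ, K.index = p ^ m) →
      Nat.card H ∣ Nat.card K := by
    rintro H K hH ⟨m, hm⟩
    exact (hH.pow_right m).dvd_of_dvd_mul_right
      (hm ▸ (card_mul_index K).symm ▸ card_subgroup_dvd_card H)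
  exact Nat.dvd_antisymm (this H K hH hKi) (this K H hK hHi)

theorem hall_pprime_dominant [Finite G] {p : ℕ} [Fact p.Prime] (hG : Cfsg.IsPSolvable p G)
    {H : Subgroup G} (hH : (Nat.card H).Coprime p) (hHi : ∃ m : ℕ, H.index = p ^ m)
    {K : Subgroup G} (hK : (Nat.card K).Coprime p) : ∃ g : G, MulAut.conj g • K ≤ H := by
  obtain ⟨D, hD, hDi, hdom⟩ := exists_hall_pprime_dominant _ G rfl hG
  obtain ⟨g, hg⟩ := hdom K hK
  obtain ⟨h, hh⟩ := hdom H hH
  have hh' := eq_of_le_of_card_ge hh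
    (by rw [card_conj_smul, card_eq_of_hall_pprime hD hDi hH hHi])
  refine ⟨h⁻¹ * g, ?_⟩
  rw [← hh'] at hg
  rw [← conj_smul_conj_smul, map_inv]
  exact subset_pointwise_smul_iff.mp hg

end CfsgLib.Solvable
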