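import Cfsg.Agent.Lib.Solvable.FixedSpaceGeneral
import Cfsg.Agent.Lib.Solvable.CoprimeAction
import Cfsg.Agent.Lib.Solvable.Core
import Cfsg.Agent.Lib.Components.Subnormal
import Cfsg.Agent.Lib.Subnormal.Join

/-!
Solvable subgroups that are maximal among those generated by two conjugates of a subgroup of prime
order `p ≥ 5`: their Fitting subgroup commutes with the nilpotent subgroups they normalise.
-/

set_option autoImplicit false
set_option linter.style.haveILetI false
set_option linter.unusedSectionVars false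

open Subgroup
open scoped commutatorElement

namespace CfsgLib.Solvable.TwoConjMax

/-- Flavell's bound for a non-trivial, not necessarily faithful, irreducible action. -/
theorem fixed_lt {r p : ℕ} [Fact r.Prime] (hp : p.Prime) (hp5 : 5 ≤ p) {A V : Type*} [Group A] [Finite A]
    [Group.IsSolvable A] [AddCommGroup V] [Module (ZMod r) V] [FiniteDimensional (ZMod r) V] [Nontrivial V]
    (ρ : Representation (ZMod r) A V)
    (hirr : ∀ U : Submodule (ZMod r) V, (∀ g, ∀ u ∈ U, ρ g u ∈ U) → U = ⊥ ∨ U = ⊤)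
    {x : A} (hxp : x ^ p = 1) (hx1 : ρ x ≠ 1) (hgen : normalClosure ({x} : Set A) = ⊤) :
    2 * Module.finrank (ZMod r) ↥(LinearMap.ker (ρ x - 1)) < Module.finrank (ZMod r) V := by
  set N := MonoidHom.ker ρ with hN
  let ρ' : Representation (ZMod r) (A ⧸ N) V := QuotientGroup.lift N ρ (le_refl _)
  have hfaith : Function.Injective ρ' := by
    intro a b h
    obtain ⟨a, rfl⟩ := QuotientGroup.mk_surjective a
    obtain ⟨b, rfl⟩ := QuotientGroup.mk_surjective b
    have h' : ρ a = ρ b := h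
    refine QuotientGroup.eq.2 (MonoidHom.mem_ker.2 ?_)
    rw [map_mul, ← h', ← map_mul, inv_mul_cancel, map_one]
  haveI : Group.IsSolvable (A ⧸ N) := Group.isSolvable_of_surjective (QuotientGroup.mk'_surjective N)
  have hgen' : normalClosure ({QuotientGroup.mk' N x} : Set (A ⧸ N)) = ⊤ := by
    have := map_normalClosure ({x} : Set A) (QuotientGroup.mk' N) (QuotientGroup.mk'_surjective N)
    rw [Set.image_singleton, hgen, map_top_of_surjective _ (QuotientGroup.mk'_surjective N)] at this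
    exact this.symm
  have he : ∀ g : A, ρ' (QuotientGroup.mk' N g) = ρ g := fun g => QuotientGroup.lift_mk' N _ g
  have h := CfsgLib.Solvable.FixedSpace.two_mul_fixed_lt r (x := QuotientGroup.mk' N x) ρ' hfaith
    (fun U hU => hirr U fun g u hu => he g ▸ hU _ u hu) hp hp5
    (by rw [← map_pow, hxp, map_one])
    (fun h0 => hx1 (by rw [← he, h0, map_one])) hgen'
  rwa [he] at h

/-- A cocycle is principal if a normal subgroup of invertible order fixes no vector. -/
theorem cocycle_principal {A k V : Type*} [Group A] [Field k] [AddCommGroup V] [Module k V]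
    (ρ : Representation k A V) (Q : Subgroup A) [Q.Normal] [Fintype Q] (hQ : (Fintype.card Q : k) ≠ 0)
    (hfix : ∀ v : V, (∀ q ∈ Q, ρ q v = v) → v = 0)
    (δ : A → V) (hδ : ∀ g h, δ (g * h) = δ g + ρ g (δ h)) : ∃ v, ∀ g, δ g = v - ρ g v := by
  set S := ∑ h : Q, δ (h : A) with hS
  refine ⟨(Fintype.card Q : k)⁻¹ • S, ?_⟩
  set v := (Fintype.card Q : k)⁻¹ • S with hv
  have hq : ∀ q ∈ Q, δ q = v - ρ q v := by
    intro q hq
    have h1 : S = (Fintype.card Q : k) • δ q + ρ q S := by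
      calc S = ∑ h : Q, δ ((((⟨q, hq⟩ : Q) * h : Q) : A)) :=
            (Fintype.sum_equiv (Equiv.mulLeft (⟨q, hq⟩ : Q)) _ _ fun h => rfl).symm
        _ = ∑ h : Q, (δ q + ρ q (δ (h : A))) := by simp [hδ]
        _ = (Fintype.card Q : k) • δ q + ρ q S := by
            rw [Finset.sum_add_distrib, Finset.sum_const, ← map_sum, Finset.card_univ,
              ← Nat.cast_smul_eq_nsmul k]
    rw [eq_sub_iff_add_eq]
    rw [hv, map_smul]
    conv_rhs => rw [h1, smul_add, smul_smul, inv_mul_cancel₀ hQ, one_smul]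
  intro g
  rw [← sub_eq_zero]
  refine hfix _ fun q hq' => ?_
  have hn : g⁻¹ * q * g ∈ Q := by simpa using (inferInstance : Q.Normal).conj_mem q hq' g⁻¹
  have h1 := hδ q g
  have h2 := hδ g (g⁻¹ * q * g)
  rw [show g * (g⁻¹ * q * g) = q * g by group] at h2
  rw [h1, hq q hq', hq _ hn] at h2
  have e : ∀ u : V, ρ g (ρ (g⁻¹ * q * g) u) = ρ q (ρ g u) := by
    intro u
    rw [← Module.End.mul_apply, ← map_mul, show g * (g⁻¹ * q * g) = q * g by group, map_mul,
      Module.End.mul_apply]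
  rw [map_sub, e] at h2
  rw [map_sub, map_sub]
  rw [← sub_eq_zero] at h2 ⊢
  calc _ = v - ρ q v + ρ q (δ g) - (δ g + (ρ g v - ρ q (ρ g v))) := by abel
    _ = 0 := h2

universe u

variable {G : Type u} [Group G]

theorem le_normalizer_of_commutator_le {W X : Subgroup G} (hXW : X ≤ W) (h : ⁅W, W⁆ ≤ X) :
    W ≤ normalizer (X : Set G) := by
  rw [le_normalizer_iff]
  intro w hw x hx
  have := mul_mem (h (commutator_mem_commutator hw (hXW hx))) hx
  rwa [commutatorElement_def, inv_mul_cancel_right] at this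

theorem normalizer_le_map_char (K : Subgroup G) (C : Subgroup K) [hC : C.Characteristic] :
    normalizer (K : Set G) ≤ normalizer ((C.map K.subtype : Subgroup G) : Set G) := by
  rw [le_normalizer_iff]
  rintro g hg _ ⟨c, hc, rfl⟩
  refine ⟨K.normalizerMonoidHom ⟨g, hg⟩ c, ?_, rfl⟩
  rw [← hC.fixed (K.normalizerMonoidHom ⟨g, hg⟩)] at hc
  exact hc

variable [Finite G]

theorem commutator_lt_of_isPGroup {r : ℕ} [Fact r.Prime] {W : Subgroup G} (hW : IsPGroup r W)
    (hW1 : W ≠ ⊥) : ⁅W, W⁆ < W := by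
  refine lt_of_le_of_ne (commutator_le_self W) fun h => ?_
  haveI := hW.isNilpotent
  haveI := (nontrivial_iff_ne_bot W).2 hW1
  apply (Group.IsSolvable.commutator_lt_top_of_nontrivial W).ne
  refine map_injective W.subtype_injective ?_
  rw [map_subtype_commutator, h, ← MonoidHom.range_eq_map, range_subtype]

/-- `A = ⟨x, a x a⁻¹⟩` is solvable and maximal among such subgroups. -/
structure MaxPair (A : Subgroup G) (x : G) : Prop where
  solv : Group.IsSolvable A
  gen : ∃ a ∈ A, A = zpowers x ⊔ zpowers (a * x * a⁻¹)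
  max : ∀ B : Subgroup G, A ≤ B → Group.IsSolvable B →
    (∃ b ∈ B, B = zpowers x ⊔ zpowers (b * x * b⁻¹)) → B = A

/-- An action on the abelian image of `W` as a representation. -/
theorem exists_rep_of_hom {A W U : Subgroup G} {r : ℕ} {K : Type u} [CommGroup K] [Finite K]
    [Nontrivial K] (π : W →* K) (hπ : Function.Surjective π) (hker : ∀ s : W, π s = 1 ↔ (s : G) ∈ U)
    (hAW : A ≤ normalizer (W : Set G)) (hAU : A ≤ normalizer (U : Set G))
    (hexp : ∀ w : W, ((w : G) ^ r : G) ∈ U) :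
    ∃ (V : Type u) (_ : AddCommGroup V) (_ : Module (ZMod r) V) (_ : Finite V) (_ : Nontrivial V)
      (ρ : Representation (ZMod r) A V) (m : W → V), Function.Surjective m ∧
      (∀ s t : W, m (s * t) = m s + m t) ∧ (∀ s : W, m s = 0 ↔ (s : G) ∈ U) ∧
      (∀ (g : A) (s t : W), (t : G) = g * s * (g : G)⁻¹ → ρ g (m s) = m t) := by
  have hexp' : ∀ v : Additive K, r • v = 0 := fun v => by
    obtain ⟨w, hw⟩ := hπ (Additive.toMul v)
    show Additive.ofMul (Additive.toMul v ^ r) = 0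
    rw [← hw, ← map_pow, (hker _).2 (by push_cast; exact hexp w), ofMul_one]
  have iM : Module (ZMod r) (Additive K) := AddCommGroup.zmodModule hexp'
  let cj : A → (W →* W) := fun g =>
    { toFun := fun w => ⟨g * (w : G) * (g : G)⁻¹, le_normalizer_iff.1 hAW g g.2 w w.2⟩
      map_one' := Subtype.ext (by simp)
      map_mul' := fun s t => Subtype.ext (by simp [mul_assoc]) }
  have hcker : ∀ g : A, π.ker ≤ (π.comp (cj g)).ker := fun g w hw => by
    rw [MonoidHom.mem_ker, hker] at hw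
    rw [MonoidHom.mem_ker, MonoidHom.comp_apply, hker]
    exact le_normalizer_iff.1 hAU g g.2 _ hw
  let φ : A → (K →* K) := fun g => π.liftOfSurjective hπ ⟨π.comp (cj g), hcker g⟩
  have hφ : ∀ g w, φ g (π w) = π (cj g w) := fun g w =>
    MonoidHom.liftOfRightInverse_comp_apply π _ _ ⟨π.comp (cj g), hcker g⟩ w
  let L : A → Module.End (ZMod r) (Additive K) := fun g =>
    AddMonoidHom.toZModLinearMap r (MonoidHom.toAdditive (φ g))
  have hL : ∀ g w, L g (Additive.ofMul (π w)) = Additive.ofMul (π (cj g w)) := fun g w =>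
    congrArg Additive.ofMul (hφ g w)
  have hsurj : ∀ v : Additive K, ∃ w : W, Additive.ofMul (π w) = v := fun v => by
    obtain ⟨w, hw⟩ := hπ (Additive.toMul v)
    exact ⟨w, by rw [hw]; rfl⟩
  let ρ : Representation (ZMod r) A (Additive K) :=
    { toFun := L
      map_one' := by
        refine LinearMap.ext fun v => ?_
        obtain ⟨w, rfl⟩ := hsurj v
        rw [hL, Module.End.one_apply]
        exact congrArg (fun z : W => Additive.ofMul (π z)) (Subtype.ext (by simp [cj]))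
      map_mul' := fun g h => by
        refine LinearMap.ext fun v => ?_
        obtain ⟨w, rfl⟩ := hsurj v
        rw [hL, Module.End.mul_apply, hL, hL]
        exact congrArg (fun z : W => Additive.ofMul (π z)) (Subtype.ext (by simp [cj, mul_assoc])) }
  refine ⟨Additive K, inferInstance, iM, inferInstanceAs (Finite K), inferInstanceAs (Nontrivial K), ρ,
    fun w => Additive.ofMul (π w), hsurj, fun s t => congrArg Additive.ofMul (map_mul π s t), hker,
    fun g s t h => (hL g s).trans ?_⟩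
  exact congrArg (fun z : W => Additive.ofMul (π z)) (Subtype.ext h.symm)

/-- The action of `A` on an elementary chief section `W / U`. -/
theorem exists_section_module {A W U : Subgroup G} {r : ℕ} [hr : Fact r.Prime] (hW : IsPGroup r W)
    (hWU : ⁅W, W⁆ ≤ U) (hUW : U < W) (hAW : A ≤ normalizer (W : Set G))
    (hAU : A ≤ normalizer (U : Set G))
    (hor : ∀ X : Subgroup G, U ≤ X → X ≤ W → A ≤ normalizer (X : Set G) → X = U ∨ X = W) :
    ∃ (V : Type u) (_ : AddCommGroup V) (_ : Module (ZMod r) V) (_ : Finite V) (_ : Nontrivial V)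
      (ρ : Representation (ZMod r) A V) (m : W → V), Function.Surjective m ∧
      (∀ s t : W, m (s * t) = m s + m t) ∧ (∀ s : W, m s = 0 ↔ (s : G) ∈ U) ∧
      (∀ (g : A) (s t : W), (t : G) = g * s * (g : G)⁻¹ → ρ g (m s) = m t) := by
  have hWnU : W ≤ normalizer (U : Set G) := le_normalizer_of_commutator_le hUW.le hWU
  set U' := U.subgroupOf W with hU'
  have hmemU : ∀ s : W, s ∈ U' ↔ (s : G) ∈ U := fun _ => mem_subgroupOf
  haveI : U'.Normal := (normal_subgroupOf_iff_le_normalizer hUW.le).2 hWnU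
  letI : CommGroup (W ⧸ U') :=
    { (inferInstance : Group (W ⧸ U')) with
      mul_comm := fun s t => by
        induction s using QuotientGroup.induction_on with
        | _ s =>
        induction t using QuotientGroup.induction_on with
        | _ t =>
        rw [← QuotientGroup.mk_mul, ← QuotientGroup.mk_mul, QuotientGroup.eq, hmemU]
        have := hWU (commutator_mem_commutator (inv_mem t.2) (inv_mem s.2))
        rw [commutatorElement_def] at this
        push_cast
        simpa [mul_assoc] using this }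
  have mk_eq_one : ∀ w : W, (w : W ⧸ U') = 1 ↔ (w : G) ∈ U := fun w => by
    rw [QuotientGroup.eq_one_iff, hmemU]
  haveI : Nontrivial (W ⧸ U') :=
    QuotientGroup.nontrivial_iff.2 fun h => hUW.not_ge (subgroupOf_eq_top.1 h)
  have hexp : ∀ w : W, ((w : G) ^ r : G) ∈ U := by
    set X := ((powMonoidHom r : (W ⧸ U') →* (W ⧸ U')).range.comap (QuotientGroup.mk' U')).map W.subtype
      with hX
    have hmem : ∀ w : W, (w : G) ∈ X ↔ ∃ s : W, (w : W ⧸ U') = (s : W ⧸ U') ^ r := fun w => by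
      rw [hX]
      refine Iff.trans (mem_map_iff_mem W.subtype_injective) ⟨?_, ?_⟩
      · rintro ⟨s, hs⟩
        induction s using QuotientGroup.induction_on with
        | _ s => exact ⟨s, hs.symm⟩
      · rintro ⟨s, hs⟩
        exact ⟨s, hs.symm⟩
    have hUX : U ≤ X := fun u hu => (hmem ⟨u, hUW.le hu⟩).2 ⟨1, by
      rw [(mk_eq_one _).2 hu, QuotientGroup.mk_one, one_pow]⟩
    have hAX : A ≤ normalizer (X : Set G) := by
      rw [le_normalizer_iff]
      intro g hg w hw
      obtain ⟨s, hs⟩ := (hmem ⟨w, map_subtype_le _ hw⟩).1 hw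
      rw [← QuotientGroup.mk_pow, QuotientGroup.eq, hmemU] at hs
      push_cast at hs
      refine (hmem ⟨g * w * g⁻¹, le_normalizer_iff.1 hAW g hg w (map_subtype_le _ hw)⟩).2
        ⟨⟨g * (s : G) * g⁻¹, le_normalizer_iff.1 hAW g hg s s.2⟩, ?_⟩
      rw [← QuotientGroup.mk_pow, QuotientGroup.eq, hmemU]
      push_cast
      rw [conj_pow]
      simpa [mul_assoc] using le_normalizer_iff.1 hAU g hg _ hs
    rcases hor X hUX (map_subtype_le _) hAX with h | h
    · exact fun w => h ▸ (hmem (w ^ r)).2 ⟨w, QuotientGroup.mk_pow U' w r⟩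
    · exfalso
      obtain ⟨k, hk⟩ := IsPGroup.iff_card.1 (hW.to_quotient U')
      have hk0 : k ≠ 0 := fun h0 => by
        rw [h0, pow_zero] at hk
        exact absurd (Finite.one_lt_card_iff_nontrivial.2 ‹Nontrivial (W ⧸ U')›) (by rw [hk]; omega)
      obtain ⟨c, hc⟩ := exists_prime_orderOf_dvd_card' (G := W ⧸ U') r (hk ▸ dvd_pow_self r hk0)
      have hsurj : Function.Surjective fun s : W ⧸ U' => s ^ r := fun t => by
        induction t using QuotientGroup.induction_on with
        | _ t =>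
          obtain ⟨s, hs⟩ := (hmem t).1 (h.symm ▸ t.2)
          exact ⟨s, hs.symm⟩
      have : c = 1 := Finite.injective_iff_surjective.2 hsurj (by
        show c ^ r = 1 ^ r
        rw [one_pow, ← hc, pow_orderOf_eq_one])
      rw [this, orderOf_one] at hc
      exact absurd hc hr.out.one_lt.ne
  exact exists_rep_of_hom (QuotientGroup.mk' U') (QuotientGroup.mk'_surjective U') mk_eq_one hAW hAU hexp

/-- A supplement of `W` in `A W` meeting `W` inside `U` gives a decomposition of its parameter. -/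
theorem mem_sup_fixed {A W U B : Subgroup G} {r : ℕ} [Fact r.Prime] {V : Type*} [AddCommGroup V]
    [Module (ZMod r) V] (ρ : Representation (ZMod r) A V) (m : W → V)
    (hadd : ∀ s t : W, m (s * t) = m s + m t) (hm0 : ∀ s : W, m s = 0 ↔ (s : G) ∈ U)
    (hρm : ∀ (g : A) (s t : W), (t : G) = g * s * (g : G)⁻¹ → ρ g (m s) = m t)
    (hUW : U ≤ W) (hAWU : A ⊔ W ≤ normalizer (U : Set G)) (hAW : A ≤ normalizer (W : Set G))
    (hBW : B ≤ normalizer (W : Set G)) (hAB : A ≤ W ⊔ B) (hBinf : B ⊓ W ≤ U)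
    (Q : Subgroup A) [Q.Normal] [Fintype Q] (hQk : (Fintype.card Q : ZMod r) ≠ 0)
    (hfix : ∀ v : V, (∀ q ∈ Q, ρ q v = v) → v = 0)
    (x y : A) (w : W) (hxB : (x : G) ∈ B) (hyB : (w : G) * y * (w : G)⁻¹ ∈ B) :
    m w ∈ LinearMap.ker (ρ x - 1) ⊔ LinearMap.ker (ρ y - 1) := by
  have hm1 : m 1 = 0 := (hm0 1).2 (one_mem U)
  have hex : ∀ g : A, ∃ s : W, ∃ u ∈ U, u * ((s : G) * g) ∈ B := fun g => by
    obtain ⟨s, hs, b, hb, hsb⟩ := (mem_sup_of_le_normalizer hBW).1 (hAB g.2)
    refine ⟨⟨s⁻¹, inv_mem hs⟩, 1, one_mem U, ?_⟩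
    rw [← hsb]
    simpa using hb
  choose σ hσ using hex
  have huniq : ∀ (g : A) (s t : W), (∃ u ∈ U, u * ((s : G) * g) ∈ B) →
      (∃ u ∈ U, u * ((t : G) * g) ∈ B) → m s = m t := by
    rintro g s t ⟨u, hu, hsu⟩ ⟨u', hu', htu⟩
    have h1 := mul_mem hsu (inv_mem htu)
    rw [show u * ((s : G) * g) * (u' * ((t : G) * g))⁻¹ = u * ((s : G) * (t : G)⁻¹) * u'⁻¹ by group] at h1
    have h2 := mul_mem (mul_mem (inv_mem hu) (hBinf (mem_inf.2 ⟨h1, mul_mem (mul_mem (hUW hu)
      (mul_mem s.2 (inv_mem t.2))) (inv_mem (hUW hu'))⟩))) hu'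
    have h3 : ((s * t⁻¹ : W) : G) ∈ U := by
      push_cast
      simpa [mul_assoc] using h2
    have h4 := hadd (s * t⁻¹) t
    rw [inv_mul_cancel_right, (hm0 _).2 h3, zero_add] at h4
    exact h4
  have hcj : ∀ (g : A) (s : W), (g : G) * s * (g : G)⁻¹ ∈ W := fun g s =>
    le_normalizer_iff.1 hAW g g.2 s s.2
  have hδ : ∀ g h : A, m (σ (g * h)) = m (σ g) + ρ g (m (σ h)) := by
    intro g h
    rw [hρm g (σ h) ⟨_, hcj g (σ h)⟩ rfl, ← hadd]
    obtain ⟨u, hu, h1⟩ := hσ g
    obtain ⟨u', hu', h2⟩ := hσ h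
    refine huniq (g * h) _ _ (hσ (g * h))
      ⟨u * (((σ g : G) * g) * u' * ((σ g : G) * g)⁻¹), mul_mem hu (le_normalizer_iff.1 hAWU _
          (mul_mem (mem_sup_right (σ g).2) (mem_sup_left g.2)) u' hu'), ?_⟩
    have := mul_mem h1 h2
    convert this using 1
    push_cast
    group
  obtain ⟨v, hv⟩ := cocycle_principal ρ Q hQk hfix (fun g => m (σ g)) hδ
  have hvx : v ∈ LinearMap.ker (ρ x - 1) := by
    have h0 : m (σ x) = 0 := by
      rw [huniq x (σ x) 1 (hσ x) ⟨1, one_mem U, by simpa using hxB⟩, hm1]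
    have h1 := hv x
    rw [h0, eq_comm, sub_eq_zero] at h1
    rw [LinearMap.mem_ker, LinearMap.sub_apply, Module.End.one_apply, sub_eq_zero]
    exact h1.symm
  have hwv : m w - v ∈ LinearMap.ker (ρ y - 1) := by
    have h0 : m (σ y) + ρ y (m w) = m w := by
      rw [hρm y w ⟨_, hcj y w⟩ rfl, ← hadd]
      have key := huniq y (σ y) (w * (⟨_, hcj y w⟩ : W)⁻¹) (hσ y) ⟨1, one_mem U, by
        push_cast
        convert hyB using 1
        group⟩
      rw [hadd, key, ← hadd, inv_mul_cancel_right]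
    rw [LinearMap.mem_ker, LinearMap.sub_apply, Module.End.one_apply, map_sub, sub_eq_zero]
    have h1 := hv y
    have h2 : m (σ y) = m w - ρ y (m w) := eq_sub_of_add_eq h0
    rw [h2, sub_eq_sub_iff_add_eq_add] at h1
    rw [sub_eq_sub_iff_add_eq_add, add_comm (ρ y (m w)) v, ← h1, add_comm]
  rw [show m w = v + (m w - v) by abel]
  exact Submodule.add_mem_sup hvx hwv

/-- A supplement that does not contain `W = [W, Q]` meets it in `U`. -/
theorem inf_le_of_not_le {A W U B Q : Subgroup G} (hWU : ⁅W, W⁆ ≤ U) (hUW : U ≤ W)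
    (hWQ : ⁅W, Q⁆ = W) (hQA : Q ≤ A)
    (hor : ∀ X : Subgroup G, U ≤ X → X ≤ W → A ≤ normalizer (X : Set G) → X = U ∨ X = W)
    (hUc : ∀ u ∈ U, ∀ w ∈ W, u * w = w * u) (hUq : ∀ u ∈ U, ∀ q ∈ Q, u * q = q * u)
    (hBU : B ≤ normalizer (U : Set G)) (hBW : B ≤ normalizer (W : Set G)) (hAB : A ≤ W ⊔ B)
    (hnot : ¬ W ≤ B) : B ⊓ W ≤ U := by
  have hA : A ≤ normalizer ((B ⊓ W ⊔ U : Subgroup G) : Set G) := by
    refine hAB.trans (sup_le (le_normalizer_of_commutator_le (sup_le inf_le_right hUW)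
      (hWU.trans le_sup_right)) ?_)
    refine le_trans (le_inf ?_ hBU) (CfsgLib.Subnormal.normalizer_inf_le_normalizer_sup _ _)
    rw [le_normalizer_iff]
    exact fun b hb z hz => mem_inf.2 ⟨mul_mem (mul_mem hb hz.1) (inv_mem hb),
      le_normalizer_iff.1 hBW b hb z hz.2⟩
  rcases hor _ le_sup_right (sup_le inf_le_right hUW) hA with h | h
  · exact le_sup_left.trans h.le
  exfalso
  have hdec : ∀ s ∈ W, ∃ b ∈ B ⊓ W, ∃ u ∈ U, b * u = s := fun s hs => by
    have hs' : s ∈ U ⊔ (B ⊓ W) := by rwa [sup_comm, h]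
    obtain ⟨u, hu, b, hb, hub⟩ := (mem_sup_of_le_normalizer (inf_le_right.trans
      (le_normalizer_of_commutator_le hUW hWU))).1 hs'
    exact ⟨b, hb, u, hu, by rw [← hub, hUc u hu b hb.2]⟩
  refine hnot (le_of_eq_of_le hWQ.symm (commutator_le.2 fun s hs g hg => ?_))
  obtain ⟨b, hb, u, hu, rfl⟩ := hdec s hs
  obtain ⟨w2, hw2, c, hc, hwc⟩ := (mem_sup_of_le_normalizer hBW).1 (hAB (hQA hg))
  have e1 : ⁅b * u, g⁆ = ⁅b, g⁆ := by
    simp only [commutatorElement_def, mul_inv_rev]
    calc b * u * g * (u⁻¹ * b⁻¹) * g⁻¹ = b * (u * g) * u⁻¹ * b⁻¹ * g⁻¹ := by group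
      _ = b * (g * u) * u⁻¹ * b⁻¹ * g⁻¹ := by rw [hUq u hu g hg]
      _ = b * g * b⁻¹ * g⁻¹ := by group
  obtain ⟨b2, hb2, u2, hu2, hbu⟩ := hdec w2 hw2
  have hcU : c⁻¹ * u2 * c ∈ U := by simpa using le_normalizer_iff.1 hBU c⁻¹ (inv_mem hc) u2 hu2
  have e2 : ⁅b, g⁆ = ⁅b, b2 * c⁆ := by
    rw [show g = (b2 * c) * (c⁻¹ * u2 * c) by rw [← hwc, ← hbu]; group]
    generalize c⁻¹ * u2 * c = z at hcU
    simp only [commutatorElement_def, mul_inv_rev]
    calc b * (b2 * c * z) * b⁻¹ * (z⁻¹ * (c⁻¹ * b2⁻¹))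
        = b * (b2 * c) * (z * b⁻¹) * z⁻¹ * (c⁻¹ * b2⁻¹) := by group
      _ = b * (b2 * c) * (b⁻¹ * z) * z⁻¹ * (c⁻¹ * b2⁻¹) := by rw [hUc _ hcU _ (inv_mem hb.2)]
      _ = b * (b2 * c) * b⁻¹ * (c⁻¹ * b2⁻¹) := by group
  rw [e1, e2, commutatorElement_def]
  exact mul_mem (mul_mem (mul_mem hb.1 (mul_mem hb2.1 hc)) (inv_mem hb.1))
    (inv_mem (mul_mem hb2.1 hc))

/-- The section module is irreducible. -/
theorem irreducible_of_section {A W U : Subgroup G} {r : ℕ} {V : Type*} [AddCommGroup V]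
    [Module (ZMod r) V] (ρ : Representation (ZMod r) A V) (m : W → V) (hmsurj : Function.Surjective m)
    (hadd : ∀ s t : W, m (s * t) = m s + m t) (hm0 : ∀ s : W, m s = 0 ↔ (s : G) ∈ U)
    (hρm : ∀ (g : A) (s t : W), (t : G) = g * s * (g : G)⁻¹ → ρ g (m s) = m t)
    (hUW : U < W) (hAW : A ≤ normalizer (W : Set G))
    (hor : ∀ X : Subgroup G, U ≤ X → X ≤ W → A ≤ normalizer (X : Set G) → X = U ∨ X = W) :
    ∀ S : Submodule (ZMod r) V, (∀ g, ∀ u ∈ S, ρ g u ∈ S) → S = ⊥ ∨ S = ⊤ := by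
  intro S hS
  have hm1 : m 1 = 0 := (hm0 1).2 (one_mem U)
  let X : Subgroup G :=
    ({ carrier := {s : W | m s ∈ S}
       one_mem' := by show m 1 ∈ S; rw [hm1]; exact zero_mem S
       mul_mem' := fun {s t} hs ht => by
        show m (s * t) ∈ S; rw [hadd]; exact add_mem hs ht
       inv_mem' := fun {s} hs => by
        have := hadd s⁻¹ s
        rw [inv_mul_cancel, hm1] at this
        show m s⁻¹ ∈ S
        rw [eq_neg_of_add_eq_zero_left this.symm]
        exact neg_mem hs } : Subgroup W).map W.subtype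
  have hX : ∀ s : W, (s : G) ∈ X ↔ m s ∈ S := fun s => mem_map_iff_mem W.subtype_injective
  rcases hor X (fun u hu => (hX ⟨u, hUW.le hu⟩).2 (by rw [(hm0 _).2 hu]; exact zero_mem S))
      (map_subtype_le _) (le_normalizer_iff.2 fun g hg s hs => by
        have hsW : s ∈ W := map_subtype_le _ hs
        refine (hX ⟨_, le_normalizer_iff.1 hAW g hg s hsW⟩).2 ?_
        rw [← hρm ⟨g, hg⟩ ⟨s, hsW⟩ ⟨_, le_normalizer_iff.1 hAW g hg s hsW⟩ rfl]
        exact hS _ _ ((hX ⟨s, hsW⟩).1 hs)) with h | h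
  · refine Or.inl ((Submodule.eq_bot_iff _).2 fun v hv => ?_)
    obtain ⟨s, rfl⟩ := hmsurj v
    exact (hm0 s).2 (h ▸ (hX s).2 hv)
  · refine Or.inr (Submodule.eq_top_iff'.2 fun v => ?_)
    obtain ⟨s, rfl⟩ := hmsurj v
    exact (hX s).1 (h.symm ▸ s.2)

/-- A normal subgroup `Q` with `W = [W, Q]` fixes no vector of the section module. -/
theorem fixed_eq_zero_of_section {A W U Q : Subgroup G} {r : ℕ} {V : Type*} [AddCommGroup V]
    [Module (ZMod r) V] (ρ : Representation (ZMod r) A V) (m : W → V)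
    (hadd : ∀ s t : W, m (s * t) = m s + m t) (hm0 : ∀ s : W, m s = 0 ↔ (s : G) ∈ U)
    (hρm : ∀ (g : A) (s t : W), (t : G) = g * s * (g : G)⁻¹ → ρ g (m s) = m t)
    (hirr : ∀ S : Submodule (ZMod r) V, (∀ g, ∀ u ∈ S, ρ g u ∈ S) → S = ⊥ ∨ S = ⊤)
    (hUW : U < W) (hWQ : ⁅W, Q⁆ = W) (hQA : Q ≤ A) (hQNW : Q ≤ normalizer (W : Set G))
    [(Q.subgroupOf A).Normal] :
    ∀ v : V, (∀ g ∈ Q.subgroupOf A, ρ g v = v) → v = 0 := by
  intro v hv
  let S : Submodule (ZMod r) V :=
    { carrier := {v | ∀ g ∈ Q.subgroupOf A, ρ g v = v}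
      zero_mem' := fun g _ => map_zero _
      add_mem' := fun {s t} hs ht g hg => by rw [map_add, hs g hg, ht g hg]
      smul_mem' := fun c s hs g hg => by rw [map_smul, hs g hg] }
  rcases hirr S (fun g s hs b hb => by
    have : g⁻¹ * b * g ∈ Q.subgroupOf A := by
      simpa using (inferInstance : (Q.subgroupOf A).Normal).conj_mem b hb g⁻¹
    rw [← Module.End.mul_apply, ← map_mul, show b * g = g * (g⁻¹ * b * g) by group, map_mul,
      Module.End.mul_apply, hs _ this]) with h | h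
  · exact (Submodule.eq_bot_iff S).1 h v hv
  · exfalso
    refine hUW.not_ge (le_of_eq_of_le hWQ.symm ?_)
    rw [commutator_le]
    intro w hw g hg
    have hsw : m ⟨w, hw⟩ ∈ S := h ▸ Submodule.mem_top
    have hgw : g * w * g⁻¹ ∈ W := le_normalizer_iff.1 hQNW g hg w hw
    have h1 := hsw ⟨g, hQA hg⟩ (mem_subgroupOf.2 hg)
    rw [hρm ⟨g, hQA hg⟩ ⟨w, hw⟩ ⟨_, hgw⟩ rfl] at h1
    have hc : w * g * w⁻¹ * g⁻¹ ∈ W := by
      simpa [mul_assoc] using mul_mem hw (le_normalizer_iff.1 hQNW g hg _ (inv_mem hw))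
    have h4 : ((⟨_, hc⟩ * ⟨_, hgw⟩ : W)) = ⟨w, hw⟩ := Subtype.ext (by push_cast; group)
    have h5 := hadd ⟨_, hc⟩ ⟨_, hgw⟩
    rw [h4, h1] at h5
    exact (hm0 ⟨_, hc⟩).1 (add_eq_right.1 h5.symm)

theorem normalClosure_eq_top_of_gen {A : Subgroup G} (x a : A)
    (h : A = zpowers (x : G) ⊔ zpowers ((a : G) * x * (a : G)⁻¹)) :
    normalClosure ({x} : Set A) = ⊤ := by
  have hle : zpowers (x : G) ⊔ zpowers ((a : G) * x * (a : G)⁻¹) ≤
      (normalClosure ({x} : Set A)).map A.subtype := by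
    rw [sup_le_iff, zpowers_le, zpowers_le]
    exact ⟨⟨x, subset_normalClosure rfl, rfl⟩,
      ⟨a * x * a⁻¹, (normalClosure_normal (s := ({x} : Set A))).conj_mem x (subset_normalClosure rfl) a,
        rfl⟩⟩
  refine eq_top_iff.2 fun g _ => ?_
  obtain ⟨g', hg', hgg⟩ := (h.le.trans hle) g.2
  exact (Subtype.ext hgg : g' = g) ▸ hg'

set_option maxHeartbeats 800000 in
theorem le_centralizer_of_maxPair {A : Subgroup G} {x : G} {p : ℕ} (hp : p.Prime) (hp5 : 5 ≤ p)
    (hxp : x ^ p = 1) (hM : MaxPair A x) {q r : ℕ} [Fact q.Prime] [hr : Fact r.Prime] (hqr : q ≠ r)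
    {Q : Subgroup G} (hQA : Q ≤ A) (hAQ : A ≤ normalizer (Q : Set G)) (hQ : IsPGroup q Q) :
    ∀ W : Subgroup G, IsPGroup r W → A ≤ normalizer (W : Set G) → Q ≤ centralizer (W : Set G) := by
  intro W
  induction hn : Nat.card W using Nat.strong_induction_on generalizing W with
  | _ n ih =>
  intro hW hAW
  by_contra hQW
  have hQNW : Q ≤ normalizer (W : Set G) := hQA.trans hAW
  have hcop : (Nat.card Q).Coprime (Nat.card W) := IsPGroup.coprime_card_of_ne q r hqr Q W hQ hW
  haveI : Group.IsSolvable W := by haveI := hW.isNilpotent; infer_instance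
  have hrec : ∀ X : Subgroup G, X < W → A ≤ normalizer (X : Set G) → ⁅X, Q⁆ = ⊥ := by
    intro X hX hAX
    have := ih (Nat.card X) (hn ▸ lt_of_le_of_ne (card_le_of_le hX.le)
      fun h => hX.ne (eq_of_le_of_card_ge hX.le h.ge)) X rfl (hW.to_le hX.le) hAX
    rw [commutator_comm]
    exact commutator_eq_bot_iff_le_centralizer.2 this
  -- `W = [W, Q]`
  have hWQ : ⁅W, Q⁆ = W := by
    by_contra h
    have hle : ⁅W, Q⁆ ≤ W := commutator_le_of_normalizes hQNW
    have hAn : A ≤ normalizer ((⁅W, Q⁆ : Subgroup G) : Set G) := by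
      intro g hg
      rw [mem_normalizer_iff_map_conj_eq, map_commutator]
      rw [mem_normalizer_iff_map_conj_eq.1 (hAW hg), mem_normalizer_iff_map_conj_eq.1 (hAQ hg)]
    have h2 := hrec _ (lt_of_le_of_ne hle h) hAn
    rw [commutator_commutator_eq hQNW hcop (Or.inr ‹_›)] at h2
    exact hQW (commutator_eq_bot_iff_le_centralizer.1 (by rw [commutator_comm]; exact h2))
  have hW1 : W ≠ ⊥ := fun h => hQW (h ▸ by
    intro g _
    rw [mem_centralizer_iff]
    intro y hy
    rw [SetLike.mem_coe, mem_bot] at hy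
    rw [hy, one_mul, mul_one])
  -- a maximal invariant subgroup above the derived subgroup
  obtain ⟨U, ⟨hWU, hUW, hAU⟩, hUmax⟩ := (Set.toFinite
    {U : Subgroup G | ⁅W, W⁆ ≤ U ∧ U < W ∧ A ≤ normalizer (U : Set G)}).exists_maximal
    ⟨⁅W, W⁆, le_rfl, commutator_lt_of_isPGroup hW hW1, fun g hg => by
      rw [mem_normalizer_iff_map_conj_eq, map_commutator,
        mem_normalizer_iff_map_conj_eq.1 (hAW hg)]⟩
  have hUor : ∀ X : Subgroup G, U ≤ X → X ≤ W → A ≤ normalizer (X : Set G) → X = U ∨ X = W := by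
    intro X hUX hXW hAX
    by_cases h : X = W
    · exact Or.inr h
    · exact Or.inl (le_antisymm (hUmax ⟨hWU.trans hUX, lt_of_le_of_ne hXW h, hAX⟩ hUX) hUX)
  have hWnU : W ≤ normalizer (U : Set G) := le_normalizer_of_commutator_le hUW.le hWU
  have hUQ : ⁅U, Q⁆ = ⊥ := hrec U hUW hAU
  have hWUc : ⁅W, U⁆ = ⊥ := by
    conv_lhs => rw [← hWQ]
    refine commutator_commutator_eq_bot_of_rotate ?_ ?_
    · rw [commutator_comm Q U, hUQ, commutator_bot_left]
    · refine le_bot_iff.1 ((commutator_mono ?_ le_rfl).trans hUQ.le)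
      rw [commutator_comm]
      exact commutator_le_of_normalizes hWnU |>.trans' (le_of_eq (commutator_comm _ _))
  have hUc : ∀ u ∈ U, ∀ w ∈ W, u * w = w * u := fun u hu w hw =>
    (commutatorElement_eq_one_iff_mul_comm.1 (mem_bot.1 (hWUc ▸ commutator_mem_commutator hw hu))).symm
  have hUq : ∀ u ∈ U, ∀ q ∈ Q, u * q = q * u := fun u hu g hg =>
    commutatorElement_eq_one_iff_mul_comm.1 (mem_bot.1 (hUQ ▸ commutator_mem_commutator hu hg))
  obtain ⟨a, ha, hAgen⟩ := hM.gen
  set y := a * x * a⁻¹ with hy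
  have hxA : x ∈ A := hAgen ▸ mem_sup_left (mem_zpowers x)
  have hyA : y ∈ A := hAgen ▸ mem_sup_right (mem_zpowers y)
  have hAWs : Group.IsSolvable ↥(A ⊔ W) :=
    CfsgLib.Components.isSolvable_sup hM.solv ‹Group.IsSolvable W› hAW
  have hAWU : A ⊔ W ≤ normalizer (U : Set G) := sup_le hAU hWnU
  -- no new two-conjugate subgroup contains `W`
  have hB : ∀ w ∈ W, ¬ W ≤ zpowers x ⊔ zpowers (w * y * w⁻¹) := by
    intro w hw hle
    set B := zpowers x ⊔ zpowers (w * y * w⁻¹) with hBdef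
    have hyB : y ∈ B := by
      have : w * y * w⁻¹ ∈ B := mem_sup_right (mem_zpowers _)
      have := mul_mem (mul_mem (inv_mem (hle hw)) this) (hle hw)
      simpa [mul_assoc] using this
    have hAB : A ≤ B := by
      rw [hAgen, sup_le_iff, zpowers_le, zpowers_le]
      exact ⟨mem_sup_left (mem_zpowers x), hyB⟩
    have hBle : B ≤ A ⊔ W := by
      rw [hBdef, sup_le_iff, zpowers_le, zpowers_le]
      exact ⟨mem_sup_left hxA, mul_mem (mul_mem (mem_sup_right hw) (mem_sup_left hyA))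
        (inv_mem (mem_sup_right hw))⟩
    haveI := hAWs
    have hBs : Group.IsSolvable B := Group.isSolvable_of_isSolvable_injective (inclusion_injective hBle)
    have hBA := hM.max B hAB hBs ⟨w * a, mul_mem (hle hw) (hAB ha), by
      rw [hBdef, hy]
      congr 2
      group⟩
    refine hQW (commutator_eq_bot_iff_le_centralizer.1 (le_bot_iff.1 ?_))
    have hWA : W ≤ A := hBA ▸ hle
    refine le_trans (le_inf ?_ ?_) (IsPGroup.disjoint_of_ne q r hqr Q W hQ hW).le_bot
    · rw [commutator_comm]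
      exact commutator_le_of_normalizes (hWA.trans hAQ)
        |>.trans' (le_of_eq (commutator_comm _ _))
    · rw [commutator_comm]
      exact commutator_le_of_normalizes hQNW
  obtain ⟨V, iV, iM, iF, iN, ρ, m, hmsurj, hadd, hm0, hρm⟩ :=
    exists_section_module hW hWU hUW hAW hAU hUor
  have hirr := irreducible_of_section ρ m hmsurj hadd hm0 hρm hUW hAW hUor
  haveI : Fintype (Q.subgroupOf A) := Fintype.ofFinite _
  haveI : (Q.subgroupOf A).Normal := (normal_subgroupOf_iff_le_normalizer hQA).2 hAQ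
  have hQk : (Fintype.card (Q.subgroupOf A) : ZMod r) ≠ 0 := by
    rw [ne_eq, ZMod.natCast_eq_zero_iff, ← Nat.card_eq_fintype_card,
      Nat.card_congr (subgroupOfEquivOfLe hQA).toEquiv]
    obtain ⟨j, hj⟩ := IsPGroup.iff_card.1 hQ
    rw [hj]
    exact fun hd => hqr ((Nat.prime_dvd_prime_iff_eq hr.out Fact.out).1 (hr.out.dvd_of_dvd_pow hd)).symm
  have hfix := fixed_eq_zero_of_section ρ m hadd hm0 hρm hirr hUW hWQ hQA hQNW
  set x' : A := ⟨x, hxA⟩ with hx'
  set a' : A := ⟨a, ha⟩ with ha'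
  have hgen : normalClosure ({x'} : Set A) = ⊤ :=
    normalClosure_eq_top_of_gen x' a' hAgen
  have hx1 : ρ x' ≠ 1 := by
    intro h0
    have hker : ⊤ ≤ MonoidHom.ker ρ :=
      hgen ▸ normalClosure_le_normal (Set.singleton_subset_iff.2 (MonoidHom.mem_ker.2 h0))
    obtain ⟨v, hv⟩ := exists_ne (0 : V)
    exact hv (hfix v fun g _ => by rw [MonoidHom.mem_ker.1 (hker (mem_top g))]; rfl)
  haveI := hM.solv
  haveI : FiniteDimensional (ZMod r) V := Module.Finite.of_finite
  have hlt := fixed_lt hp hp5 ρ hirr (x := x') (Subtype.ext (by simpa using hxp)) hx1 hgen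
  -- every vector is a sum of fixed vectors of `x` and `y`
  set Cx := LinearMap.ker (ρ x' - 1) with hCx
  set Cy := LinearMap.ker (ρ (a' * x' * a'⁻¹) - 1) with hCy
  have hcover : Cx ⊔ Cy = ⊤ := by
    refine Submodule.eq_top_iff'.2 fun v => ?_
    obtain ⟨w, rfl⟩ := hmsurj v
    set B := zpowers x ⊔ zpowers ((w : G) * y * (w : G)⁻¹) with hBdef
    have hBle : B ≤ A ⊔ W := by
      rw [hBdef, sup_le_iff, zpowers_le, zpowers_le]
      exact ⟨mem_sup_left hxA, mul_mem (mul_mem (mem_sup_right w.2) (mem_sup_left hyA))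
        (inv_mem (mem_sup_right w.2))⟩
    have hBW : B ≤ normalizer (W : Set G) := hBle.trans (sup_le hAW le_normalizer)
    have hAB : A ≤ W ⊔ B := by
      rw [hAgen, sup_le_iff, zpowers_le, zpowers_le]
      refine ⟨mem_sup_right (mem_sup_left (mem_zpowers x)), ?_⟩
      rw [show y = (w : G)⁻¹ * ((w : G) * y * (w : G)⁻¹) * (w : G) by group]
      exact mul_mem (mul_mem (mem_sup_left (inv_mem w.2)) (mem_sup_right (mem_sup_right (mem_zpowers _))))
        (mem_sup_left w.2)
    exact mem_sup_fixed ρ m hadd hm0 hρm hUW.le hAWU hAW hBW hAB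
      (inf_le_of_not_le hWU hUW.le hWQ hQA hUor hUc hUq (hBle.trans hAWU) hBW hAB (hB w w.2))
      (Q.subgroupOf A) hQk hfix x' (a' * x' * a'⁻¹) w (mem_sup_left (mem_zpowers x))
      (mem_sup_right (mem_zpowers _))
  have hyle : Module.finrank (ZMod r) Cy ≤ Module.finrank (ZMod r) Cx := by
    have hmem : ∀ v ∈ Cy, ρ a'⁻¹ v ∈ Cx := fun v hv => by
      rw [LinearMap.mem_ker, LinearMap.sub_apply, Module.End.one_apply, sub_eq_zero] at hv ⊢
      conv_rhs => rw [← hv]
      simp only [← Module.End.mul_apply, ← map_mul]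
      congr 2
      group
    refine LinearMap.finrank_le_finrank_of_injective (f := (ρ a'⁻¹).restrict hmem) fun s t h => ?_
    have h1 := congrArg (fun z : Cx => ρ a' (z : V)) h
    simp only [LinearMap.restrict_apply, ← Module.End.mul_apply, ← map_mul, mul_inv_cancel,
      map_one, Module.End.one_apply] at h1
    exact Subtype.ext h1
  have htot := Submodule.finrank_sup_add_finrank_inf_eq Cx Cy
  rw [hcover, finrank_top] at htot
  omega

/-- A maximal pair subgroup generates a nilpotent subgroup together with any nilpotent subgroup it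
normalises, after passing to its Fitting subgroup. -/
theorem isNilpotent_fitting_sup {A : Subgroup G} {x : G} {p : ℕ} (hp : p.Prime) (hp5 : 5 ≤ p)
    (hxp : x ^ p = 1) (hM : MaxPair A x) {V : Subgroup G} (hV : Group.IsNilpotent V)
    (hAV : A ≤ normalizer (V : Set G)) :
    Group.IsNilpotent ↥((Cfsg.fittingSubgroup A).map A.subtype ⊔ V) := by
  set F := (Cfsg.fittingSubgroup A).map A.subtype with hF
  haveI hFn : Group.IsNilpotent F := by
    haveI := CfsgLib.Solvable.fittingSubgroup_isNilpotent A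
    exact Group.nilpotent_of_mulEquiv
      (Subgroup.equivMapOfInjective (Cfsg.fittingSubgroup A) A.subtype A.subtype_injective)
  haveI := hV
  have hFA : F ≤ A := map_subtype_le _
  have hAF : A ≤ normalizer (F : Set G) := by
    haveI := CfsgLib.Solvable.fittingSubgroup_normal A
    rw [le_normalizer_iff]
    rintro g hg _ ⟨z, hz, rfl⟩
    exact ⟨⟨g, hg⟩ * z * ⟨g, hg⟩⁻¹, (inferInstance : (Cfsg.fittingSubgroup A).Normal).conj_mem z hz _, rfl⟩
  let pp : ∀ (X : Subgroup G) (l : Nat.Primes), Subgroup G := fun X l =>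
    haveI : Fact (l : ℕ).Prime := ⟨l.2⟩
    ((default : Sylow (l : ℕ) X) : Subgroup X).map X.subtype
  have ppP : ∀ X (l : Nat.Primes), IsPGroup l (pp X l) := fun X l => by
    haveI : Fact (l : ℕ).Prime := ⟨l.2⟩
    exact (default : Sylow (l : ℕ) X).isPGroup'.map _
  have pp_le : ∀ X (l : Nat.Primes), pp X l ≤ X := fun X l => map_subtype_le _
  have ppn : ∀ X : Subgroup G, Group.IsNilpotent X → ∀ l : Nat.Primes,
      normalizer (X : Set G) ≤ normalizer ((pp X l : Subgroup G) : Set G) := fun X hX l => by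
    haveI : Fact (l : ℕ).Prime := ⟨l.2⟩
    haveI := hX
    haveI : ((default : Sylow (l : ℕ) X) : Subgroup X).Normal :=
      inferInstance
    haveI := (default : Sylow (l : ℕ) X).characteristic_of_normal inferInstance
    exact normalizer_le_map_char X _
  have gen : ∀ X K : Subgroup G, (∀ l : Nat.Primes, pp X l ≤ K) → X ≤ K := fun X K h => by
    rw [← subgroupOf_eq_top, ← index_eq_one]
    by_contra h1
    obtain ⟨l, hl, hld⟩ := Nat.exists_prime_and_dvd h1
    haveI : Fact l.Prime := ⟨hl⟩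
    refine (default : Sylow l X).not_dvd_index (dvd_trans hld (index_dvd_of_le ?_))
    exact fun z hz => h ⟨l, hl⟩ ⟨z, hz, rfl⟩
  have comm : ∀ l l' : Nat.Primes, l ≠ l' → pp F l ≤ centralizer (pp V l' : Set G) := fun l l' hll => by
    haveI : Fact (l : ℕ).Prime := ⟨l.2⟩
    haveI : Fact (l' : ℕ).Prime := ⟨l'.2⟩
    exact le_centralizer_of_maxPair hp hp5 hxp hM (fun h => hll (Subtype.ext h))
      ((pp_le F l).trans hFA) (hAF.trans (ppn F hFn l)) (ppP F l) _ (ppP V l')
      (hAV.trans (ppn V hV l'))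
  set N := F ⊔ V with hN
  have hFV : F ≤ normalizer (V : Set G) := hFA.trans hAV
  have key : ∀ l : Nat.Primes, N ≤ normalizer ((pp F l ⊔ pp V l : Subgroup G) : Set G) := fun l => by
    refine sup_le ?_ (gen V _ fun l' => ?_)
    · exact (le_inf (le_normalizer.trans (ppn F hFn l)) (hFV.trans (ppn V hV l))).trans
        (CfsgLib.Subnormal.normalizer_inf_le_normalizer_sup _ _)
    · by_cases hll : l' = l
      · subst hll
        exact le_sup_right.trans le_normalizer
      · refine (le_inf ?_ ((pp_le V l').trans (le_normalizer.trans (ppn V hV l)))).trans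
          (CfsgLib.Subnormal.normalizer_inf_le_normalizer_sup _ _)
        exact (le_centralizer_iff.1 (comm l l' (Ne.symm hll))).trans (centralizer_le_normalizer _)
  haveI := CfsgLib.Solvable.fittingSubgroup_isNilpotent N
  have hle : N ≤ (Cfsg.fittingSubgroup N).map N.subtype := by
    have hl : ∀ l : Nat.Primes, pp F l ⊔ pp V l ≤ (Cfsg.fittingSubgroup N).map N.subtype := fun l => by
      haveI : Fact (l : ℕ).Prime := ⟨l.2⟩
      have hsub : pp F l ⊔ pp V l ≤ N := sup_le_sup (pp_le F l) (pp_le V l)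
      have hP : IsPGroup l ↥(pp F l ⊔ pp V l) := (ppP F l).to_sup_of_normal_right' (ppP V l)
        ((pp_le F l).trans (hFV.trans (ppn V hV l)))
      haveI hP' : IsPGroup l ↥((pp F l ⊔ pp V l).subgroupOf N) :=
        hP.of_equiv (subgroupOfEquivOfLe hsub).symm
      have := CfsgLib.Solvable.le_fittingSubgroup ((normal_subgroupOf_iff_le_normalizer hsub).2 (key l))
        hP'.isNilpotent
      intro z hz
      exact ⟨⟨z, hsub hz⟩, this (mem_subgroupOf.2 hz), rfl⟩
    exact sup_le (gen F _ fun l => le_sup_left.trans (hl l)) (gen V _ fun l => le_sup_right.trans (hl l))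
  exact Group.nilpotent_of_surjective (N.subtype.comp (Cfsg.fittingSubgroup N).subtype |>.codRestrict N
    fun z => z.1.2) fun z => by
      obtain ⟨t, ht, htz⟩ := hle z.2
      exact ⟨⟨t, ht⟩, Subtype.ext htz⟩

end CfsgLib.Solvable.TwoConjMax
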